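import Cfsg.Agent.Lib.SUShort.Bound
import Cfsg.Agent.Lib.SLShort.Counts
import Cfsg.Agent.Lib.SLShort.Shrink
import Cfsg.Agent.Lib.SUCover.Basic

/-!
# Presentations of `SU₃(q)` and `PSU₃(q)` with their sizes, and transport of the unitary groups
-/

set_option autoImplicit false

namespace CfsgLib.SUShort

open CfsgLib.ShortPres (Presents)

theorem preserving_map {R S : Type*} [Field R] [Field S] (e : R ≃+* S) (n q : ℕ)
    (g : Matrix.SpecialLinearGroup (Fin n) R) (hg : g ∈ Cfsg.SU n R q) :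
    CfsgLib.SLShort.slCongr n e g ∈ Cfsg.SU n S q := by
  intro u v
  obtain ⟨u, rfl⟩ : ∃ u' : Fin n → R, u = e ∘ u' := ⟨e.symm ∘ u, by ext; simp⟩
  obtain ⟨v, rfl⟩ : ∃ v' : Fin n → R, v = e ∘ v' := ⟨e.symm ∘ v, by ext; simp⟩
  have h1 : ∀ x : Fin n → R, (Cfsg.slToMat n S (CfsgLib.SLShort.slCongr n e g)).mulVec (e ∘ x) =
      e ∘ (Cfsg.slToMat n R g).mulVec x := fun x => by
    ext i
    simp [CfsgLib.SLShort.slCongr, Cfsg.slToMat, Matrix.mulVec, dotProduct, map_sum]
    rfl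
  have h2 : ∀ x y : Fin n → R, Cfsg.hermForm n S q (e ∘ x) (e ∘ y) = e (Cfsg.hermForm n R q x y) := fun x y => by
    simp [Cfsg.hermForm, map_sum]
  rw [h1, h1, h2, h2]
  exact congrArg e (hg u v)

/-- Transport of the special unitary groups. -/
def suCongr {R S : Type*} [Field R] [Field S] (e : R ≃+* S) (n q : ℕ) : Cfsg.SU n R q ≃* Cfsg.SU n S q where
  toFun g := ⟨CfsgLib.SLShort.slCongr n e g, preserving_map e n q g g.2⟩
  invFun g := ⟨CfsgLib.SLShort.slCongr n e.symm g, preserving_map e.symm n q g g.2⟩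
  left_inv g := by
    refine Subtype.ext ((CfsgLib.SLShort.slCongr n e).injective ?_)
    exact (CfsgLib.SLShort.slCongr n e).apply_symm_apply _
  right_inv g := by
    refine Subtype.ext ?_
    exact (CfsgLib.SLShort.slCongr n e).apply_symm_apply _
  map_mul' g g' := Subtype.ext (map_mul _ _ _)

theorem psu_congr {R S : Type*} [Field R] [Field S] (e : R ≃+* S) (n q : ℕ) :
    Nonempty (Cfsg.PSU n R q ≃* Cfsg.PSU n S q) :=
  ⟨QuotientGroup.congr _ _ (suCongr e n q) (CfsgLib.SLShort.map_center_eq _)⟩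

theorem presents_psu {K : Type} [Field K] [Fintype K] {q n m : ℕ} (hK : Fintype.card K = q ^ 2) (hn : 3 ≤ n)
    {x : Fin m → Cfsg.SU n K q} {rels : Finset (FreeGroup (Fin m))} (h : Presents rels x) :
    ∃ (y : Fin m → Cfsg.PSU n K q) (rels' : Finset (FreeGroup (Fin m))),
      rels'.card ≤ rels.card + 1 ∧ Presents rels' y := by
  classical
  haveI := (CfsgLib.SUCover.center_cyclic hK hn).1
  obtain ⟨z, hz⟩ := IsCyclic.exists_generator (α := Subgroup.center (Cfsg.SU n K q))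
  obtain ⟨rels', hc, hP⟩ := h.quot (QuotientGroup.mk' (Subgroup.center _)) (QuotientGroup.mk'_surjective _) z.1 (by
    rw [QuotientGroup.ker_mk']
    refine le_antisymm (fun g hg => ?_) (Subgroup.zpowers_le.2 z.2)
    obtain ⟨k, hk⟩ := Subgroup.mem_zpowers_iff.1 (hz ⟨g, hg⟩)
    exact Subgroup.mem_zpowers_iff.2 ⟨k, by simpa using congrArg Subtype.val hk⟩)
  exact ⟨_, rels', hc, hP⟩

theorem exists_su3_presentation {K : Type} [Field K] [Fintype K] {q : ℕ} (hK : Fintype.card K = q ^ 2)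
    (hq : 3 ≤ q) :
    ∃ (x : Fin 3 → Cfsg.SU 3 K q) (rels : Finset (FreeGroup (Fin 3))), rels.card ≤ 22 ∧ Presents rels x := by
  obtain ⟨M⟩ := exists_three q hK hq
  obtain ⟨W⟩ := M.exists_choice
  obtain ⟨e, he⟩ := W.exists_iso
  obtain ⟨x, rels, hc, hP⟩ := CfsgLib.SLShort.presents_of_list (Equiv.refl (Fin 3)) W.rels M.gens ⟨e, he⟩
  exact ⟨x, rels, hc.trans W.length_rels, hP⟩

end CfsgLib.SUShort
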