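import Cfsg.Agent.Lib.SL2Pres.Words
import Mathlib.GroupTheory.QuotientGroup.Basic

/-!
# Commutation of the conjugates of one element from boundedly many relations

Two progressions of conjugates, `u_{kn}` and `u_{kn+1}`, are enough for a plane over the fixed field.
-/

set_option autoImplicit false

namespace CfsgLib.SUShort

open Polynomial CfsgLib.SL2Pres

variable {G : Type*} [Group G] {h u z : G}

theorem cj_period {N : ℕ} (hN : h ^ N = 1) (i a : ℕ) : cj h u (i + N * a) = cj h u i := by
  simp only [cj]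
  rw [pow_add, pow_mul, hN, one_pow, mul_one]

theorem conj_mem_of_gens {T : Subgroup G} {S : Set G} (hT : T = Subgroup.closure S) (g : G)
    (hS : ∀ x ∈ S, g * x * g⁻¹ ∈ T) : ∀ x ∈ T, g * x * g⁻¹ ∈ T := by
  subst hT
  intro x hx
  induction hx using Subgroup.closure_induction with
  | mem x hx => exact hS x hx
  | one => simp
  | mul x y _ _ hx hy =>
    rw [show g * (x * y) * g⁻¹ = (g * x * g⁻¹) * (g * y * g⁻¹) by group]
    exact mul_mem hx hy
  | inv x _ hx =>
    rw [show g * x⁻¹ * g⁻¹ = (g * x * g⁻¹)⁻¹ by group]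
    exact inv_mem hx

/-- The progressions of step `d` with the given offsets. -/
def progs (h u : G) (d e : ℕ) : Set G := {x | ∃ n i : ℕ, i < e ∧ x = cj h u (d * n + i)}

theorem map_progs {H : Type*} [Group H] (f : G →* H) (d e : ℕ) :
    f '' progs h u d e = progs (f h) (f u) d e := by
  ext x
  constructor
  · rintro ⟨_, ⟨n, i, hi, rfl⟩, rfl⟩; exact ⟨n, i, hi, map_cj f _ _ _⟩
  · rintro ⟨n, i, hi, rfl⟩; exact ⟨_, ⟨n, i, hi, rfl⟩, map_cj f _ _ _⟩

/-- All conjugates lie in the subgroup generated by `e` progressions and a stable set, as soon as the next one does. -/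
theorem cj_mem_progs {d e : ℕ} (he : 0 < e) {R : Set G}
    (hR : ∀ x ∈ R, h * x * h⁻¹ ∈ Subgroup.closure R)
    (hrec : cj h u e ∈ Subgroup.closure (progs h u d e ∪ R)) (i : ℕ) :
    cj h u i ∈ Subgroup.closure (progs h u d e ∪ R) := by
  set T := Subgroup.closure (progs h u d e ∪ R) with hTd
  have hRT : Subgroup.closure R ≤ T := Subgroup.closure_mono Set.subset_union_right
  have hd : ∀ x ∈ T, ∀ n : ℕ, h ^ (d * n) * x * (h ^ (d * n))⁻¹ ∈ T := by
    intro x hx n
    refine conj_mem_of_gens hTd _ ?_ x hx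
    rintro y (⟨m, j, hj, rfl⟩ | hy)
    · rw [cj_conj, ← add_assoc, ← mul_add]
      exact Subgroup.subset_closure (Or.inl ⟨n + m, j, hj, rfl⟩)
    · refine hRT ?_
      generalize d * n = k
      induction k generalizing y with
      | zero => simpa using Subgroup.subset_closure hy
      | succ k ih =>
        have h1 : ∀ w ∈ Subgroup.closure R, h * w * h⁻¹ ∈ Subgroup.closure R := conj_mem_of_gens rfl _ hR
        rw [show h ^ (k + 1) * y * (h ^ (k + 1))⁻¹ = h * (h ^ k * y * (h ^ k)⁻¹) * h⁻¹ by group]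
        exact h1 _ (ih y hy)
  have h1 : ∀ x ∈ T, h * x * h⁻¹ ∈ T := by
    refine conj_mem_of_gens hTd _ ?_
    rintro y (⟨m, j, hj, rfl⟩ | hy)
    · have e1 : h * cj h u (d * m + j) * h⁻¹ = cj h u (d * m + (j + 1)) := by
        rw [show d * m + (j + 1) = 1 + (d * m + j) by omega, ← cj_conj h u 1, pow_one]
      rw [e1]
      rcases Nat.lt_or_ge (j + 1) e with hje | hje
      · exact Subgroup.subset_closure (Or.inl ⟨m, j + 1, hje, rfl⟩)
      · rw [← cj_conj h u (d * m)]
        exact hd _ (by rw [show j + 1 = e by omega]; exact hrec) m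
    · exact hRT (hR y hy)
  induction i with
  | zero => exact Subgroup.subset_closure (Or.inl ⟨0, 0, he, by simp⟩)
  | succ i ih =>
    rw [add_comm i 1, ← cj_conj h u 1 i, pow_one]
    exact h1 _ ih

/-- An element centralised by a power of `h` commutes with all conjugates, as soon as it commutes with few. -/
theorem central_all {d e : ℕ} (he : 0 < e) (hd : Commute (h ^ d) z)
    (hz : ∀ i < e, Commute z (cj h u i))
    (hzz : ∀ i, Commute z (cj h z i))
    (hrec : cj h u e ∈ Subgroup.closure (progs h u d e ∪ Set.range fun i => cj h z i)) (i : ℕ) :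
    Commute z (cj h u i) := by
  have hmem := cj_mem_progs he (d := d) (R := Set.range fun i => cj h z i) ?_ hrec i
  · have hle : Subgroup.closure (progs h u d e ∪ Set.range fun i => cj h z i) ≤ Subgroup.centralizer {z} := by
      rw [Subgroup.closure_le]
      rintro x (⟨n, j, hj, rfl⟩ | ⟨j, rfl⟩)
      · rw [SetLike.mem_coe, Subgroup.mem_centralizer_singleton_iff]
        have hn : Commute (h ^ (d * n)) z := by rw [pow_mul]; exact hd.pow_left n
        have h2 := (Commute.conj_iff (h ^ (d * n))).mpr (hz j hj)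
        rw [cj_conj, hn.eq, mul_inv_cancel_right] at h2
        exact h2.symm.eq
      · rw [SetLike.mem_coe, Subgroup.mem_centralizer_singleton_iff]
        exact (hzz j).symm.eq
    have := Subgroup.mem_centralizer_singleton_iff.1 (hle hmem)
    exact this.symm
  · rintro _ ⟨j, rfl⟩
    exact Subgroup.subset_closure ⟨1 + j, by simp only; rw [← cj_conj h z 1 j, pow_one]⟩

/-- Two progressions: three commutations and two relations make all conjugates commute. -/
theorem commute_plane {k l m : ℕ} (hm : 0 < m) (hper : h ^ (k * m) = 1) (hrel : cj h u l = u * cj h u k)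
    (hc : Commute u (cj h u k)) (h0 : Commute u (cj h u 1)) (h1 : Commute u (cj h u (k + 1)))
    (hrec : cj h u 2 ∈ Subgroup.closure (progs h u k 2)) (i j : ℕ) :
    Commute (cj h u i) (cj h u j) := by
  have hP : ∀ n : ℕ, Commute u (cj h u (k * n + 1)) := by
    intro n
    induction n using Nat.strong_induction_on with
    | _ n ih =>
      match n with
      | 0 => simpa using h0
      | 1 => simpa using h1
      | n + 2 =>
        have hA := commute_cj (h := h) (u := u) l (i := 0) (j := k * (n + 1) + 1)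
          (by rw [cj_zero]; exact ih (n + 1) (by omega))
        rw [add_zero, add_comm l, ← cj_conj h u (k * (n + 1) + 1) l, hrel] at hA
        have hsplit : h ^ (k * (n + 1) + 1) * (u * cj h u k) * (h ^ (k * (n + 1) + 1))⁻¹ =
            cj h u (k * (n + 1) + 1) * cj h u (k * (n + 2) + 1) := by
          simp only [cj, Nat.mul_succ, pow_add]; group
        rw [hsplit] at hA
        set A := cj h u (k * (n + 1) + 1) with hAd
        set B := cj h u (k * (n + 2) + 1) with hBd
        have huA : Commute u A := ih (n + 1) (by omega)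
        have hkA : Commute (cj h u k) A := by
          have := commute_cj (h := h) (u := u) k (i := 0) (j := k * n + 1) (by rw [cj_zero]; exact ih n (by omega))
          rwa [add_zero, show k + (k * n + 1) = k * (n + 1) + 1 by ring] at this
        have hkB : Commute (cj h u k) B := by
          have := commute_cj (h := h) (u := u) k (i := 0) (j := k * (n + 1) + 1)
            (by rw [cj_zero]; exact ih (n + 1) (by omega))
          rwa [add_zero, show k + (k * (n + 1) + 1) = k * (n + 2) + 1 by ring] at this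
        have h2 : Commute u (A * B) := by
          have := hA.mul_left (hkA.mul_right hkB).inv_left
          rwa [mul_inv_cancel_right] at this
        have h3 := huA.inv_right.mul_right h2
        rwa [inv_mul_cancel_left] at h3
  have hall := cj_mem_progs (h := h) (u := u) two_pos (d := k) (R := ∅) (by simp)
    (by rw [Set.union_empty]; exact hrec)
  simp only [Set.union_empty] at hall
  refine commute_of_mem_closure ?_ (hall i) (hall j)
  have same : ∀ a b : ℕ, Commute (cj h u (k * a)) (cj h u (k * b)) := by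
    intro a b
    rcases le_total a b with hab | hab
    · have := commute_cj (h := h) (u := u) (k * a) (i := 0) (j := k * (b - a))
        (by rw [cj_zero]; exact commute_crw hrel hc _)
      rwa [add_zero, ← mul_add, Nat.add_sub_cancel' hab] at this
    · have := commute_cj (h := h) (u := u) (k * b) (i := 0) (j := k * (a - b))
        (by rw [cj_zero]; exact commute_crw hrel hc _)
      rw [add_zero, ← mul_add, Nat.add_sub_cancel' hab] at this
      exact this.symm
  have mixed : ∀ a b : ℕ, Commute (cj h u (k * a)) (cj h u (k * b + 1)) := by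
    intro a b
    have hle : a ≤ b + m * a := by nlinarith
    have := commute_cj (h := h) (u := u) (k * a) (i := 0) (j := k * (b + m * a - a) + 1)
      (by rw [cj_zero]; exact hP _)
    rw [add_zero, ← add_assoc, ← mul_add, Nat.add_sub_cancel' hle,
      show k * (b + m * a) + 1 = k * b + 1 + k * m * a by ring, cj_period hper] at this
    exact this
  rintro _ ⟨a, i', hi', rfl⟩ _ ⟨b, j', hj', rfl⟩
  interval_cases i' <;> interval_cases j'
  · simpa using same a b
  · simpa using mixed a b
  · simpa using (mixed b a).symm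
  · rw [add_comm _ 1, add_comm _ 1]
    exact commute_cj 1 (same a b)

theorem ev_mem_range (K : Subgroup G) (h z : G) (P : ℤ[X]) (hK : ∀ i, cj h z i ∈ K) : ev h z 1 P ∈ K :=
  ev_mem K h z 1 P fun i _ => by rw [one_mul]; exact hK i

/-- The quotient of the conjugates of `u` by a central subgroup is bounded by the field. -/
theorem card_le_of_plane {F : Type*} [Field F] [Finite F] (ν : F) (hν : ∀ a : F, ∃ P : ℤ[X], aeval ν P = a)
    (p : ℕ) [Fact p.Prime] [CharP F p] (mm : ℤ[X])
    (hker : ∀ P : ℤ[X], aeval ν P = 0 → P ∈ Ideal.span ({C (p : ℤ), mm} : Set ℤ[X]))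
    (Z : Subgroup G) [Finite Z] (hzh : ∀ x ∈ Z, h * x * h⁻¹ ∈ Z) (hzu : ∀ x ∈ Z, ∀ i, Commute x (cj h u i))
    {k l m : ℕ} (hm : 0 < m) (hper : h ^ (k * m) = 1)
    (hp : u ^ (p : ℤ) ∈ Z) (hmm : ev h u 1 mm ∈ Z) (hrel : cj h u l * (u * cj h u k)⁻¹ ∈ Z)
    (hc : u * cj h u k * u⁻¹ * (cj h u k)⁻¹ ∈ Z) (h0 : u * cj h u 1 * u⁻¹ * (cj h u 1)⁻¹ ∈ Z)
    (h1 : u * cj h u (k + 1) * u⁻¹ * (cj h u (k + 1))⁻¹ ∈ Z)
    (hrec : cj h u 2 ∈ Subgroup.closure (progs h u k 2 ∪ Z)) :
    ((Subgroup.closure (Set.range (fun i => cj h u i) ∪ Z) : Subgroup G) : Set G).Finite ∧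
      Nat.card (Subgroup.closure (Set.range (fun i => cj h u i) ∪ Z) : Subgroup G) ≤ Nat.card F * Nat.card Z := by
  classical
  set K := Subgroup.closure ({h, u} ∪ (Z : Set G)) with hKd
  have hh : h ∈ K := Subgroup.subset_closure (by simp)
  have hu : u ∈ K := Subgroup.subset_closure (by simp)
  have hZK : Z ≤ K := fun x hx => Subgroup.subset_closure (Or.inr hx)
  have hhZ : ∀ x, x ∈ Z ↔ h * x * h⁻¹ ∈ Z := fun x => by
    refine ⟨hzh x, fun hx => ?_⟩
    have hsurj : Function.Surjective fun y : Z => (⟨h * y * h⁻¹, hzh _ y.2⟩ : Z) :=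
      Finite.surjective_of_injective fun a b e => Subtype.ext (by simpa using congrArg Subtype.val e)
    obtain ⟨y, hy⟩ := hsurj ⟨_, hx⟩
    have : (y : G) = x := by simpa using congrArg Subtype.val hy
    exact this ▸ y.2
  haveI hN : (Z.subgroupOf K).Normal := by
    rw [← Subgroup.normalizer_eq_top_iff, Subgroup.normalizer_eq_top_iff]
    refine Subgroup.normal_subgroupOf_iff_le_normalizer hZK |>.2 ?_
    rw [hKd, Subgroup.closure_le]
    rintro x (hx | hx)
    · simp only [Set.mem_insert_iff, Set.mem_singleton_iff] at hx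
      rcases hx with e | e <;> subst x
      · exact Subgroup.mem_normalizer_iff.2 hhZ
      · refine Subgroup.mem_normalizer_iff.2 fun y => ⟨fun hy => ?_, fun hy => ?_⟩
        · have := hzu y hy 0
          rw [cj_zero] at this
          rw [this.symm.eq, mul_inv_cancel_right]
          exact hy
        · have := hzu _ hy 0
          rw [cj_zero] at this
          have h2 : u * y * u⁻¹ = y := by
            have h3 := this.eq
            rw [inv_mul_cancel_right] at h3
            calc u * y * u⁻¹ = u⁻¹ * (u * (u * y * u⁻¹)) := by group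
              _ = u⁻¹ * (u * y) := by rw [← h3]
              _ = y := by group
          rwa [h2] at hy
    · exact Subgroup.le_normalizer hx
  let π := QuotientGroup.mk' (Z.subgroupOf K)
  have hcjK : ∀ i, cj h u i ∈ K := fun i => mul_mem (mul_mem (pow_mem hh i) hu) (inv_mem (pow_mem hh i))
  set H' := π ⟨h, hh⟩ with hH'
  set U' := π ⟨u, hu⟩ with hU'
  have one_of : ∀ w : K, (w : G) ∈ Z → π w = 1 := fun w hw => (QuotientGroup.eq_one_iff w).2 hw
  have cj' : ∀ i, π ⟨cj h u i, hcjK i⟩ = cj H' U' i := fun i => by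
    rw [hH', hU', ← map_cj]
    exact congrArg π (Subtype.ext (map_cj K.subtype ⟨h, hh⟩ ⟨u, hu⟩ i).symm)
  have sub_cj : ∀ i, ((cj (⟨h, hh⟩ : K) ⟨u, hu⟩ i : K) : G) = cj h u i := fun i => map_cj K.subtype _ _ i
  have rel_to : ∀ i, u * cj h u i * u⁻¹ * (cj h u i)⁻¹ ∈ Z → Commute U' (cj H' U' i) := by
    intro i hi
    have := one_of (⟨u, hu⟩ * cj ⟨h, hh⟩ ⟨u, hu⟩ i * ⟨u, hu⟩⁻¹ * (cj ⟨h, hh⟩ ⟨u, hu⟩ i)⁻¹)
      (by simpa [sub_cj] using hi)
    rw [map_mul, map_mul, map_mul, map_inv, map_inv, map_cj, mul_inv_eq_one, mul_inv_eq_iff_eq_mul] at this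
    exact this
  have hrel' : cj H' U' l = U' * cj H' U' k := by
    have := one_of (cj ⟨h, hh⟩ ⟨u, hu⟩ l * (⟨u, hu⟩ * cj ⟨h, hh⟩ ⟨u, hu⟩ k)⁻¹) (by simpa [sub_cj] using hrel)
    rw [map_mul, map_inv, map_mul, map_cj, map_cj, mul_inv_eq_one] at this
    exact this
  have hper' : H' ^ (k * m) = 1 := by
    rw [hH', ← map_pow, show (⟨h, hh⟩ : K) ^ (k * m) = 1 from Subtype.ext hper, map_one]
  have hrec' : cj H' U' 2 ∈ Subgroup.closure (progs H' U' k 2) := by
    have hle : Subgroup.closure (progs h u k 2 ∪ (Z : Set G)) ≤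
        (((Subgroup.closure (progs H' U' k 2)).comap π).map K.subtype) := by
      rw [Subgroup.closure_le]
      rintro x (⟨a, i, hi, rfl⟩ | hx)
      · exact ⟨⟨_, hcjK _⟩, by
          rw [SetLike.mem_coe, Subgroup.mem_comap, cj']
          exact Subgroup.subset_closure ⟨a, i, hi, rfl⟩, rfl⟩
      · exact ⟨⟨x, hZK hx⟩, by rw [SetLike.mem_coe, Subgroup.mem_comap, one_of _ hx]; exact one_mem _, rfl⟩
    obtain ⟨w, hw, e⟩ := hle hrec
    rw [SetLike.mem_coe, Subgroup.mem_comap] at hw
    rwa [show w = ⟨cj h u 2, hcjK 2⟩ from Subtype.ext e, cj'] at hw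
  have hcomm := commute_plane hm hper' hrel' (rel_to k hc) (rel_to 1 h0) (rel_to (k + 1) h1) hrec'
  have hS : ∀ P ∈ ({C (p : ℤ), mm} : Set ℤ[X]), ∃ (j : ℕ) (Q : ℤ[X]),
      P = Q.comp (X ^ j) ∧ ev H' U' j Q = 1 ∨ P = X - Q.comp (X ^ j) ∧ cj H' U' 1 = ev H' U' j Q := by
    intro P hP
    simp only [Set.mem_insert_iff, Set.mem_singleton_iff] at hP
    rcases hP with rfl | rfl
    · refine ⟨0, C (p : ℤ), Or.inl ⟨by simp, ?_⟩⟩
      rw [ev_C]
      have := one_of ((⟨u, hu⟩ : K) ^ (p : ℤ)) (by simpa using hp)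
      rwa [map_zpow] at this
    · refine ⟨1, P, Or.inl ⟨by simp, ?_⟩⟩
      have := one_of (ev (⟨h, hh⟩ : K) ⟨u, hu⟩ 1 P) (by
        rw [show ((ev (⟨h, hh⟩ : K) ⟨u, hu⟩ 1 P : K) : G) = ev h u 1 P from map_ev K.subtype _ _ _ _]
        exact hmm)
      rwa [map_ev] at this
  obtain ⟨φ, hφ1, hφ2⟩ := exists_field_hom ν hν H' U' hcomm {C (p : ℤ), mm} hker hS
  have hrange : ∀ x ∈ Subgroup.closure (Set.range (fun i => cj h u i) ∪ Z),
      ∃ hx : x ∈ K, π ⟨x, hx⟩ ∈ φ.range := by
    intro x hx
    induction hx using Subgroup.closure_induction with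
    | mem x hx =>
      rcases hx with ⟨i, rfl⟩ | hx
      · refine ⟨hcjK i, ?_⟩
        simp only [cj']
        induction i with
        | zero => rw [cj_zero, ← hφ1]; exact ⟨_, rfl⟩
        | succ i ih =>
          obtain ⟨a, ha⟩ := ih
          rw [add_comm i 1, ← cj_conj H' U' 1 i, ← ha, pow_one]
          exact ⟨Multiplicative.ofAdd (ν * Multiplicative.toAdd a), by rw [← hφ2, ofAdd_toAdd]⟩
      · exact ⟨hZK hx, by rw [one_of _ hx]; exact one_mem _⟩
    | one => exact ⟨one_mem _, by rw [show (⟨1, one_mem _⟩ : K) = 1 from rfl, map_one]; exact one_mem _⟩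
    | mul x y _ _ hx hy =>
      obtain ⟨hx, hx'⟩ := hx
      obtain ⟨hy, hy'⟩ := hy
      exact ⟨mul_mem hx hy, by
        rw [show (⟨x * y, mul_mem hx hy⟩ : K) = ⟨x, hx⟩ * ⟨y, hy⟩ from rfl, map_mul]
        exact mul_mem hx' hy'⟩
    | inv x _ hx =>
      obtain ⟨hx, hx'⟩ := hx
      exact ⟨inv_mem hx, by
        rw [show (⟨x⁻¹, inv_mem hx⟩ : K) = (⟨x, hx⟩ : K)⁻¹ from rfl, map_inv]
        exact inv_mem hx'⟩
  let sec : F → K := fun a => Function.surjInv (QuotientGroup.mk'_surjective _) (φ (Multiplicative.ofAdd a))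
  let Φ : F × Z → G := fun x => (sec x.1 : G) * x.2
  have hsub : ((Subgroup.closure (Set.range (fun i => cj h u i) ∪ Z) : Subgroup G) : Set G) ⊆ Set.range Φ := by
    intro x hx
    obtain ⟨hxK, a, ha⟩ := hrange x hx
    have e1 : π (sec (Multiplicative.toAdd a)) = π ⟨x, hxK⟩ := by
      rw [← ha]; exact Function.surjInv_eq (QuotientGroup.mk'_surjective _) _
    rw [← inv_mul_eq_one, ← map_inv, ← map_mul] at e1
    refine ⟨(Multiplicative.toAdd a, ⟨_, Subgroup.mem_subgroupOf.1 ((QuotientGroup.eq_one_iff (N := Z.subgroupOf K) _).1 e1)⟩), ?_⟩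
    simp [Φ]
  refine ⟨(Set.finite_range Φ).subset hsub, ?_⟩
  refine le_trans (le_of_eq (Nat.card_coe_set_eq _)) ((Set.ncard_le_ncard hsub (Set.finite_range Φ)).trans ?_)
  rw [← Nat.card_prod]
  exact Nat.card_coe_set_eq (Set.range Φ) ▸ Finite.card_range_le Φ

end CfsgLib.SUShort
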