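import Cfsg.Agent.Lib.SUShort.Field
import Cfsg.Agent.Lib.SUShort.Line
import Cfsg.Agent.Lib.TwoGenClassical.UnitTools
import Cfsg.Agent.Lib.TwoGenClassical.UnitDiag
import Cfsg.Agent.Lib.UnitaryOrder

/-!
# The Borel subgroup of `SU₃(q)` in coordinates, and the rank one identity
-/

set_option autoImplicit false
set_option linter.unusedSectionVars false

namespace CfsgLib.SUShort

open Matrix Polynomial CfsgLib.UnitaryTransvection CfsgLib.UnitarySimple CfsgLib.TwoGenCl.Unit CfsgLib.SL2Pres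

universe u

variable {F : Type u} [Field F] [Fintype F] {q : ℕ}

/-- The constants together with a frame. -/
structure Three (F : Type u) [Field F] [Fintype F] (q : ℕ) extends Con F q where
  fr : Frame F q 3 1 1

variable (q) in
theorem exists_three (hF : Fintype.card F = q ^ 2) (hq : 3 ≤ q) : Nonempty (Three F q) := by
  obtain ⟨C⟩ := exists_con q hF hq
  obtain ⟨fr⟩ := exists_frame (n := 3) hF 1 1 rfl
  exact ⟨⟨C, fr⟩⟩

namespace Three

variable (M : Three F q)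

local notation "σ" => frob M.hF
local notation "h₃" => Cfsg.hermForm 3 F q

/-- The isotropic vector fixed by the Borel subgroup. -/
def e : Fin 3 → F := M.fr.e 0
/-- Its partner. -/
def f : Fin 3 → F := M.fr.f 0
/-- The anisotropic vector. -/
def w : Fin 3 → F := M.fr.u 0

theorem τ_eq (x : F) : M.τ x = σ x := rfl

/-- Extensionality on the frame. -/
theorem ext3 {g g' : Cfsg.SU 3 F q} (he : mat g *ᵥ M.e = mat g' *ᵥ M.e) (hf : mat g *ᵥ M.f = mat g' *ᵥ M.f)
    (hw : mat g *ᵥ M.w = mat g' *ᵥ M.w) : g = g' := by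
  refine M.fr.ext_basis ?_
  rintro ((i | i) | i) <;> rw [Subsingleton.elim i 0]
  · exact he
  · exact hf
  · exact hw

theorem h_ee : h₃ M.e M.e = 0 := M.fr.ee 0 0

theorem h_we {a : F} : h₃ (a • M.w) M.e = 0 := by
  rw [h_smul_left, w, e, M.fr.ue, mul_zero]

theorem norm_iff (a s : F) : h₃ (a • M.w) (a • M.w) + s + σ s = 0 ↔ a * σ a + s + σ s = 0 := by
  rw [h_smul_left, h_smul_right M.hF, w, M.fr.uu, mul_one]

/-- The unipotent element with the given coordinates. -/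
def X (a s : F) (hs : a * σ a + s + σ s = 0) : Cfsg.SU 3 F q :=
  ru M.hF M.h_ee (M.h_we (a := a)) ((M.norm_iff a s).2 hs)

theorem X_e (a s : F) (hs : a * σ a + s + σ s = 0) : mat (M.X a s hs) *ᵥ M.e = M.e := by
  show umat (q := q) M.e (a • M.w) s *ᵥ M.e = _
  rw [umat_mulVec, M.h_ee, h_smul_right M.hF, e, w, M.fr.eu]
  simp

theorem X_f (a s : F) (hs : a * σ a + s + σ s = 0) : mat (M.X a s hs) *ᵥ M.f = M.f + a • M.w + s • M.e := by
  show umat (q := q) M.e (a • M.w) s *ᵥ M.f = _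
  rw [umat_mulVec, h_smul_right M.hF, e, f, w, M.fr.fe, M.fr.fu, if_pos rfl]
  simp

theorem X_w (a s : F) (hs : a * σ a + s + σ s = 0) : mat (M.X a s hs) *ᵥ M.w = M.w - σ a • M.e := by
  show umat (q := q) M.e (a • M.w) s *ᵥ M.w = _
  rw [umat_mulVec, h_smul_right M.hF, e, w, M.fr.ue, M.fr.uu]
  simp

theorem X_congr {a a' s s' : F} (hs : a * σ a + s + σ s = 0) (ha : a = a') (e : s = s')
    (hs' : a' * σ a' + s' + σ s' = 0) : M.X a s hs = M.X a' s' hs' := by subst ha e; rfl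

theorem mul_cond {a b s t : F} (hs : a * σ a + s + σ s = 0) (ht : b * σ b + t + σ t = 0) :
    (a + b) * σ (a + b) + (s + t - b * σ a) + σ (s + t - b * σ a) = 0 := by
  rw [map_add, map_sub, map_add, map_mul, frob_frob]
  linear_combination hs + ht

theorem X_mul {a b s t : F} (hs : a * σ a + s + σ s = 0) (ht : b * σ b + t + σ t = 0) :
    M.X a s hs * M.X b t ht = M.X (a + b) (s + t - b * σ a) (mul_cond M hs ht) := by
  refine M.ext3 ?_ ?_ ?_ <;> rw [mat_mul, ← mulVec_mulVec]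
  · rw [M.X_e, M.X_e, M.X_e]
  · rw [M.X_f, M.X_f, mulVec_add, mulVec_add, mulVec_smul, mulVec_smul, M.X_f, M.X_w, M.X_e]
    module
  · rw [M.X_w, M.X_w, mulVec_sub, mulVec_smul, M.X_w, M.X_e, map_add]
    module

theorem X_zero : M.X 0 0 (by simp) = 1 := by
  refine M.ext3 ?_ ?_ ?_ <;> rw [mat_one, one_mulVec]
  · rw [M.X_e]
  · rw [M.X_f]; simp
  · rw [M.X_w]; simp

theorem X_inj {a a' s s' : F} (hs : a * σ a + s + σ s = 0) (hs' : a' * σ a' + s' + σ s' = 0)
    (e : M.X a s hs = M.X a' s' hs') : a = a' ∧ s = s' := by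
  have h1 := congrArg (fun g => mat g *ᵥ M.f) e
  simp only [M.X_f] at h1
  have h2 := congrArg (fun x => h₃ x M.w) h1
  have h3 := congrArg (fun x => h₃ x M.f) h1
  simp only [h_add_left, h_smul_left, f, w, Three.e, M.fr.fu, M.fr.uu, M.fr.eu, M.fr.ff, M.fr.uf, M.fr.ef,
    if_true] at h2 h3
  exact ⟨by simpa using h2, by simpa using h3⟩

/-- The unipotent subgroup. -/
def UU : Subgroup (Cfsg.SU 3 F q) where
  carrier := {g | ∃ a s, ∃ hs : a * σ a + s + σ s = 0, g = M.X a s hs}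
  one_mem' := ⟨0, 0, by simp, M.X_zero.symm⟩
  mul_mem' := by
    rintro _ _ ⟨a, s, hs, rfl⟩ ⟨b, t, ht, rfl⟩
    exact ⟨_, _, _, M.X_mul hs ht⟩
  inv_mem' := by
    rintro _ ⟨a, s, hs, rfl⟩
    have hs' : (-a) * σ (-a) + σ s + σ (σ s) = 0 := by rw [map_neg, frob_frob]; linear_combination hs
    refine ⟨-a, σ s, hs', inv_eq_of_mul_eq_one_right ?_⟩
    rw [M.X_mul hs hs', ← M.X_zero]
    exact M.X_congr _ (add_neg_cancel a) (by linear_combination hs) _

theorem mem_UU {g : Cfsg.SU 3 F q} : g ∈ M.UU ↔ ∃ a s, ∃ hs : a * σ a + s + σ s = 0, g = M.X a s hs := Iff.rfl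

theorem ω_fix_mul : (M.ω : F) * σ (M.ω : F) = M.ρ := M.norm_ω

theorem ok_tor (x : Fˣ) :
    Frame.Ok (r := 1) M.hF ((dg (F := F) 1 fun _ => x), tw M.hF x) := by
  refine ⟨tw_norm M.hF x, ?_⟩
  rw [dg_det, Fin.prod_univ_one, pow_one, tw_val, mul_div_cancel₀ _ x.ne_zero]

/-- The torus. -/
noncomputable def tor (x : Fˣ) : Cfsg.SU 3 F q := M.fr.levi M.hF _ (M.ok_tor x)

theorem tor_e (x : Fˣ) : mat (M.tor x) *ᵥ M.e = (x : F) • M.e := M.fr.levi_dg_e M.hF _ _ (M.ok_tor x) 0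

theorem tor_f (x : Fˣ) : mat (M.tor x) *ᵥ M.f = (σ (x : F))⁻¹ • M.f := by
  have := M.fr.levi_dg_f M.hF _ _ (M.ok_tor x) 0
  rw [f]
  exact this.trans (by simp)

theorem tor_w (x : Fˣ) : mat (M.tor x) *ᵥ M.w = (σ (x : F) / x) • M.w := by
  rw [tor, w, Frame.levi_u, tw_val]

theorem tor_mul (x y : Fˣ) : M.tor x * M.tor y = M.tor (x * y) := by
  have hx : σ (x : F) ≠ 0 := by simp
  have hy : σ (y : F) ≠ 0 := by simp
  refine M.ext3 ?_ ?_ ?_ <;> rw [mat_mul, ← mulVec_mulVec]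
  · rw [M.tor_e, mulVec_smul, M.tor_e, M.tor_e, smul_smul, Units.val_mul, mul_comm]
  · rw [M.tor_f, mulVec_smul, M.tor_f, M.tor_f, smul_smul, Units.val_mul, map_mul, mul_inv, mul_comm]
  · rw [M.tor_w, mulVec_smul, M.tor_w, M.tor_w, smul_smul, Units.val_mul, map_mul, div_mul_div_comm, mul_comm (σ _),
      mul_comm (y : F)]

theorem tor_one : M.tor 1 = 1 := by
  refine M.ext3 ?_ ?_ ?_ <;> rw [mat_one, one_mulVec]
  · rw [M.tor_e]; simp
  · rw [M.tor_f]; simp
  · rw [M.tor_w]; simp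

theorem tor_pow (x : Fˣ) (i : ℕ) : M.tor x ^ i = M.tor (x ^ i) := by
  induction i with
  | zero => rw [pow_zero, pow_zero, M.tor_one]
  | succ i ih => rw [pow_succ, pow_succ, ih, M.tor_mul]

theorem tor_conj_cond (x : Fˣ) {a s : F} (hs : a * σ a + s + σ s = 0) :
    (σ (x : F) * (σ (x : F) / x) * a) * σ (σ (x : F) * (σ (x : F) / x) * a) + x * σ (x : F) * s +
      σ (x * σ (x : F) * s) = 0 := by
  have hx : σ (x : F) ≠ 0 := by simp
  have hx' := x.ne_zero
  simp only [map_mul, map_div₀, frob_frob]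
  field_simp
  linear_combination (σ (x : F) * x) * hs

theorem tor_conj (x : Fˣ) {a s : F} (hs : a * σ a + s + σ s = 0) :
    M.tor x * M.X a s hs * (M.tor x)⁻¹ = M.X _ _ (tor_conj_cond M x hs) := by
  refine su_ext fun v => ?_
  have e1 := conj_um M.hF (M.tor x) (M.X a s hs) (v := M.e) (a := a • M.w) (s := s) rfl
  rw [M.tor_e, mulVec_smul, M.tor_w, umat_smul M.hF, smul_smul, smul_smul] at e1
  rw [e1]
  show umat (q := q) M.e _ _ *ᵥ v = umat (q := q) M.e _ _ *ᵥ v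
  congr 3
  ring

/-- The Weyl element. -/
noncomputable def wmat : Matrix ((Fin 1 ⊕ Fin 1) ⊕ Fin 1) ((Fin 1 ⊕ Fin 1) ⊕ Fin 1) F :=
  fromBlocks (fromBlocks 0 1 1 0) 0 0 (-1)

theorem wmat_col (b : (Fin 1 ⊕ Fin 1) ⊕ Fin 1) :
    M.fr.mx (wmat (F := F)) *ᵥ M.fr.v b = (if b = Sum.inr 0 then (-1 : F) else 1) • M.fr.v (opp b) := by
  rw [M.fr.mx_mulVec]
  rcases b with (b | b) | b <;> rw [Subsingleton.elim b 0] <;>
    simp [wmat, opp, Fintype.sum_sum_type]

theorem wmat_det : (wmat (F := F)).det = 1 := by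
  rw [wmat, det_fromBlocks_zero₂₁, ← det_submatrix_equiv_self (finSumFinEquiv (m := 1) (n := 1)).symm, det_fin_two]
  simp [finSumFinEquiv, Fin.addCases]

/-- The Weyl element of `SU₃`. -/
noncomputable def nn : Cfsg.SU 3 F q :=
  mkSU (M.fr.mx wmat) (M.fr.mx_isometry M.hF _ fun a b => by
    rw [M.wmat_col, M.wmat_col, h_smul_left, h_smul_right M.hF, M.fr.gram, M.fr.gram]
    rcases a with (a | a) | a <;> rcases b with (b | b) | b <;>
      simp [Subsingleton.elim a 0, Subsingleton.elim b 0, opp])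
    (by rw [M.fr.mx_det, wmat_det])

theorem nn_e : mat M.nn *ᵥ M.e = M.f := by
  show M.fr.mx wmat *ᵥ M.fr.v _ = _
  rw [M.wmat_col]
  simp [f, Frame.f, opp]

theorem nn_f : mat M.nn *ᵥ M.f = M.e := by
  show M.fr.mx wmat *ᵥ M.fr.v _ = _
  rw [M.wmat_col]
  simp [e, Frame.e, opp]

theorem nn_w : mat M.nn *ᵥ M.w = -M.w := by
  show M.fr.mx wmat *ᵥ M.fr.v _ = _
  rw [M.wmat_col]
  simp [w, Frame.u, opp]

theorem nn_sq : M.nn * M.nn = 1 := by
  refine M.ext3 ?_ ?_ ?_ <;> rw [mat_mul, ← mulVec_mulVec, mat_one, one_mulVec]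
  · rw [M.nn_e, M.nn_f]
  · rw [M.nn_f, M.nn_e]
  · rw [M.nn_w, mulVec_neg, M.nn_w, neg_neg]

theorem nn_tor (x : Fˣ) : M.nn * M.tor x * M.nn = M.tor ((Units.map (σ : F →* F) x)⁻¹) := by
  refine M.ext3 ?_ ?_ ?_ <;> rw [mat_mul, mat_mul, ← mulVec_mulVec, ← mulVec_mulVec]
  · rw [M.nn_e, M.tor_f, mulVec_smul, M.nn_f, M.tor_e, Units.val_inv_eq_inv_val]; rfl
  · rw [M.nn_f, M.tor_e, mulVec_smul, M.nn_e, M.tor_f, Units.val_inv_eq_inv_val, map_inv₀, inv_inv]
    congr 1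
    exact (frob_frob M.hF _).symm
  · rw [M.nn_w, mulVec_neg, M.tor_w, mulVec_neg, mulVec_smul, M.nn_w, M.tor_w, smul_neg, neg_neg,
      Units.val_inv_eq_inv_val]
    congr 1
    rw [map_inv₀, show ((Units.map (σ : F →* F) x : Fˣ) : F) = σ (x : F) from rfl, frob_frob]
    have hx : σ (x : F) ≠ 0 := by simp
    field_simp

theorem swap_cond {a s : F} (hs : a * σ a + s + σ s = 0) (hs0 : s ≠ 0) (d : F) (hd : d = s ∨ d = σ s) :
    (-a / d) * σ (-a / d) + 1 / s + σ (1 / s) = 0 := by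
  have h1 : σ s ≠ 0 := by simpa using hs0
  rcases hd with rfl | rfl <;>
  · simp only [map_div₀, map_neg, map_one, frob_frob]
    field_simp
    linear_combination hs

/-- The rank one identity. -/
theorem bruhat {a s : F} (hs : a * σ a + s + σ s = 0) (hs0 : s ≠ 0) (x : Fˣ) (hx : (x : F) = (σ s)⁻¹) :
    M.nn * M.X a s hs * M.nn = M.X (-a / s) (1 / s) (M.swap_cond hs hs0 s (Or.inl rfl)) * M.tor x * M.nn *
      M.X (-a / σ s) (1 / s) (M.swap_cond hs hs0 (σ s) (Or.inr rfl)) := by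
  have h1 : σ s ≠ 0 := by simpa using hs0
  have hsx : σ (x : F) = s⁻¹ := by rw [hx, map_inv₀, frob_frob]
  refine M.ext3 ?_ ?_ ?_ <;> simp only [mat_mul, ← mulVec_mulVec]
  · rw [M.nn_e, M.X_f, M.X_e, M.nn_e, M.tor_f, mulVec_smul, M.X_f]
    simp only [mulVec_add, mulVec_smul, M.nn_f, M.nn_w, M.nn_e, hsx, inv_inv]
    match_scalars <;> field_simp
  · rw [M.nn_f, M.X_e, M.nn_e, M.X_f]
    simp only [mulVec_add, mulVec_smul, mulVec_neg, mulVec_sub, M.nn_f, M.nn_w, M.nn_e, M.tor_e, M.tor_f, M.tor_w,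
      M.X_e, M.X_f, M.X_w, hsx, inv_inv, map_div₀, map_neg, map_one, frob_frob]
    match_scalars <;> (try simp only [hx]) <;> field_simp
    all_goals first | linear_combination hs | linear_combination -hs | ring1
  · rw [M.nn_w, mulVec_neg, M.X_w, M.X_w]
    simp only [mulVec_add, mulVec_smul, mulVec_neg, mulVec_sub, M.nn_f, M.nn_w, M.nn_e, M.tor_e, M.tor_f, M.tor_w,
      M.X_e, M.X_f, M.X_w, hsx, inv_inv, map_div₀, map_neg, map_one, frob_frob]
    match_scalars <;> (try simp only [hx]) <;> field_simp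
    all_goals first | linear_combination hs | linear_combination -hs | ring1

/-- Uniqueness in the big cell. -/
theorem cell_unique {g m : Cfsg.SU 3 F q} (hg : ∃ c : F, mat g *ᵥ M.e = c • M.e) (hm : m ∈ M.UU)
    (h : g = M.nn * m * M.nn) : m = 1 := by
  obtain ⟨a, s, hs, rfl⟩ := hm
  obtain ⟨c, hc⟩ := hg
  rw [h] at hc
  simp only [mat_mul, ← mulVec_mulVec, M.nn_e, M.X_f, mulVec_add, mulVec_smul, M.nn_f, M.nn_w] at hc
  have h2 := congrArg (fun x => h₃ x M.w) hc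
  have h3 := congrArg (fun x => h₃ x M.e) hc
  rw [show (a • -M.w : Fin 3 → F) = (-a) • M.w by module] at h2 h3
  simp only [h_add_left, h_smul_left, f, w, e, M.fr.fu, M.fr.uu, M.fr.eu, M.fr.ee, M.fr.ue, M.fr.fe,
    if_true] at h2 h3
  have ha : a = 0 := by simpa using h2
  have hs' : s = 0 := by simpa using h3
  subst ha hs'
  exact M.X_zero

include M in
theorem card_SU3 : Nat.card (Cfsg.SU 3 F q) = q ^ 3 * (q ^ 2 - 1) * (q ^ 3 + 1) := by
  have h1 := CfsgLib.UnitaryOrder.card_GU_eq (n := 3) M.hF (by norm_num)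
  rw [CfsgLib.UnitaryOrder.card_GU M.hF 3] at h1
  simp only [Finset.prod_range_succ, Finset.prod_range_zero, one_mul] at h1
  norm_num [Nat.even_iff] at h1
  refine Nat.eq_of_mul_eq_mul_left (show 0 < q + 1 by omega) ?_
  rw [← h1]
  ring

end Three

end CfsgLib.SUShort
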