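import Cfsg.Agent.Lib.SUShort.GlueData
import Cfsg.Agent.Lib.SLShort.Perms

/-!
# Gluing `SU₄(q)` to the alternating group: the map to `SU_n(q)` is injective
-/

set_option autoImplicit false
set_option linter.unusedSectionVars false

namespace CfsgLib.SUShort

open Equiv Equiv.Perm Matrix CfsgLib.UnitaryTransvection CfsgLib.UnitarySimple CfsgLib.SUCover
open CfsgLib.ShortPres (cyc3 altOn mem_altOn)

variable {F : Type*} [Field F] [Fintype F] {q n : ℕ} {hF : Fintype.card F = q ^ 2} {hn : 5 ≤ n}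

namespace GlueData

variable {P : Type*} [Group P] (D : GlueData hF hn P)

local notation "E" => E4 hF hn
local notation "σ" => frob hF
local notation "h" => Cfsg.hermForm n F q

/-! ### Disjoint sets -/

/-- Small disjoint sets give commuting subgroups. -/
def Comm : Prop :=
  ∀ S T : Finset (Fin n), (S.card = 2 ∨ S.card = 3) → (T.card = 2 ∨ T.card = 3) → Disjoint S T →
    ∀ g ∈ D.K S, ∀ g' ∈ D.K T, Commute g g'

theorem K_le_centralizer {S : Finset (Fin n)} {Z : Set P}
    (hZ : ∀ (s : alternatingGroup (Fin n)) (k : ℕ) (x : Cfsg.SU 4 F q), (k = 2 ∨ k = 3) → img s (Low k) ⊆ S →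
      E x ∈ Supp (Low k) → ∀ z ∈ Z, Commute (D.cj s x) z) :
    D.K S ≤ Subgroup.centralizer Z := by
  refine (Subgroup.closure_le _).2 ?_
  rintro _ ⟨s, k, x, hk, hS, hx, rfl⟩ z hz
  exact (hZ s k x hk hS hx z hz).symm.eq

theorem commute_disjoint (hC : D.Comm) {S T : Finset (Fin n)} (hST : Disjoint S T) {g g' : P} (hg : g ∈ D.K S)
    (hg' : g' ∈ D.K T) : Commute g g' := by
  have h1 : D.K S ≤ Subgroup.centralizer (D.K T : Set P) := D.K_le_centralizer fun s k x hk hS hx z hz => by
    have h2 : D.K T ≤ Subgroup.centralizer {D.cj s x} := D.K_le_centralizer fun s' k' x' hk' hT hx' w hw => by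
      rw [Set.mem_singleton_iff] at hw
      subst hw
      exact (hC (img s (Low k)) (img s' (Low k')) (by rw [card_img, card_low (by omega)]; exact hk)
        (by rw [card_img, card_low (by omega)]; exact hk') (hST.mono hS hT) _ (D.cj_mem hk subset_rfl hx)
        _ (D.cj_mem hk' subset_rfl hx')).symm
    exact ((h2 hz) _ rfl)
  exact (h1 hg g' hg').symm

theorem comm_small {S T : Finset (Fin n)} (hST : Disjoint S T) (h4 : (S ∪ T).card ≤ 4) {g g' : P}
    (hg : g ∈ D.K S) (hg' : g' ∈ D.K T) : Commute g g' := by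
  have h1 := D.K_mono (T := S ∪ T) Finset.subset_union_left hg
  have h2 := D.K_mono (T := S ∪ T) Finset.subset_union_right hg'
  refine D.small_uniq h4 (mul_mem h1 h2) (mul_mem h2 h1) ?_
  rw [map_mul, map_mul]
  exact (supp_commute hST hF (D.π_mem hg) (D.π_mem hg')).eq

theorem surj_all {S : Finset (Fin n)} (h2 : 2 ≤ S.card) :
    (Supp S : Subgroup (Cfsg.SU n F q)) ≤ (D.K S).map D.π := by
  induction S using Finset.strongInduction with
  | H S ih =>
    rcases le_or_gt S.card 3 with h3 | h3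
    · exact D.surj_small (by omega)
    · obtain ⟨l, hl⟩ := Finset.card_pos.1 (show 0 < S.card by omega)
      have hc : (S.erase l).card = S.card - 1 := Finset.card_erase_of_mem hl
      obtain ⟨b, hb⟩ := Finset.card_pos.1 (show 0 < (S.erase l).card by omega)
      rw [← Finset.insert_erase hl]
      exact D.surj_insert hb (Finset.notMem_erase l S) (by omega) (ih _ (Finset.erase_ssubset hl) (by omega))

theorem exists_lift {S : Finset (Fin n)} (h2 : 2 ≤ S.card) {X : Cfsg.SU n F q} (hX : X ∈ Supp S) :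
    ∃ g ∈ D.K S, D.π g = X := D.surj_all h2 hX

theorem K_split {a b l : Fin n} (hab : a ≠ b) (hal : a ≠ l) (hbl : b ≠ l) (hq : 3 ≤ q) :
    D.K {a, b, l} ≤ D.K {a, b} ⊔ D.K {b, l} := by
  intro g hg
  have h1 : D.π g ∈ (D.K {a, b} ⊔ D.K {b, l}).map D.π := by
    rw [Subgroup.map_sup]
    exact sup_le_sup (D.surj_small (Or.inl (Finset.card_pair hab))) (D.surj_small (Or.inl (Finset.card_pair hbl)))
      (supp_gen_two hF hab hal hbl hq (D.π_mem hg))
  obtain ⟨g', hg', he⟩ := h1
  have hsub : D.K {a, b} ⊔ D.K {b, l} ≤ D.K {a, b, l} := sup_le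
    (D.K_mono fun j hj => by simp only [Finset.mem_insert, Finset.mem_singleton] at hj ⊢; tauto)
    (D.K_mono fun j hj => by simp only [Finset.mem_insert, Finset.mem_singleton] at hj ⊢; tauto)
  rwa [← D.small_uniq (Finset.card_le_three.trans (by norm_num)) (hsub hg') hg he]

theorem comm_of_three_le (hq : 3 ≤ q) : D.Comm := by
  have h22 : ∀ S T : Finset (Fin n), S.card = 2 → T.card = 2 → Disjoint S T →
      ∀ g ∈ D.K S, ∀ g' ∈ D.K T, Commute g g' := fun S T hS hT hd g hg g' hg' =>
    D.comm_small hd (by rw [Finset.card_union_of_disjoint hd, hS, hT]) hg hg'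
  -- replacing a triple by two pairs
  have split : ∀ S T : Finset (Fin n), S.card = 3 →
      (∀ U : Finset (Fin n), U.card = 2 → U ⊆ S → ∀ g ∈ D.K U, ∀ g' ∈ D.K T, Commute g g') →
      ∀ g ∈ D.K S, ∀ g' ∈ D.K T, Commute g g' := by
    intro S T hS hU g hg g' hg'
    obtain ⟨a, b, l, hab, hal, hbl, rfl⟩ := Finset.card_eq_three.1 hS
    have : D.K {a, b} ⊔ D.K {b, l} ≤ Subgroup.centralizer {g'} := sup_le
      (fun x hx => Subgroup.mem_centralizer_singleton_iff.2 (hU {a, b} (Finset.card_pair hab)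
        (fun j hj => by simp only [Finset.mem_insert, Finset.mem_singleton] at hj ⊢; tauto) x hx g' hg').eq)
      (fun x hx => Subgroup.mem_centralizer_singleton_iff.2 (hU {b, l} (Finset.card_pair hbl)
        (fun j hj => by simp only [Finset.mem_insert, Finset.mem_singleton] at hj ⊢; tauto) x hx g' hg').eq)
    exact Subgroup.mem_centralizer_singleton_iff.1 (this (D.K_split hab hal hbl hq hg))
  have h2 : ∀ S T : Finset (Fin n), S.card = 2 → (T.card = 2 ∨ T.card = 3) → Disjoint S T →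
      ∀ g ∈ D.K S, ∀ g' ∈ D.K T, Commute g g' := by
    intro S T hS hT hd g hg g' hg'
    rcases hT with hT | hT
    · exact h22 S T hS hT hd g hg g' hg'
    · exact (split T S hT (fun U hU hUT x hx y hy =>
        (h22 S U hS hU (hd.mono_right hUT) y hy x hx).symm) g' hg' g hg).symm
  intro S T hS hT hd g hg g' hg'
  rcases hS with hS | hS
  · exact h2 S T hS hT hd g hg g' hg'
  · exact split S T hS (fun U hU hUS => h2 U T hU hT (hd.mono_left hUS)) g hg g' hg'

theorem φ_mem {k : ℕ} (hk : k = 2 ∨ k = 3) {x : Cfsg.SU 4 F q} (hx : E x ∈ Supp (Low k)) : D.φ x ∈ D.K (Low k) := by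
  have := D.cj_mem (s := 1) hk (img_one _).le hx
  rwa [cj, map_one, one_mul, inv_one, mul_one] at this

theorem exists_φ {k : ℕ} (hk : k ≤ 4) {g : P} (hg : g ∈ D.K (Low k)) :
    ∃ x, E x ∈ Supp (Low k) ∧ D.φ x = g := by
  obtain ⟨x, rfl⟩ := D.K_low4_le (D.K_mono (low_mono hk) hg)
  exact ⟨x, by rw [← D.hπφ]; exact D.π_mem hg, rfl⟩

theorem comm_gp {S T : Finset (Fin n)} (hS : S.card = 3) (hT : T.card = 2 ∨ T.card = 3) (hd : Disjoint S T)
    (θ : alternatingGroup (Fin n)) (hd' : Disjoint (Low 3) (img θ (Low T.card)))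
    (hcom : ∀ x y, E x ∈ Supp (Low 3) → E y ∈ Supp (Low T.card) → Commute (D.φ x) (D.cj θ y)) :
    ∀ g ∈ D.K S, ∀ g' ∈ D.K T, Commute g g' := by
  intro g hg g' hg'
  obtain ⟨ω, hω1, hω2⟩ := exists_even_map2 hd' hd (by rw [card_low (by omega), hS])
    (by rw [card_img, card_low (by omega)]) (by rw [card_low (by omega)]; norm_num)
  have e1 := D.K_conj ω⁻¹ hg
  have e2 := D.K_conj θ⁻¹ (D.K_conj ω⁻¹ hg')
  rw [← hω1, img_inv_self] at e1
  rw [← hω2, img_inv_self, img_inv_self] at e2
  obtain ⟨x, hx, hxe⟩ := D.exists_φ (by norm_num) e1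
  obtain ⟨y, hy, hye⟩ := D.exists_φ (by omega) e2
  have := (hcom x y hx hy).map (MulAut.conj (D.ρ ω)).toMonoidHom
  rw [cj, hxe, hye] at this
  simp only [MulEquiv.coe_toMonoidHom, MulAut.conj_apply, map_inv, inv_inv] at this
  simpa [mul_assoc] using this

theorem disjoint_σ1 : Disjoint (Low 3) (img (σ1A hn) (Low 2)) := by
  rw [img_σ1A, Finset.disjoint_left]
  intro j hj
  simp only [mem_Low] at hj
  simp [Fin.ext_iff, p5_val]
  omega

theorem disjoint_σ2 (hn6 : 6 ≤ n) : Disjoint (Low 3) (img (σ2A hn6) (Low 3)) := by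
  rw [img_σ2A, Finset.disjoint_left]
  intro j hj
  simp only [mem_Low] at hj
  simp [mem_Low]
  omega

theorem comm_three_two
    (h5 : ∀ x y, E x ∈ Supp (Low 3) → E y ∈ Supp (Low 2) → Commute (D.φ x) (D.cj (σ1A hn) y))
    {S T : Finset (Fin n)} (hS : S.card = 3) (hT : T.card = 2) (hd : Disjoint S T) :
    ∀ g ∈ D.K S, ∀ g' ∈ D.K T, Commute g g' :=
  D.comm_gp hS (Or.inl hT) hd (σ1A hn) (by rw [hT]; exact disjoint_σ1) (by rw [hT]; exact h5)

theorem comm_of_two
    (h5 : ∀ x y, E x ∈ Supp (Low 3) → E y ∈ Supp (Low 2) → Commute (D.φ x) (D.cj (σ1A hn) y))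
    (h6 : ∀ hn6 : 6 ≤ n, ∀ x y, E x ∈ Supp (Low 3) → E y ∈ Supp (Low 3) → Commute (D.φ x) (D.cj (σ2A hn6) y)) :
    D.Comm := by
  intro S T hS hT hd g hg g' hg'
  rcases hS with hS | hS
  · rcases hT with hT | hT
    · exact D.comm_small hd (by rw [Finset.card_union_of_disjoint hd, hS, hT]) hg hg'
    · exact (D.comm_three_two h5 hT hS hd.symm g' hg' g hg).symm
  · rcases hT with hT | hT
    · exact D.comm_three_two h5 hS hT hd g hg g' hg'
    · have h6n : 6 ≤ n := by
        have := Finset.card_le_univ (S ∪ T)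
        rw [Finset.card_union_of_disjoint hd, Fintype.card_fin] at this
        omega
      exact D.comm_gp hS (Or.inr hT) hd (σ2A h6n) (by rw [hT]; exact disjoint_σ2 h6n) (by rw [hT]; exact h6 h6n)
        g hg g' hg'

/-! ### Permutations -/

theorem cyc_mem {i j m : Fin n} (hij : i ≠ j) (him : i ≠ m) (hjm : j ≠ m) {t : alternatingGroup (Fin n)}
    (ht : (t : Perm (Fin n)) = cyc3 i j m) : D.ρ t ∈ D.K {i, j, m} := by
  have hcA : ∀ r, r ∉ (Low 4 : Finset (Fin n)) → (cA hn : Perm (Fin n)) r = r := fun r hr => cA_fix hn hr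
  obtain ⟨y, hy⟩ := D.hA4 (cA hn) hcA
  have hyE : E y ∈ Supp (Low 3) := by
    rw [← D.hπφ, hy, D.hπρ]
    refine pmA_mem_supp hF _ fun r hr => ?_
    rw [mem_Low] at hr
    exact CfsgLib.ShortPres.cyc3_of_ne (fun e => by simp [e, p5_val] at hr) (fun e => by simp [e, p5_val] at hr)
      (fun e => by simp [e, p5_val] at hr)
  -- the even permutations onto the triple
  obtain ⟨π, h0, h1, h2⟩ := CfsgLib.SLShort.exists_perm3 (p5_ne hn (show (0 : Fin 5) ≠ 1 by decide))
    (p5_ne hn (show (0 : Fin 5) ≠ 2 by decide)) (p5_ne hn (show (1 : Fin 5) ≠ 2 by decide)) hij him hjm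
  have key : ∀ (s : alternatingGroup (Fin n)) (i' j' : Fin n), (s : Perm (Fin n)) (p5 hn 0) = i' →
      (s : Perm (Fin n)) (p5 hn 1) = j' → (s : Perm (Fin n)) (p5 hn 2) = m →
      ({i', j'} : Finset (Fin n)) ⊆ {i, j} → ∀ t' : alternatingGroup (Fin n),
        (t' : Perm (Fin n)) = cyc3 i' j' m → D.ρ t' ∈ D.K {i, j, m} := by
    intro s i' j' e0 e1 e2 hsub t' ht'
    obtain rfl : t' = s * cA hn * s⁻¹ := Subtype.ext (by
      rw [ht', Subgroup.coe_mul, Subgroup.coe_mul, Subgroup.coe_inv, cA, CfsgLib.ShortPres.conj_cyc3, e0, e1, e2])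
    rw [map_mul, map_mul, map_inv, ← hy]
    refine D.cj_mem (k := 3) (Or.inr rfl) (fun r hr => ?_) hyE
    obtain ⟨r', hr', rfl⟩ := Finset.mem_map.1 hr
    rw [mem_Low] at hr'
    have : r' = p5 hn 0 ∨ r' = p5 hn 1 ∨ r' = p5 hn 2 := by simp [Fin.ext_iff, p5_val]; omega
    have hi' : i' ∈ ({i, j} : Finset (Fin n)) := hsub (by simp)
    have hj' : j' ∈ ({i, j} : Finset (Fin n)) := hsub (by simp)
    simp only [Finset.mem_insert, Finset.mem_singleton] at hi' hj'
    rcases this with rfl | rfl | rfl <;>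
      simp only [Equiv.coe_toEmbedding, e0, e1, e2, Finset.mem_insert, Finset.mem_singleton] <;> tauto
  rcases Int.units_eq_one_or (sign π) with hs | hs
  · exact key ⟨π, mem_alternatingGroup.2 hs⟩ i j h0 h1 h2 subset_rfl t ht
  · have h3 := key ⟨π * swap (p5 hn 0) (p5 hn 1), mem_alternatingGroup.2 (by
        rw [map_mul, hs, sign_swap (p5_ne hn (by decide))]; rfl)⟩ j i
      (by show π (swap (p5 hn 0) (p5 hn 1) (p5 hn 0)) = j; rw [swap_apply_left, h1])
      (by show π (swap (p5 hn 0) (p5 hn 1) (p5 hn 1)) = i; rw [swap_apply_right, h0])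
      (by show π (swap (p5 hn 0) (p5 hn 1) (p5 hn 2)) = m
          rw [swap_apply_of_ne_of_ne (p5_ne hn (by decide)) (p5_ne hn (by decide)), h2])
      (Finset.pair_comm j i).le t⁻¹ (by rw [Subgroup.coe_inv, ht, CfsgLib.ShortPres.cyc3_swap hij him hjm])
    simpa using inv_mem h3

theorem ρ_altOn_le {X : Finset (Fin n)} {a b : Fin n} (ha : a ∈ X) (hb : b ∈ X) (hab : a ≠ b) {G : Subgroup P}
    (hG : ∀ m ∈ X, m ≠ a → m ≠ b → D.K {a, b, m} ≤ G) {t : alternatingGroup (Fin n)}
    (ht : (t : Perm (Fin n)) ∈ altOn (X : Set (Fin n))) : D.ρ t ∈ G := by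
  have hsub : altOn (X : Set (Fin n)) ≤ (G.comap D.ρ).map (alternatingGroup (Fin n)).subtype := by
    refine (CfsgLib.ShortPres.altOn_le_closure (a := a) (b := b) ha hb hab).trans ((Subgroup.closure_le _).2 ?_)
    rintro _ ⟨m, hm, hma, hmb, rfl⟩
    exact ⟨⟨_, mem_alternatingGroup.2 (CfsgLib.ShortPres.sign_cyc3 hab hma.symm)⟩,
      hG m hm hma hmb (D.cyc_mem hab hma.symm hmb.symm rfl), rfl⟩
  obtain ⟨t', ht', e⟩ := hsub ht
  obtain rfl : t' = t := Subtype.ext e
  exact ht'

/-! ### One more coordinate -/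

theorem h_part (S : Finset (Fin n)) (v : Fin n → F) : h (part S v) (part S v) = ∑ j ∈ S, v j * σ (v j) := by
  show ∑ j, part S v j * part S v j ^ q = _
  rw [← Finset.sum_subset (Finset.subset_univ S) (fun j _ hj => by simp [part, hj])]
  exact Finset.sum_congr rfl fun j hj => by simp [part, hj, frob_apply]

variable (hC : D.Comm) {L : Finset (Fin n)} {a b c l : Fin n}

/-- The double cosets. -/
def Dbl (L : Finset (Fin n)) (a b l : Fin n) : Set P :=
  {g | ∃ h1 ∈ D.K L, ∃ x ∈ D.K {a, b, l}, ∃ h2 ∈ D.K L, g = h1 * x * h2}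

theorem dbl_mul {g h1 h2 : P} (hg : g ∈ D.Dbl L a b l) (h1m : h1 ∈ D.K L) (h2m : h2 ∈ D.K L) :
    h1 * g * h2 ∈ D.Dbl L a b l := by
  obtain ⟨u, hu, x, hx, v, hv, rfl⟩ := hg
  exact ⟨h1 * u, mul_mem h1m hu, x, hx, v * h2, mul_mem hv h2m, by group⟩

structure Cfg (L : Finset (Fin n)) (a b c l : Fin n) : Prop where
  ha : a ∈ L
  hb : b ∈ L
  hc : c ∈ L
  hl : l ∉ L
  hab : a ≠ b
  hac : a ≠ c
  hbc : b ≠ c
  h4 : 4 ≤ L.card

variable (hL : Cfg L a b c l) (ih : ∀ g ∈ D.K L, D.π g = 1 → g = 1)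

include ih in
theorem uniqL {g g' : P} (hg : g ∈ D.K L) (hg' : g' ∈ D.K L) (e : D.π g = D.π g') : g = g' :=
  mul_inv_eq_one.1 (ih _ (mul_mem hg (inv_mem hg')) (by rw [map_mul, map_inv, e, mul_inv_cancel]))

include hL in
theorem sub_facts : ({c, a, b} : Finset (Fin n)) ⊆ L ∧ ({c, a, b} : Finset (Fin n)).card = 3 ∧
    insert l ({c, a, b} : Finset (Fin n)) = {c, a, b, l} ∧ ({a, b, l} : Finset (Fin n)).card = 3 ∧
    a ≠ l ∧ b ≠ l ∧ c ≠ l := by
  have hal : a ≠ l := fun e => hL.hl (e ▸ hL.ha)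
  have hbl : b ≠ l := fun e => hL.hl (e ▸ hL.hb)
  have hcl : c ≠ l := fun e => hL.hl (e ▸ hL.hc)
  refine ⟨fun j hj => ?_, by simp [hL.hac.symm, hL.hbc.symm, hL.hab], by ext j; simp; tauto,
    by simp [hL.hab, hal, hbl], hal, hbl, hcl⟩
  simp only [Finset.mem_insert, Finset.mem_singleton] at hj
  rcases hj with rfl | rfl | rfl
  · exact hL.hc
  · exact hL.ha
  · exact hL.hb

include hL in
theorem four_mem {W : P} (hW : W ∈ D.K {c, a, b, l}) : W ∈ D.Dbl L a b l := by
  obtain ⟨hsub, h3, hins, h3', hal, hbl, hcl⟩ := sub_facts hL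
  have hW' : D.π W ∈ Supp (insert l ({c, a, b} : Finset (Fin n))) := by rw [hins]; exact D.π_mem hW
  obtain ⟨X1, hX1, Z, hZ, X2, hX2, e⟩ := supp_decomp hF (a := a) (b := b) (by simp) (by simp) hL.hab
    (by simp [hal.symm, hbl.symm, hcl.symm]) h3.ge hW'
  obtain ⟨x1, hx1, e1⟩ := D.exists_lift (by omega) hX1
  obtain ⟨x2, hx2, e2⟩ := D.exists_lift (by omega) hX2
  obtain ⟨z, hz, ez⟩ := D.exists_lift (by omega) hZ
  refine ⟨x1, D.K_mono hsub hx1, z, hz, x2, D.K_mono hsub hx2, D.small_uniq Finset.card_le_four hW ?_ ?_⟩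
  · have hc3 : ({c, a, b} : Finset (Fin n)) ⊆ {c, a, b, l} := by
      intro j hj; simp only [Finset.mem_insert, Finset.mem_singleton] at hj ⊢; tauto
    have hT : ({a, b, l} : Finset (Fin n)) ⊆ {c, a, b, l} := Finset.subset_insert _ _
    exact mul_mem (mul_mem (D.K_mono hc3 hx1) (D.K_mono hT hz)) (D.K_mono hc3 hx2)
  · rw [map_mul, map_mul, e1, e2, ez, e]

include hC hL ih in
/-- The product when the moved vector has a good part. -/
theorem mul_mem_of_part {x g y : P} (hx : x ∈ D.K {a, b, l}) (hg : g ∈ D.K L) (hy : y ∈ D.K {b, l})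
    (hp : part ((L.erase a).erase b) (mat (D.π g) *ᵥ ev1 b) = 0 ∨
      h (part ((L.erase a).erase b) (mat (D.π g) *ᵥ ev1 b)) (part ((L.erase a).erase b) (mat (D.π g) *ᵥ ev1 b)) ≠ 0) :
    x * g * y ∈ D.Dbl L a b l := by
  obtain ⟨hsub, h3, hins, h3', hal, hbl, hcl⟩ := sub_facts hL
  set R := (L.erase a).erase b with hR
  have hmemR : ∀ j, j ∈ R ↔ j ≠ b ∧ j ≠ a ∧ j ∈ L := fun j => by simp [hR]
  have hcR : c ∈ R := (hmemR c).2 ⟨hL.hbc.symm, hL.hac.symm, hL.hc⟩
  have hRc : 2 ≤ R.card := by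
    rw [hR, Finset.card_erase_of_mem (by simp [hL.hb, hL.hab.symm]), Finset.card_erase_of_mem hL.ha]
    have := hL.h4
    omega
  have hRL : R ⊆ L := fun j hj => ((hmemR j).1 hj).2.2
  set v := mat (D.π g) *ᵥ (ev1 b : Fin n → F) with hv
  obtain ⟨A, hA, hAv⟩ : ∃ A ∈ (Supp R : Subgroup (Cfsg.SU n F q)), ∀ j ∈ R, j ≠ c → (mat A *ᵥ v) j = 0 := by
    rcases hp with hp | hp
    · refine ⟨1, one_mem _, fun j hj _ => ?_⟩
      rw [mat_one, one_mulVec]
      simpa [part, hj] using congrFun hp j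
    · obtain ⟨t, ht⟩ := exists_norm_eq hF (c := h (part R v) (part R v)) (h_swap hF _ _)
      obtain ⟨A, hA, hAv⟩ := supp_move hF R (vs_part R v) (v := t • ev1 c)
        (fun j hj => by simp [ev1, show j ≠ c from fun e => hj (e ▸ hcR)])
        (fun e => hp (by rw [e]; simp [Cfsg.hermForm]))
        (fun e => hp (by
          have : t = 0 := by simpa [ev1] using congrFun e c
          rw [← ht, this, zero_mul]))
        (by rw [h_smul_left, h_smul_right hF, h_ev1_self hF, mul_one, ht]) (Or.inl ⟨hp, hRc⟩)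
      refine ⟨A, hA, fun j hj hjc => ?_⟩
      conv_lhs => rw [show v = part R v + (v - part R v) by abel, mulVec_add, hAv,
        supp_fix hA (v := v - part R v) (fun i hi => by simp [part, hi])]
      simp [ev1, hjc, part, hj]
  set w := mat A *ᵥ v with hw
  have hg' : A * D.π g ∈ Supp L := mul_mem (supp_mono hRL hA) (D.π_mem hg)
  have hwL : Vs L w := by
    rw [hw, hv, mulVec_mulVec, ← mat_mul]
    exact supp_vs hF hg' (vs_ev1 hL.hb)
  have hwQ : Vs {c, a, b} w := fun j hj => by
    simp only [Finset.mem_insert, Finset.mem_singleton, not_or] at hj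
    by_cases hjL : j ∈ L
    · exact hAv j ((hmemR j).2 ⟨hj.2.2, hj.2.1, hjL⟩) hj.1
    · exact hwL j hjL
  have hw1 : h w w = 1 := by rw [hw, hv, su_h, su_h, h_ev1_self hF]
  obtain ⟨Z, hZ, hZe⟩ := supp_move hF {c, a, b} (vs_ev1 (j := b) (by simp)) hwQ
    (norm_one_ne_zero hF (h_ev1_self hF b)) (norm_one_ne_zero hF hw1) (by rw [h_ev1_self hF, hw1]) (Or.inr h3.ge)
  have hB : Z⁻¹ * (A * D.π g) ∈ Supp (L.erase b) := by
    refine supp_shrink (l := b) ?_ ?_
    · rw [Finset.insert_erase hL.hb]; exact mul_mem (inv_mem (supp_mono hsub hZ)) hg'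
    · rw [mat_mul, mat_mul, ← mulVec_mulVec, ← mulVec_mulVec, ← hv, ← hw, ← hZe, mat_inv_mulVec']
  obtain ⟨A', hA', eA⟩ := D.exists_lift hRc (inv_mem hA)
  obtain ⟨Z', hZ', eZ⟩ := D.exists_lift (by omega) hZ
  obtain ⟨B', hB', eB⟩ := D.exists_lift (by rw [Finset.card_erase_of_mem hL.hb]; have := hL.h4; omega) hB
  have e : g = A' * Z' * B' := D.uniqL ih hg
    (mul_mem (mul_mem (D.K_mono hRL hA') (D.K_mono hsub hZ')) (D.K_mono (Finset.erase_subset _ _) hB'))
    (by rw [map_mul, map_mul, eA, eZ, eB]; group)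
  have d1 : Disjoint ({a, b, l} : Finset (Fin n)) R := by
    rw [Finset.disjoint_left]
    intro j hj hjR
    obtain ⟨r1, r2, r3⟩ := (hmemR j).1 hjR
    simp only [Finset.mem_insert, Finset.mem_singleton] at hj
    rcases hj with rfl | rfl | rfl
    · exact r2 rfl
    · exact r1 rfl
    · exact hL.hl r3
  have d2 : Disjoint (L.erase b) ({b, l} : Finset (Fin n)) := by
    rw [Finset.disjoint_left]
    intro j hj hj'
    simp only [Finset.mem_erase] at hj
    simp only [Finset.mem_insert, Finset.mem_singleton] at hj'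
    rcases hj' with rfl | rfl
    · exact hj.1 rfl
    · exact hL.hl hj.2
  have e' : x * g * y = A' * (x * Z' * y) * B' := by
    rw [e]
    calc x * (A' * Z' * B') * y = (x * A') * Z' * (B' * y) := by group
      _ = (A' * x) * Z' * (y * B') := by rw [(D.commute_disjoint hC d1 hx hA').eq, (D.commute_disjoint hC d2 hB' hy).eq]
      _ = _ := by group
  rw [e']
  refine D.dbl_mul (D.four_mem hL ?_) (D.K_mono hRL hA') (D.K_mono (Finset.erase_subset _ _) hB')
  have hq : ∀ {S : Finset (Fin n)}, S ⊆ {c, a, b, l} → D.K S ≤ D.K {c, a, b, l} := fun hS => D.K_mono hS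
  exact mul_mem (mul_mem (hq (Finset.subset_insert _ _) hx)
    (hq (by intro j hj; simp only [Finset.mem_insert, Finset.mem_singleton] at hj ⊢; tauto) hZ'))
    (hq (by intro j hj; simp only [Finset.mem_insert, Finset.mem_singleton] at hj ⊢; tauto) hy)

include hC hL ih in
/-- The product in all cases. -/
theorem mul_mem_dbl {x g y : P} (hx : x ∈ D.K {a, b, l}) (hg : g ∈ D.K L) (hy : y ∈ D.K {b, l}) :
    x * g * y ∈ D.Dbl L a b l := by
  obtain ⟨hsub, h3, hins, h3', hal, hbl, hcl⟩ := sub_facts hL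
  have hq4 : ∀ {S : Finset (Fin n)}, S ⊆ {c, a, b, l} → D.K S ≤ D.K {c, a, b, l} := fun hS => D.K_mono hS
  have hQ3 : ({c, a, b} : Finset (Fin n)) ⊆ {c, a, b, l} := by
    intro j hj; simp only [Finset.mem_insert, Finset.mem_singleton] at hj ⊢; tauto
  have hQbl : ({b, l} : Finset (Fin n)) ⊆ {c, a, b, l} := by
    intro j hj; simp only [Finset.mem_insert, Finset.mem_singleton] at hj ⊢; tauto
  have hTab : ({a, b} : Finset (Fin n)) ⊆ {a, b, l} := by
    intro j hj; simp only [Finset.mem_insert, Finset.mem_singleton] at hj ⊢; tauto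
  have hTbl : ({b, l} : Finset (Fin n)) ⊆ {a, b, l} := Finset.subset_insert _ _
  have habL : ({a, b} : Finset (Fin n)) ⊆ L := by
    intro j hj
    simp only [Finset.mem_insert, Finset.mem_singleton] at hj
    rcases hj with rfl | rfl
    · exact hL.ha
    · exact hL.hb
  set X := D.π x with hX
  have hXT : X ∈ Supp {a, b, l} := D.π_mem hx
  set w := mat X⁻¹ *ᵥ (ev1 l : Fin n → F) with hw
  have hwT : Vs {a, b, l} w := supp_vs hF (inv_mem hXT) (vs_ev1 (by simp))
  have hw1 : h w w = 1 := by rw [hw, su_h, h_ev1_self hF]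
  by_cases hcase : (w a = 0 ∧ w b = 0) ∨ w a * σ (w a) + w b * σ (w b) ≠ 0
  · -- the first factor splits
    obtain ⟨H2, hH2, hH2v⟩ : ∃ H2 ∈ (Supp {a, b} : Subgroup (Cfsg.SU n F q)), (mat H2 *ᵥ w) a = 0 := by
      rcases hcase with ⟨e1, e2⟩ | hN
      · exact ⟨1, one_mem _, by rw [mat_one, one_mulVec, e1]⟩
      · obtain ⟨t, ht⟩ := exists_norm_eq hF (c := w a * σ (w a) + w b * σ (w b)) (by
          rw [map_add, map_mul, map_mul, frob_frob, frob_frob, mul_comm, mul_comm (σ (w b))])
        obtain ⟨H2, hH2, hH2v⟩ := supp_move hF {a, b} (u := w a • ev1 a + w b • ev1 b) (v := t • ev1 b)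
          (fun j hj => by simp only [Finset.mem_insert, Finset.mem_singleton, not_or] at hj; simp [ev1, hj.1, hj.2])
          (fun j hj => by simp only [Finset.mem_insert, Finset.mem_singleton, not_or] at hj; simp [ev1, hj.2])
          (fun e => hN (by
            have e1 : w a = 0 := by simpa [ev1, hL.hab] using congrFun e a
            have e2 : w b = 0 := by simpa [ev1, hL.hab.symm] using congrFun e b
            rw [e1, e2]; simp))
          (fun e => hN (by
            have e1 : t = 0 := by simpa [ev1] using congrFun e b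
            rw [← ht, e1, zero_mul]))
          (by rw [h_two hF hL.hab, h_smul_left, h_smul_right hF, h_ev1_self hF, mul_one, ht])
          (Or.inl ⟨by rwa [h_two hF hL.hab], by simp [hL.hab]⟩)
        refine ⟨H2, hH2, ?_⟩
        conv_lhs => rw [show w = (w a • ev1 a + w b • ev1 b) + (w - (w a • ev1 a + w b • ev1 b)) by abel, mulVec_add,
          hH2v, supp_fix hH2 (v := w - (w a • ev1 a + w b • ev1 b)) (fun j hj => by
            simp only [Finset.mem_insert, Finset.mem_singleton] at hj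
            rcases hj with rfl | rfl
            · simp [ev1, hL.hab]
            · simp [ev1, hL.hab.symm])]
        simp [ev1, hL.hab]
    set w' := mat H2 *ᵥ w with hw'
    have hw'1 : h w' w' = 1 := by rw [hw', su_h, hw1]
    have hw'T : Vs {b, l} w' := fun j hj => by
      rcases eq_or_ne j a with rfl | hja
      · exact hH2v
      · rw [hw', supp_coord hF hH2 w (by simp only [Finset.mem_insert, Finset.mem_singleton, not_or] at hj ⊢
                                         exact ⟨hja, hj.1⟩)]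
        exact hwT j (by simp only [Finset.mem_insert, Finset.mem_singleton, not_or] at hj ⊢
                        exact ⟨hja, hj⟩)
    obtain ⟨K2, hK2, hK2e⟩ := supp_move hF {b, l} (vs_ev1 (j := l) (by simp)) hw'T
      (norm_one_ne_zero hF (h_ev1_self hF l)) (norm_one_ne_zero hF hw'1) (by rw [h_ev1_self hF, hw'1])
      (Or.inl ⟨by rw [h_ev1_self hF]; exact one_ne_zero, by simp [hbl]⟩)
    have hH1 : X * H2⁻¹ * K2 ∈ Supp ({a, b} : Finset (Fin n)) := by
      refine supp_shrink (l := l) ?_ ?_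
      · rw [show insert l ({a, b} : Finset (Fin n)) = {a, b, l} by ext j; simp; tauto]
        exact mul_mem (mul_mem hXT (inv_mem (supp_mono hTab hH2))) (supp_mono hTbl hK2)
      · rw [mat_mul, mat_mul, ← mulVec_mulVec, ← mulVec_mulVec, hK2e, hw', mat_inv_mulVec', hw, mulVec_mulVec,
          ← mat_mul, mul_inv_cancel, mat_one, one_mulVec]
    obtain ⟨h1, hh1, eh1⟩ := D.exists_lift (Finset.card_pair hL.hab).ge hH1
    obtain ⟨k, hk, ek⟩ := D.exists_lift (Finset.card_pair hbl).ge (inv_mem hK2)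
    obtain ⟨h2, hh2, eh2⟩ := D.exists_lift (Finset.card_pair hL.hab).ge hH2
    have ex : x = h1 * k * h2 := D.small_uniq (by omega) hx
      (mul_mem (mul_mem (D.K_mono hTab hh1) (D.K_mono hTbl hk)) (D.K_mono hTab hh2))
      (by rw [map_mul, map_mul, eh1, ek, eh2]; group; rw [hX])
    -- decomposing the middle factor
    have hg' : h2 * g ∈ D.K L := mul_mem (D.K_mono habL hh2) hg
    have hgS : D.π (h2 * g) ∈ Supp (insert b (L.erase b)) := by
      rw [Finset.insert_erase hL.hb]; exact D.π_mem hg'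
    have hcE : c ∈ L.erase b := Finset.mem_erase.2 ⟨hL.hbc.symm, hL.hc⟩
    have haE : a ∈ L.erase b := Finset.mem_erase.2 ⟨hL.hab, hL.ha⟩
    have hE3 : 3 ≤ (L.erase b).card := by
      rw [Finset.card_erase_of_mem hL.hb]; have := hL.h4; omega
    obtain ⟨A, hA, Z, hZ, B, hB, eAZB⟩ := supp_decomp hF hcE haE hL.hac.symm (Finset.notMem_erase b L) hE3 hgS
    obtain ⟨A', hA', eA⟩ := D.exists_lift (by omega) hA
    obtain ⟨Z', hZ', eZ⟩ := D.exists_lift (by omega) hZ
    obtain ⟨B', hB', eB⟩ := D.exists_lift (by omega) hB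
    have eg : h2 * g = A' * Z' * B' := D.uniqL ih hg'
      (mul_mem (mul_mem (D.K_mono (Finset.erase_subset _ _) hA') (D.K_mono hsub hZ'))
        (D.K_mono (Finset.erase_subset _ _) hB'))
      (by rw [eAZB, map_mul, map_mul, eA, eZ, eB])
    have d : Disjoint (L.erase b) ({b, l} : Finset (Fin n)) := by
      rw [Finset.disjoint_left]
      intro j hj hj'
      simp only [Finset.mem_erase] at hj
      simp only [Finset.mem_insert, Finset.mem_singleton] at hj'
      rcases hj' with rfl | rfl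
      · exact hj.1 rfl
      · exact hL.hl hj.2
    have e' : x * g * y = (h1 * A') * (k * Z' * y) * B' := by
      calc x * g * y = h1 * k * (h2 * g) * y := by rw [ex]; group
        _ = h1 * (k * A') * Z' * (B' * y) := by rw [eg]; group
        _ = h1 * (A' * k) * Z' * (y * B') := by
          rw [(D.commute_disjoint hC d hA' hk).eq, (D.commute_disjoint hC d hB' hy).eq]
        _ = _ := by group
    rw [e']
    refine D.dbl_mul (D.four_mem hL ?_) (mul_mem (D.K_mono habL hh1) (D.K_mono (Finset.erase_subset _ _) hA'))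
      (D.K_mono (Finset.erase_subset _ _) hB')
    exact mul_mem (mul_mem (hq4 hQbl hk) (hq4 hQ3 hZ')) (hq4 hQbl hy)
  · push Not at hcase
    obtain ⟨hne, hN⟩ := hcase
    set R := (L.erase a).erase b with hR
    set v := mat (D.π g) *ᵥ (ev1 b : Fin n → F) with hv
    by_cases hp : part R v = 0 ∨ h (part R v) (part R v) ≠ 0
    · exact D.mul_mem_of_part hC hL ih hx hg hy hp
    push Not at hp
    obtain ⟨-, hp0⟩ := hp
    rw [h_part (hF := hF)] at hp0
    have hwa : w a ≠ 0 := fun e => by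
      rw [e, zero_mul, zero_add, mul_eq_zero] at hN
      rcases hN with h0 | h0
      · exact hne e h0
      · exact hne e (by simpa using h0)
    have hvL : Vs L v := supp_vs hF (D.π_mem hg) (vs_ev1 hL.hb)
    have hv1 : h v v = 1 := by rw [hv, su_h, h_ev1_self hF]
    have hv2 : v a * σ (v a) + v b * σ (v b) = 1 := by
      have e : h v v = ∑ j ∈ L, v j * σ (v j) := by
        show ∑ j, v j * v j ^ q = _
        rw [← Finset.sum_subset (Finset.subset_univ L) (fun j _ hj => by rw [hvL j hj, zero_mul])]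
        simp only [frob_apply]
      rw [hv1, ← Finset.sum_erase_add L _ hL.ha,
        ← Finset.sum_erase_add (L.erase a) _ (Finset.mem_erase.2 ⟨hL.hab.symm, hL.hb⟩), hp0] at e
      linear_combination -e
    set z : Fin n → F := w a • ev1 a + w b • ev1 b with hz
    have hzz : h z z = 0 := by rw [hz, h_two hF hL.hab, hN]
    have hzc : z c = 0 := by simp [hz, ev1, hL.hac.symm, hL.hbc.symm]
    have hvz : h v z ≠ 0 := fun e => by
      rw [hz, h_add_right hF, h_smul_right hF, h_smul_right hF, h_ev1 hF, h_ev1 hF] at e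
      have e' := congrArg σ e
      simp only [map_add, map_mul, map_zero, frob_frob] at e'
      have : (v a * σ (v a) + v b * σ (v b)) * (w a * σ (w a)) = 0 := by
        linear_combination (w a * σ (v a)) * e - (v b * σ (w b)) * e' + (v b * σ (v b)) * hN
      rw [hv2, one_mul] at this
      exact mul_ne_zero hwa (by simpa using hwa) this
    -- the target of the coordinate
    obtain ⟨T, hT⟩ : ∃ T : F, T * σ T - v c * σ (v c) ≠ 0 := by
      by_cases hc0 : v c = 0
      · exact ⟨1, by simp [hc0]⟩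
      · exact ⟨0, by simp [hc0]⟩
    set t := (T - v c) / h v z with ht
    obtain ⟨s, hs⟩ := exists_trace hF (c := h (t • ev1 c : Fin n → F) (t • ev1 c)) (h_swap hF _ _)
    have hcz : h (t • ev1 c : Fin n → F) z = 0 := by rw [h_smul_left, h_ev1_left hF, hzc, map_zero, mul_zero]
    set U := ru hF hzz hcz hs with hU
    have hUmem : U ∈ Supp ({c, a, b} : Finset (Fin n)) := fun j hj => by
      simp only [Finset.mem_insert, Finset.mem_singleton, not_or] at hj
      rw [hU, ru_mulVec, h_ev1_left hF, h_ev1_left hF]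
      simp [hz, ev1, hj.1, hj.2.1, hj.2.2]
    have hUw : mat U *ᵥ w = w := by
      have e1 : h w z = 0 := by
        rw [hz, h_add_right hF, h_smul_right hF, h_smul_right hF, h_ev1 hF, h_ev1 hF]
        linear_combination hN
      have e2 : h w (t • ev1 c) = 0 := by
        rw [h_smul_right hF, h_ev1 hF, hwT c (by simp [hL.hac.symm, hL.hbc.symm, hcl]), mul_zero]
      rw [hU, ru_mulVec, e1, e2]
      simp
    have hXU : X * U⁻¹ * X⁻¹ ∈ Supp ({c, a, b} : Finset (Fin n)) := by
      refine supp_shrink (l := l) ?_ ?_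
      · rw [hins]
        exact mul_mem (mul_mem (supp_mono (Finset.subset_insert _ _) hXT) (inv_mem (supp_mono hQ3 hUmem)))
          (inv_mem (supp_mono (Finset.subset_insert _ _) hXT))
      · rw [mat_mul, mat_mul, ← mulVec_mulVec, ← mulVec_mulVec, ← hw]
        conv_lhs => rw [show mat U⁻¹ *ᵥ w = w by conv_lhs => rw [← hUw, mat_inv_mulVec']]
        rw [hw, mulVec_mulVec, ← mat_mul, mul_inv_cancel, mat_one, one_mulVec]
    obtain ⟨u, hu, eu⟩ := D.exists_lift (by omega) hUmem
    obtain ⟨u', hu', eu'⟩ := D.exists_lift (by omega) hXU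
    have hxu : x * u⁻¹ * x⁻¹ = u' := D.small_uniq Finset.card_le_four
      (mul_mem (mul_mem (hq4 (Finset.subset_insert _ _) hx) (inv_mem (hq4 hQ3 hu)))
        (inv_mem (hq4 (Finset.subset_insert _ _) hx)))
      (hq4 hQ3 hu') (by rw [map_mul, map_mul, map_inv, map_inv, eu, eu'])
    have hv' : mat (D.π (u * g)) *ᵥ (ev1 b : Fin n → F) = mat U *ᵥ v := by
      rw [map_mul, eu, mat_mul, ← mulVec_mulVec]
    have hgood := D.mul_mem_of_part hC hL ih hx (mul_mem (D.K_mono hsub hu) hg) hy (Or.inr (by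
      rw [hv', h_part (hF := hF), ← hR]
      have hcR : c ∈ R := by simp [hR, hL.hbc.symm, hL.hac.symm, hL.hc]
      rw [← Finset.sum_erase_add R _ hcR]
      have e1 : ∀ j ∈ R.erase c, (mat U *ᵥ v) j = v j := fun j hj => by
        simp only [hR, Finset.mem_erase] at hj
        rw [hU, ru_mulVec]
        simp [hz, ev1, hj.1, hj.2.1, hj.2.2.1]
      have e2 : (mat U *ᵥ v) c = T := by
        rw [hU, ru_mulVec]
        simp only [Pi.add_apply, Pi.sub_apply, Pi.smul_apply, smul_eq_mul, hzc, mul_zero, add_zero, sub_zero]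
        simp only [ev1, Pi.single_eq_same, mul_one]
        rw [ht, mul_div_cancel₀ _ hvz]
        ring
      rw [e2, Finset.sum_congr rfl (g := fun j => v j * σ (v j)) (fun j hj => by rw [e1 j hj])]
      rw [← Finset.sum_erase_add R _ hcR] at hp0
      intro e3
      exact hT (by linear_combination e3 - hp0)))
    rw [show x * g * y = u' * (x * (u * g) * y) * 1 by rw [← hxu]; group]
    exact D.dbl_mul hgood (D.K_mono hsub hu') (one_mem _)

include hC hL ih in
/-- The kernel stays trivial after adding a coordinate. -/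
theorem inj_insert {g : P} (hg : g ∈ D.K (insert l L)) (h1 : D.π g = 1) : g = 1 := by
  obtain ⟨hsub, h3, hins, h3', hal, hbl, hcl⟩ := sub_facts hL
  set G := D.K L ⊔ D.K {b, l} with hG
  -- the four-coordinate block
  have hQG : D.K {c, a, b, l} ≤ G := by
    intro w hw
    have hw' : D.π w ∈ Supp (insert l ({c, a, b} : Finset (Fin n))) := by rw [hins]; exact D.π_mem hw
    have hm : D.π w ∈ (D.K {c, a, b} ⊔ D.K {b, l}).map D.π := by
      rw [Subgroup.map_sup]
      exact sup_le_sup (D.surj_small (Or.inr h3)) (D.surj_small (Or.inl (Finset.card_pair hbl)))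
        (supp_gen hF (b := b) (by simp) (by simp [hal.symm, hbl.symm, hcl.symm]) h3.ge hw')
    obtain ⟨w', hw'', e⟩ := hm
    have hle : D.K {c, a, b} ⊔ D.K {b, l} ≤ D.K {c, a, b, l} := sup_le
      (D.K_mono (by intro j hj; simp only [Finset.mem_insert, Finset.mem_singleton] at hj ⊢; tauto))
      (D.K_mono (by intro j hj; simp only [Finset.mem_insert, Finset.mem_singleton] at hj ⊢; tauto))
    rw [← D.small_uniq Finset.card_le_four (hle hw'') hw e]
    exact sup_le_sup_right (D.K_mono hsub) _ hw''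
  have hρ : ∀ t : alternatingGroup (Fin n), (t : Perm (Fin n)) ∈ altOn ((insert l L : Finset (Fin n)) : Set (Fin n)) →
      D.ρ t ∈ G := fun t ht => D.ρ_altOn_le (a := a) (b := b) (Finset.mem_insert_of_mem hL.ha)
    (Finset.mem_insert_of_mem hL.hb) hL.hab (fun m hm hma hmb => by
      rcases Finset.mem_insert.1 hm with rfl | hm
      · exact (D.K_mono (Finset.subset_insert _ _)).trans hQG
      · refine le_trans (D.K_mono fun j hj => ?_) le_sup_left
        simp only [Finset.mem_insert, Finset.mem_singleton] at hj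
        rcases hj with rfl | rfl | rfl
        · exact hL.ha
        · exact hL.hb
        · exact hm) ht
  have hgen : D.K (insert l L) ≤ G := by
    refine (Subgroup.closure_le _).2 ?_
    rintro _ ⟨s, k, x, hk, hS, hx, rfl⟩
    by_cases hls : l ∈ img s (Low k)
    swap
    · exact le_sup_left (α := Subgroup P) (D.cj_mem hk (fun j hj =>
        (Finset.mem_insert.1 (hS hj)).resolve_left fun e => hls (e ▸ hj)) hx)
    obtain ⟨j, hj, hjs⟩ : ∃ j ∈ L, j ∉ img s (Low k) := by
      by_contra hcon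
      push Not at hcon
      have := Finset.card_le_card hcon
      rw [card_img, card_low (by omega)] at this
      have := hL.h4
      omega
    obtain ⟨m, hm, hmj⟩ := Finset.exists_mem_ne (show 1 < L.card by have := hL.h4; omega) j
    have hlj : l ≠ j := fun e => hL.hl (e ▸ hj)
    have hlm : l ≠ m := fun e => hL.hl (e ▸ hm)
    let θ : alternatingGroup (Fin n) := ⟨cyc3 l j m, mem_alternatingGroup.2 (CfsgLib.ShortPres.sign_cyc3 hlj hlm)⟩
    have hθ : (θ : Perm (Fin n)) ∈ altOn ((insert l L : Finset (Fin n)) : Set (Fin n)) :=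
      CfsgLib.ShortPres.cyc3_mem_altOn (Finset.mem_insert_self _ _) (Finset.mem_insert_of_mem hj)
        (Finset.mem_insert_of_mem hm) hlj hlm
    have hsubL : img (θ⁻¹ * s) (Low k) ⊆ L := fun i hi => by
      rw [img_mul, mem_img, Subgroup.coe_inv, inv_inv] at hi
      have hi' := hS hi
      have hil : i ≠ l := fun e => by
        rw [e] at hi
        exact hjs (by rwa [show (θ : Perm (Fin n)) l = j from CfsgLib.ShortPres.cyc3_a hlj hmj] at hi)
      by_contra hiL
      have hfix : (θ : Perm (Fin n)) i = i := (mem_altOn.1 hθ).1 i (by simp [hil, hiL])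
      rw [hfix] at hi'
      exact hiL ((Finset.mem_insert.1 hi').resolve_left hil)
    have := mul_mem (mul_mem (hρ θ hθ) (le_sup_left (α := Subgroup P) (D.cj_mem hk hsubL hx))) (inv_mem (hρ θ hθ))
    rwa [← D.cj_mul, mul_inv_cancel_left] at this
  -- the double cosets exhaust the subgroup
  have hclosed : ∀ u, (u ∈ D.K L ∨ u ∈ D.K {b, l}) → ∀ d ∈ D.Dbl L a b l, d * u ∈ D.Dbl L a b l := by
    rintro u (hu | hu) d hd
    · simpa using D.dbl_mul hd (one_mem _) hu
    · obtain ⟨h1', hh1, x, hx, h2', hh2, rfl⟩ := hd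
      rw [show h1' * x * h2' * u = h1' * (x * h2' * u) * 1 by group]
      exact D.dbl_mul (D.mul_mem_dbl hC hL ih hx hh2 hu) hh1 (one_mem _)
  let St : Subgroup P :=
    { carrier := {u | ∀ d, d * u ∈ D.Dbl L a b l ↔ d ∈ D.Dbl L a b l}
      one_mem' := fun d => by rw [mul_one]
      mul_mem' := fun {u v} hu hv d => by rw [← mul_assoc]; exact (hv _).trans (hu d)
      inv_mem' := fun {u} hu d => by rw [← hu (d * u⁻¹), inv_mul_cancel_right] }
  have hSt : G ≤ St := by
    have key : ∀ (K : Subgroup P), (∀ u ∈ K, u ∈ D.K L ∨ u ∈ D.K {b, l}) → K ≤ St := fun K hK u hu d =>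
      ⟨fun hd => by simpa using hclosed u⁻¹ (hK _ (inv_mem hu)) _ hd, fun hd => hclosed u (hK u hu) d hd⟩
    exact sup_le (key _ fun u hu => Or.inl hu) (key _ fun u hu => Or.inr hu)
  have hone : (1 : P) ∈ D.Dbl L a b l := ⟨1, one_mem _, 1, one_mem _, 1, one_mem _, by simp⟩
  obtain ⟨u1, hu1, x, hx, u2, hu2, e⟩ : g ∈ D.Dbl L a b l := by
    have := (hSt (hgen hg) 1).2 hone
    rwa [one_mul] at this
  have hxπ : D.π x = (D.π u1)⁻¹ * (D.π u2)⁻¹ := by
    rw [e, map_mul, map_mul] at h1
    calc D.π x = (D.π u1)⁻¹ * (D.π u1 * D.π x * D.π u2) * (D.π u2)⁻¹ := by group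
      _ = _ := by rw [h1, mul_one]
  have hxab : D.π x ∈ Supp ({a, b} : Finset (Fin n)) := by
    refine supp_shrink (l := l) ?_ ?_
    · rw [show insert l ({a, b} : Finset (Fin n)) = {a, b, l} by ext j; simp; tauto]; exact D.π_mem hx
    · have : D.π x ∈ Supp L := by rw [hxπ]; exact mul_mem (inv_mem (D.π_mem hu1)) (inv_mem (D.π_mem hu2))
      exact this l hL.hl
  obtain ⟨x', hx', ex⟩ := D.exists_lift (Finset.card_pair hL.hab).ge hxab
  have hxx : x' = x := D.small_uniq (by omega)
    (D.K_mono (by intro j hj; simp only [Finset.mem_insert, Finset.mem_singleton] at hj ⊢; tauto) hx') hx ex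
  have hxL : x ∈ D.K L := hxx ▸ D.K_mono (by
    intro j hj
    simp only [Finset.mem_insert, Finset.mem_singleton] at hj
    rcases hj with rfl | rfl
    · exact hL.ha
    · exact hL.hb) hx'
  refine ih g ?_ h1
  rw [e]
  exact mul_mem (mul_mem hu1 hxL) hu2

include hC in
theorem inj_low {k : ℕ} (h4 : 4 ≤ k) (hk : k ≤ n) : ∀ g ∈ D.K (Low k), D.π g = 1 → g = 1 := by
  induction k with
  | zero => omega
  | succ k ih =>
    intro g hg h1
    rcases eq_or_lt_of_le h4 with hk4 | hk4
    · exact D.small_inj (by rw [card_low hk, ← hk4]) hg h1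
    · rw [low_succ (show k < n by omega)] at hg
      have hm : ∀ i, i < k → (⟨k - 1 - i, by omega⟩ : Fin n) ∈ (Low k : Finset (Fin n)) := fun i hi => by
        rw [mem_Low]
        show k - 1 - i < k
        omega
      exact D.inj_insert hC (a := ⟨k - 2, by omega⟩) (b := ⟨k - 1, by omega⟩) (c := ⟨k - 3, by omega⟩)
        { ha := by rw [mem_Low]; show k - 2 < k; omega
          hb := by rw [mem_Low]; show k - 1 < k; omega
          hc := by rw [mem_Low]; show k - 3 < k; omega
          hl := by simp [mem_Low]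
          hab := by simp [Fin.ext_iff]; omega
          hac := by simp [Fin.ext_iff]; omega
          hbc := by simp [Fin.ext_iff]; omega
          h4 := by rw [card_low (by omega)]; omega }
        (ih (by omega) (by omega)) hg h1

theorem K_univ : D.K Finset.univ = ⊤ := by
  rw [eq_top_iff, ← D.gen, Subgroup.closure_le]
  rintro _ (⟨x, rfl⟩ | ⟨t, rfl⟩)
  · obtain ⟨g, hg, e⟩ := D.exists_lift (by rw [card_low (by omega)]; norm_num) (E4_mem hF hn x)
    obtain ⟨y, hy⟩ := D.K_low4_le hg
    rw [← hy, D.hπφ] at e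
    rw [← E4_injective hF hn e, hy]
    exact D.K_mono (Finset.subset_univ _) hg
  · exact D.ρ_altOn_le (a := p5 hn 0) (b := p5 hn 1) (Finset.mem_univ _) (Finset.mem_univ _)
      (p5_ne hn (by decide)) (fun _ _ _ _ => D.K_mono (Finset.subset_univ _))
      (mem_altOn.2 ⟨fun j hj => absurd (Finset.mem_univ j) hj, mem_alternatingGroup.1 t.2⟩)

include hC in
theorem π_injective : Function.Injective D.π := by
  refine (injective_iff_map_eq_one D.π).2 fun g hg => ?_
  refine D.inj_low hC (k := n) (by omega) le_rfl g ?_ hg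
  rw [low_top, K_univ]
  exact Subgroup.mem_top g

end GlueData

end CfsgLib.SUShort
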