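import Cfsg.Agent.Lib.SUShort.Words

/-!
# The relators present `SU₃(q)`: the Borel part, the cells and the count
-/

set_option autoImplicit false
set_option linter.unusedSectionVars false

namespace CfsgLib.SUShort

open Matrix Polynomial CfsgLib.UnitaryTransvection CfsgLib.UnitarySimple CfsgLib.TwoGenCl.Unit
open CfsgLib.SL2Pres (cj ev cj_zero cj_conj map_cj map_ev ev_mem ev_eq_hom U T H IsModuleRels commute_cj)

namespace Three

variable {F : Type} [Field F] [Fintype F] {q : ℕ} {M : Three F q} (W : M.Choice)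

local notation "σ" => frob M.hF

theorem umat_shift (M : Three F q) (c d s : F) :
    umat (q := q) M.e (c • M.w + d • M.e) s = umat (q := q) M.e (c • M.w) (s + d - frob M.hF d) := by
  refine Matrix.ext_of_mulVec_single fun i => ?_
  rw [umat_mulVec, umat_mulVec]
  simp only [h_add_right M.hF, h_smul_right M.hF]
  module

namespace Choice

/-- The presented group. -/
abbrev P : Type := PresentedGroup {r | r ∈ W.rels}

/-- The map to the presented group. -/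
def pmk : FreeGroup (Fin 3) →* W.P := PresentedGroup.mk _

theorem mk_rel {r : FreeGroup (Fin 3)} (hr : r ∈ W.rels) : W.pmk r = 1 := PresentedGroup.one_of_mem hr

/-- The map to `SU₃`. -/
noncomputable def π : W.P →* Cfsg.SU 3 F q := PresentedGroup.toGroup (f := M.gens) W.holds

theorem π_mk (w : FreeGroup (Fin 3)) : W.π (W.pmk w) = FreeGroup.lift M.gens w := rfl

/-- The image of `U`. -/
def u : W.P := W.pmk U
/-- The image of `T`. -/
def n : W.P := W.pmk T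
/-- The image of `H`. -/
def hh : W.P := W.pmk H

theorem π_u : W.π W.u = M.gu := by rw [u, π_mk, M.lift_U]

theorem π_n : W.π W.n = M.nn := by rw [n, π_mk, M.lift_T]

theorem π_hh : W.π W.hh = M.gh := by rw [hh, π_mk, M.lift_H]

theorem hh_pow : W.hh ^ (q ^ 2 - 1) = 1 := by
  rw [hh, ← map_pow]; exact W.mk_rel (by simp [rels, basic])

theorem n_sq : W.n * W.n = 1 := by rw [n, ← map_mul]; exact W.mk_rel (by simp [rels, basic])

theorem n_hh : W.n * W.hh * W.n * W.hh ^ q = 1 := by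
  rw [n, hh, ← map_pow, ← map_mul, ← map_mul, ← map_mul]; exact W.mk_rel (by simp [rels, basic])

theorem N_pos (_ : M.Choice) : 0 < q ^ 2 - 1 := by
  have := M.hq
  have : 9 ≤ q ^ 2 := by nlinarith
  omega

theorem exists_ψ : ∃ φ : Multiplicative (F0 M.hF) →* W.P, φ (Multiplicative.ofAdd 1) = W.pmk zw ∧
    ∀ a, W.hh * φ (Multiplicative.ofAdd a) * W.hh⁻¹ = φ (Multiplicative.ofAdd (M.ρ₀ * a)) := by
  obtain ⟨φ, h1, h2⟩ := W.hR₀.2.1 W.P (W.pmk.comp ι) fun w hw => by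
    exact W.mk_rel (by simp only [rels, List.mem_append, List.mem_map]; exact Or.inl (Or.inl (Or.inl (Or.inr ⟨w, hw, rfl⟩))))
  rw [MonoidHom.comp_apply, ι_U] at h1
  rw [MonoidHom.comp_apply, ι_H] at h2
  exact ⟨φ, h1, h2⟩

/-- The central homomorphism. -/
noncomputable def ψ : Multiplicative (F0 M.hF) →* W.P := W.exists_ψ.choose

theorem ψ_one : W.ψ (Multiplicative.ofAdd 1) = W.pmk zw := W.exists_ψ.choose_spec.1

theorem ψ_conj (a : F0 M.hF) : W.hh * W.ψ (Multiplicative.ofAdd a) * W.hh⁻¹ = W.ψ (Multiplicative.ofAdd (M.ρ₀ * a)) :=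
  W.exists_ψ.choose_spec.2 a

theorem mk_zW (c : F0 M.hF) : W.pmk (M.zW c) = W.ψ (Multiplicative.ofAdd c) := by
  rw [zW, map_ev, ← W.ψ_one, show W.pmk H = W.hh from rfl, ev_eq_hom W.ψ M.ρ₀ W.hh W.ψ_conj, pow_one,
    (M.exists_zpoly c).choose_spec]

theorem mk_cj_zw (i : ℕ) : W.pmk (cj H zw i) = W.ψ (Multiplicative.ofAdd (M.ρ₀ ^ i)) := by
  induction i with
  | zero => rw [cj_zero, pow_zero, W.ψ_one]
  | succ i ih =>
    rw [add_comm i 1, ← cj_conj H zw 1 i, pow_one, map_mul, map_mul, map_inv, ih, show W.pmk H = W.hh from rfl,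
      W.ψ_conj, pow_add, pow_one]

theorem mk_cj (i : ℕ) : W.pmk (cj H U i) = cj W.hh W.u i := map_cj _ _ _ _

theorem modZ_mem {w : FreeGroup (Fin 3)} (hw : M.IsZ w) (h : M.modZ w ∈ W.rels) : W.pmk w ∈ W.ψ.range := by
  have := W.mk_rel h
  rw [modZ, dif_pos hw, map_mul, map_inv, mul_inv_eq_one, W.mk_zW] at this
  exact ⟨_, this.symm⟩

theorem isZ_of (w : FreeGroup (Fin 3)) (h1 : FreeGroup.lift M.gens w ∈ M.UU)
    (h2 : M.α (FreeGroup.lift M.gens w) = 0) : M.IsZ w := ⟨h1, h2⟩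

theorem cj_mem (i : ℕ) : cj M.gh M.gu i ∈ M.UU := M.conj_UU M.gu_mem i

theorem α_cj (i : ℕ) : M.α (cj M.gh M.gu i) = M.ν ^ i := by
  rw [cj, M.α_conj M.gu_mem, gu, M.α_X, mul_one]

theorem quo_comm (i : ℕ) : M.IsZ (U * cj H U i * U⁻¹ * (cj H U i)⁻¹) := by
  simp only [IsZ, map_mul, map_inv, map_cj, M.lift_H, M.lift_U]
  have h1 := M.gu_mem
  have h2 := cj_mem (M := M) i
  refine ⟨mul_mem (mul_mem (mul_mem h1 h2) (inv_mem h1)) (inv_mem h2), ?_⟩
  rw [M.α_mul (mul_mem (mul_mem h1 h2) (inv_mem h1)) (inv_mem h2), M.α_mul (mul_mem h1 h2) (inv_mem h1),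
    M.α_mul h1 h2, M.α_inv h1, M.α_inv h2]
  ring

theorem mk_mem_closure {w : FreeGroup (Fin 3)} {d e : ℕ}
    (hw : w ∈ Subgroup.closure (progs H U d e ∪ Set.range fun i => cj H zw i)) :
    W.pmk w ∈ Subgroup.closure (progs W.hh W.u d e ∪ Set.range fun i => cj W.hh (W.pmk zw) i) := by
  have h : W.pmk w ∈ (Subgroup.closure (progs H U d e ∪ Set.range fun i => cj H zw i)).map W.pmk := ⟨w, hw, rfl⟩
  rw [MonoidHom.map_closure, Set.image_union, map_progs] at h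
  refine Subgroup.closure_mono (Set.union_subset_union_right _ ?_) h
  rintro _ ⟨_, ⟨i, rfl⟩, rfl⟩
  exact ⟨i, (map_cj W.pmk H zw i).symm⟩

theorem commute_z (i : ℕ) : Commute (W.pmk zw) (cj W.hh W.u i) := by
  have hq := M.hq
  refine central_all (d := q - 1) (e := 3) (by norm_num) ?_ ?_ ?_ ?_ i
  · have h1 : ∀ m : ℕ, W.hh ^ m * W.pmk zw * (W.hh ^ m)⁻¹ = W.ψ (Multiplicative.ofAdd (M.ρ₀ ^ m)) := fun m => by
      rw [← W.mk_cj_zw, map_cj]; rfl
    have h2 := h1 (q - 1)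
    have hρ : M.ρ₀ ^ (q - 1) = 1 := Subtype.ext (by
      show ((M.ω : F) ^ (q + 1)) ^ (q - 1) = 1
      rw [← pow_mul, ← M.sq_sub]
      exact (M.pow_eq_one_iff _).2 dvd_rfl)
    rw [hρ, W.ψ_one, mul_inv_eq_iff_eq_mul] at h2
    exact h2
  · intro i hi
    have key : ∀ w : FreeGroup (Fin 3), zw * w * zw⁻¹ * w⁻¹ ∈ W.rels → Commute (W.pmk zw) (W.pmk w) := fun w hw => by
      have := W.mk_rel hw
      rw [map_mul, map_mul, map_mul, map_inv, map_inv, mul_inv_eq_one, mul_inv_eq_iff_eq_mul] at this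
      exact this
    interval_cases i
    · rw [cj_zero]; exact key U (by simp [rels, cent])
    · rw [← W.mk_cj]; exact key _ (by simp [rels, cent])
    · rw [← W.mk_cj]; exact key _ (by simp [rels, cent])
  · intro i
    rw [show cj W.hh (W.pmk zw) i = W.pmk (cj H zw i) from (map_cj _ _ _ _).symm, W.mk_cj_zw, ← W.ψ_one]
    exact Commute.map (Commute.all _ _) W.ψ
  · have h1 := W.mk_rel (r := cj H U 3 * W.w₃⁻¹) (by simp [rels, cent])
    rw [map_mul, map_inv, mul_inv_eq_one, W.mk_cj] at h1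
    rw [h1]
    exact W.mk_mem_closure W.hw₃.1

theorem commute_range {x : W.P} (hx : x ∈ W.ψ.range) (i : ℕ) : Commute x (cj W.hh W.u i) := by
  obtain ⟨a, rfl⟩ := hx
  have e : W.ψ a = W.pmk (M.zW (Multiplicative.toAdd a)) := by rw [W.mk_zW, ofAdd_toAdd]
  have hle : Subgroup.closure (Set.range fun b => cj W.hh (W.pmk zw) b) ≤
      Subgroup.centralizer {cj W.hh W.u i} := by
    rw [Subgroup.closure_le]
    rintro _ ⟨b, rfl⟩
    rw [SetLike.mem_coe, Subgroup.mem_centralizer_singleton_iff]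
    have h1 := (Commute.conj_iff (W.hh ^ b)).2 (W.commute_z (i + (q ^ 2 - 1) * b - b))
    have hb : b ≤ i + (q ^ 2 - 1) * b := by
      have := Nat.le_mul_of_pos_left b W.N_pos
      omega
    rw [cj_conj, Nat.add_sub_cancel' hb, cj_period W.hh_pow] at h1
    exact h1.eq
  rw [e, zW, map_ev, show W.pmk H = W.hh from rfl]
  exact Subgroup.mem_centralizer_singleton_iff.1 (hle (ev_mem _ _ _ _ _ fun m _ => Subgroup.subset_closure ⟨1 * m, rfl⟩))

/-- The unipotent subgroup of the presented group. -/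
noncomputable def MU : Subgroup W.P := Subgroup.closure ((Set.range fun i => cj W.hh W.u i) ∪ W.ψ.range)

theorem ψ_mem (a : Multiplicative (F0 M.hF)) : W.ψ a ∈ W.MU := Subgroup.subset_closure (Or.inr ⟨a, rfl⟩)

theorem mk_word_mem {w : FreeGroup (Fin 3)}
    (hw : w ∈ Subgroup.closure ((Set.range fun i => cj H U i) ∪ Set.range fun i => cj H zw i)) :
    W.pmk w ∈ W.MU := by
  refine (Subgroup.closure_le (K := W.MU.comap W.pmk)).2 ?_ hw
  rintro _ (⟨i, rfl⟩ | ⟨i, rfl⟩) <;> rw [SetLike.mem_coe, Subgroup.mem_comap]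
  · rw [W.mk_cj]; exact Subgroup.subset_closure (Or.inl ⟨i, rfl⟩)
  · rw [W.mk_cj_zw]; exact W.ψ_mem _

theorem MU_bound : (W.MU : Set W.P).Finite ∧ Nat.card W.MU ≤ q ^ 3 := by
  classical
  haveI := M.hc
  haveI : Fact M.p.Prime := ⟨M.hp⟩
  haveI : Finite W.ψ.range := Finite.of_surjective W.ψ.rangeRestrict W.ψ.rangeRestrict_surjective
  have hq := M.hq
  have hzh : ∀ x ∈ W.ψ.range, W.hh * x * W.hh⁻¹ ∈ W.ψ.range := by
    rintro _ ⟨a, rfl⟩
    exact ⟨Multiplicative.ofAdd (M.ρ₀ * Multiplicative.toAdd a), by rw [← W.ψ_conj, ofAdd_toAdd]⟩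
  have e1 : ∀ i, W.pmk (U * cj H U i * U⁻¹ * (cj H U i)⁻¹) = W.u * cj W.hh W.u i * W.u⁻¹ * (cj W.hh W.u i)⁻¹ :=
    fun i => by rw [map_mul, map_mul, map_mul, map_inv, map_inv, W.mk_cj]; rfl
  refine (fun hc => ?_) (card_le_of_plane (G := W.P) M.ν M.ν_gen M.p W.mm W.hker W.ψ.range hzh
    (fun x hx i => W.commute_range hx i) (k := W.j * (q + 1)) (l := W.l) (m := q - 1) (h := W.hh) (u := W.u)
    (by omega) (by rw [mul_assoc, ← M.sq_sub, mul_comm, pow_mul, W.hh_pow, one_pow])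
    ?_ ?_ ?_ ?_ ?_ ?_ ?_)
  · obtain ⟨hfin, hcard⟩ := hc
    refine ⟨hfin, hcard.trans ?_⟩
    rw [Nat.card_eq_fintype_card (α := F), M.hF, pow_succ q 2]
    exact Nat.mul_le_mul_left _ ((Nat.card_le_card_of_surjective W.ψ.rangeRestrict
      W.ψ.rangeRestrict_surjective).trans (le_of_eq ((Nat.card_congr Multiplicative.toAdd).trans M.card_F0)))
  · have hz : M.IsZ (U ^ (M.p : ℤ)) := by
      refine ⟨?_, ?_⟩
      · rw [map_zpow, M.lift_U]; exact zpow_mem M.gu_mem _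
      · rw [map_zpow, M.lift_U, M.α_zpow M.gu_mem, Int.cast_natCast, CharP.cast_eq_zero, zero_mul]
    have := W.modZ_mem hz (by simp [rels, quo])
    rwa [map_zpow] at this
  · have hz : M.IsZ (ev H U 1 W.mm) := by
      obtain ⟨h1, h2⟩ := M.ev_spec M.gu_mem 1 W.mm
      rw [pow_one, W.hmm, mul_zero] at h2
      exact ⟨by rw [map_ev, M.lift_H, M.lift_U]; exact h1, by rw [map_ev, M.lift_H, M.lift_U]; exact h2⟩
    have := W.modZ_mem hz (by simp [rels, quo])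
    rwa [map_ev] at this
  · have hz : M.IsZ (cj H U W.l * (U * cj H U (W.j * (q + 1)))⁻¹) := by
      have h2 := cj_mem (M := M) (W.j * (q + 1))
      have h3 := cj_mem (M := M) W.l
      simp only [IsZ, map_mul, map_inv, map_cj, M.lift_H, M.lift_U]
      refine ⟨mul_mem h3 (inv_mem (mul_mem M.gu_mem h2)), ?_⟩
      rw [M.α_mul h3 (inv_mem (mul_mem M.gu_mem h2)), M.α_inv (mul_mem M.gu_mem h2), M.α_mul M.gu_mem h2, α_cj,
        α_cj, gu, M.α_X, W.hl, mul_comm W.j, pow_mul, show M.ν ^ (q + 1) = M.ρ from M.ν_pow_succ]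
      ring
    have := W.modZ_mem hz (by simp [rels, quo])
    rw [map_mul, map_inv, map_mul, W.mk_cj, W.mk_cj] at this
    exact this
  · rw [← e1]; exact W.modZ_mem (quo_comm (M := M) _) (by simp [rels, quo])
  · rw [← e1, show U * cj H U 1 * U⁻¹ * (cj H U 1)⁻¹ = zw from rfl, ← W.ψ_one]
    exact ⟨_, rfl⟩
  · rw [← e1]; exact W.modZ_mem (quo_comm (M := M) _) (by simp [rels, quo])
  · have h1 := W.mk_rel (r := cj H U 2 * W.w₂⁻¹) (by simp [rels, quo])
    rw [map_mul, map_inv, mul_inv_eq_one, W.mk_cj] at h1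
    rw [h1]
    refine Subgroup.closure_mono (Set.union_subset_union_right _ ?_) (W.mk_mem_closure W.hw₂.1)
    rintro _ ⟨i, rfl⟩
    exact ⟨Multiplicative.ofAdd (M.ρ₀ ^ i), by rw [← W.mk_cj_zw, map_cj]; rfl⟩

instance : Finite W.MU := W.MU_bound.1.to_subtype

theorem π_MU {x : W.P} (hx : x ∈ W.MU) : W.π x ∈ M.UU := by
  have hle : W.MU ≤ M.UU.comap W.π := by
    rw [MU, Subgroup.closure_le]
    rintro _ (⟨i, rfl⟩ | hy) <;> rw [SetLike.mem_coe, Subgroup.mem_comap]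
    · rw [map_cj, W.π_hh, W.π_u]; exact cj_mem i
    · obtain ⟨a, rfl⟩ := hy
      rw [← ofAdd_toAdd a, ← W.mk_zW, W.π_mk, M.lift_zW, M.ψT_apply]
      exact ⟨_, _, _, rfl⟩
  exact hle hx

theorem exists_MU {g : Cfsg.SU 3 F q} (hg : g ∈ M.UU) : ∃ x ∈ W.MU, W.π x = g := by
  obtain ⟨w, hw, e⟩ := M.exists_word_UU hg
  exact ⟨W.pmk w, W.mk_word_mem hw, e⟩

theorem card_UU : q ^ 3 ≤ Nat.card M.UU := by
  classical
  have hc : ∀ x : F × F0 M.hF, x.1 * σ x.1 + (M.β * (x.1 * σ x.1) + (x.2 : F) * M.δ) +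
      σ (M.β * (x.1 * σ x.1) + (x.2 : F) * M.δ) = 0 := fun x => by
    have h2 : σ (x.2 : F) = x.2 := x.2.2
    rw [map_add, map_mul, map_mul, map_mul, frob_frob, h2, M.δ_skew]
    linear_combination (x.1 * σ x.1) * M.β_trace
  let Φ : F × F0 M.hF → M.UU := fun x => ⟨M.X x.1 _ (hc x), _, _, _, rfl⟩
  have hinj : Function.Injective Φ := fun x y e => by
    obtain ⟨h1, h2⟩ := M.X_inj (hc x) (hc y) (congrArg Subtype.val e)
    rw [h1] at h2
    exact Prod.ext h1 (Subtype.ext (mul_right_cancel₀ M.δ_ne (add_left_cancel h2)))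
  have := Nat.card_le_card_of_injective Φ hinj
  rwa [Nat.card_prod, Nat.card_eq_fintype_card (α := F), M.hF, M.card_F0, ← pow_succ] at this

theorem inj_MU {x y : W.P} (hx : x ∈ W.MU) (hy : y ∈ W.MU) (e : W.π x = W.π y) : x = y := by
  let r : W.MU →* M.UU := (W.π.comp W.MU.subtype).codRestrict M.UU fun z => W.π_MU z.2
  have hr : Function.Surjective r := fun g => by
    obtain ⟨x, hx, e⟩ := W.exists_MU g.2
    exact ⟨⟨x, hx⟩, Subtype.ext e⟩
  have hb := (Nat.bijective_iff_surjective_and_card r).2 ⟨hr, le_antisymm (W.MU_bound.2.trans card_UU)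
    (Nat.card_le_card_of_surjective r hr)⟩
  exact congrArg Subtype.val (hb.1 (a₁ := ⟨x, hx⟩) (a₂ := ⟨y, hy⟩) (Subtype.ext e))

theorem hh_conj {x : W.P} (hx : x ∈ W.MU) (i : ℕ) : W.hh ^ i * x * (W.hh ^ i)⁻¹ ∈ W.MU := by
  refine conj_mem_of_gens rfl _ ?_ x hx
  rintro _ (⟨j, rfl⟩ | ⟨a, rfl⟩)
  · exact Subgroup.subset_closure (Or.inl ⟨i + j, (cj_conj _ _ _ _).symm⟩)
  · induction i with
    | zero => rw [pow_zero, one_mul, inv_one, mul_one]; exact W.ψ_mem a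
    | succ i ih =>
      have h1 : ∀ y ∈ W.MU, W.hh * y * W.hh⁻¹ ∈ W.MU := by
        refine conj_mem_of_gens rfl _ ?_
        rintro _ (⟨j, rfl⟩ | ⟨b, rfl⟩)
        · exact Subgroup.subset_closure (Or.inl ⟨1 + j, by simp only; rw [← cj_conj W.hh W.u 1 j, pow_one]⟩)
        · rw [← ofAdd_toAdd b, W.ψ_conj]; exact W.ψ_mem _
      rw [show W.hh ^ (i + 1) * W.ψ a * (W.hh ^ (i + 1))⁻¹ =
        W.hh * (W.hh ^ i * W.ψ a * (W.hh ^ i)⁻¹) * W.hh⁻¹ by group]
      exact h1 _ ih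

theorem hh_inv (i : ℕ) : (W.hh ^ i)⁻¹ = W.hh ^ ((q ^ 2 - 1) * i - i) := by
  rw [inv_eq_iff_mul_eq_one, ← pow_add, Nat.add_sub_cancel' (Nat.le_mul_of_pos_left i W.N_pos), pow_mul, W.hh_pow, one_pow]

theorem hh_conj' {x : W.P} (hx : x ∈ W.MU) (i : ℕ) : (W.hh ^ i)⁻¹ * x * W.hh ^ i ∈ W.MU := by
  have := W.hh_conj hx ((q ^ 2 - 1) * i - i)
  rwa [← W.hh_inv, inv_inv] at this

/-- The Borel subgroup of the presented group. -/
noncomputable def Bor : Subgroup W.P where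
  carrier := {g | ∃ x ∈ W.MU, ∃ i : ℕ, g = x * W.hh ^ i}
  one_mem' := ⟨1, one_mem _, 0, by simp⟩
  mul_mem' := by
    rintro _ _ ⟨x, hx, i, rfl⟩ ⟨y, hy, j, rfl⟩
    exact ⟨x * (W.hh ^ i * y * (W.hh ^ i)⁻¹), mul_mem hx (W.hh_conj hy i), i + j, by rw [pow_add]; group⟩
  inv_mem' := by
    rintro _ ⟨x, hx, i, rfl⟩
    refine ⟨(W.hh ^ i)⁻¹ * x⁻¹ * W.hh ^ i, W.hh_conj' (inv_mem hx) i, (q ^ 2 - 1) * i - i, ?_⟩
    rw [← W.hh_inv]; group

theorem MU_le {x : W.P} (hx : x ∈ W.MU) : x ∈ W.Bor := ⟨x, hx, 0, by simp⟩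

theorem hh_mem (i : ℕ) : W.hh ^ i ∈ W.Bor := ⟨1, one_mem _, i, by simp⟩

theorem π_Bor {g : W.P} (hg : g ∈ W.Bor) : ∃ c : F, mat (W.π g) *ᵥ M.e = c • M.e := by
  obtain ⟨x, hx, i, rfl⟩ := hg
  obtain ⟨a, s, hs, e⟩ := W.π_MU hx
  refine ⟨((M.ω ^ i : Fˣ) : F), ?_⟩
  rw [map_mul, map_pow, W.π_hh, e, mat_mul, ← mulVec_mulVec, gh, M.tor_pow, M.tor_e, mulVec_smul, M.X_e]

theorem inj_Bor {g g' : W.P} (hg : g ∈ W.Bor) (hg' : g' ∈ W.Bor) (e : W.π g = W.π g') : g = g' := by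
  obtain ⟨x, hx, i, rfl⟩ := hg
  obtain ⟨y, hy, j, rfl⟩ := hg'
  rw [map_mul, map_mul, map_pow, map_pow, W.π_hh] at e
  obtain ⟨a, s, hs, ex⟩ := W.π_MU hx
  obtain ⟨b, t, ht, ey⟩ := W.π_MU hy
  have h1 := congrArg (fun g => mat g *ᵥ M.e) e
  simp only [gh, M.tor_pow, ex, ey, mat_mul, ← mulVec_mulVec, M.tor_e, mulVec_smul, M.X_e] at h1
  have h2 := congrArg (fun v => Cfsg.hermForm 3 F q v M.f) h1
  simp only [h_smul_left, Three.e, f, M.fr.ef, if_true, mul_one] at h2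
  have h3 : M.gh ^ i = M.gh ^ j := by rw [gh, M.tor_pow, M.tor_pow, Units.ext h2]
  rw [h3] at e
  have h4 : W.hh ^ i = W.hh ^ j := by
    have hω : M.ω ^ i = M.ω ^ j := Units.ext h2
    rw [pow_eq_pow_iff_modEq, ← orderOf_units, M.order_ω] at hω
    rw [← Nat.div_add_mod i (q ^ 2 - 1), ← Nat.div_add_mod j (q ^ 2 - 1), pow_add, pow_add, pow_mul, pow_mul,
      W.hh_pow, one_pow, one_pow, show i % (q ^ 2 - 1) = j % (q ^ 2 - 1) from hω]
  rw [W.inj_MU hx hy (mul_right_cancel e), h4]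

theorem n_hh_n (i : ℕ) : W.n * W.hh ^ i * W.n ∈ W.Bor := by
  have h1 : W.n * W.hh * W.n = (W.hh ^ q)⁻¹ := eq_inv_of_mul_eq_one_left W.n_hh
  have hn : W.n⁻¹ = W.n := inv_eq_of_mul_eq_one_right W.n_sq
  have h2 : W.n * W.hh ^ i * W.n = (W.n * W.hh * W.n) ^ i := by
    rw [show W.n * W.hh * W.n = W.n * W.hh * W.n⁻¹ by rw [hn], _root_.conj_pow, hn]
  rw [h2, h1]
  exact pow_mem (inv_mem (W.hh_mem q)) i

/-- The union of the big cell. -/
def D : Set W.P := {g | ∃ b ∈ W.Bor, ∃ m ∈ W.MU, g = b * W.n * m}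

theorem D_left {g b : W.P} (hb : b ∈ W.Bor) (hg : g ∈ W.D) : b * g ∈ W.D := by
  obtain ⟨b', hb', m, hm, rfl⟩ := hg
  exact ⟨b * b', mul_mem hb hb', m, hm, by group⟩

theorem D_right {g b : W.P} (hg : g ∈ W.D) (hb : b ∈ W.Bor) : g * b ∈ W.D := by
  obtain ⟨b', hb', m, hm, rfl⟩ := hg
  obtain ⟨x, hx, i, rfl⟩ := hb
  refine ⟨b' * (W.n * W.hh ^ i * W.n), mul_mem hb' (W.n_hh_n i), (W.hh ^ i)⁻¹ * (m * x) * W.hh ^ i,
    W.hh_conj' (mul_mem hm hx) i, ?_⟩
  calc b' * W.n * m * (x * W.hh ^ i) = b' * W.n * W.hh ^ i * ((W.hh ^ i)⁻¹ * (m * x) * W.hh ^ i) := by group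
    _ = b' * W.n * W.hh ^ i * (W.n * W.n) * ((W.hh ^ i)⁻¹ * (m * x) * W.hh ^ i) := by rw [W.n_sq, mul_one]
    _ = _ := by group

/-- The conjugate of the element by the Weyl element lies in the big cell. -/
def Solved (g : W.P) : Prop := W.n * g * W.n ∈ W.D

theorem solved_conj {g : W.P} (hg : W.Solved g) (i : ℕ) : W.Solved (W.hh ^ i * g * (W.hh ^ i)⁻¹) := by
  rw [Solved]
  have e : W.n * (W.hh ^ i * g * (W.hh ^ i)⁻¹) * W.n =
      (W.n * W.hh ^ i * W.n) * (W.n * g * W.n) * (W.n * (W.hh ^ i)⁻¹ * W.n) := by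
    calc W.n * (W.hh ^ i * g * (W.hh ^ i)⁻¹) * W.n
        = W.n * W.hh ^ i * (W.n * W.n) * g * (W.n * W.n) * (W.hh ^ i)⁻¹ * W.n := by
          rw [W.n_sq]; group
      _ = _ := by group
  rw [e]
  refine W.D_right (W.D_left (W.n_hh_n i) hg) ?_
  rw [W.hh_inv]
  exact W.n_hh_n _

/-- The element of the unipotent group with the given coordinates is solved. -/
def SolvedAt (a s : F) (hs : a * σ a + s + σ s = 0) : Prop := ∀ g ∈ W.MU, W.π g = M.X a s hs → W.Solved g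

theorem solvedAt_conj {a s : F} {hs : a * σ a + s + σ s = 0} (h : W.SolvedAt a s hs) (i : ℕ) {a' s' : F}
    {hs' : a' * σ a' + s' + σ s' = 0} (ha : a' = M.ν ^ i * a) (he : s' = M.ρ ^ i * s) : W.SolvedAt a' s' hs' := by
  subst ha he
  intro g hg eg
  obtain ⟨x, hx, ex⟩ := W.exists_MU (g := M.X a s hs) ⟨_, _, _, rfl⟩
  rw [show g = W.hh ^ i * x * (W.hh ^ i)⁻¹ from W.inj_MU hg (W.hh_conj hx i) (by
    rw [eg, map_mul, map_mul, map_inv, map_pow, W.π_hh, ex, M.conj_pow])]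
  exact W.solved_conj (h x hx ex) i

theorem solved_rep (i : Fin 4) : W.Solved (W.pmk (W.cell i).1) := by
  obtain ⟨h1, h2, -⟩ := W.hcell i
  have := W.mk_rel (r := T * (W.cell i).1 * T * ((W.cell i).2.1 * H ^ (W.cell i).2.2.1 * T * (W.cell i).2.2.2)⁻¹)
    (by simp only [rels, cells, List.mem_append, List.mem_ofFn]; exact Or.inr ⟨i, rfl⟩)
  rw [map_mul, map_inv, mul_inv_eq_one, map_mul, map_mul, map_mul, map_mul, map_mul, map_pow] at this
  refine ⟨W.pmk (W.cell i).2.1 * W.hh ^ (W.cell i).2.2.1,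
    mul_mem (W.MU_le (W.mk_word_mem (h2 _ (by simp)))) (W.hh_mem _), W.pmk (W.cell i).2.2.2,
    W.mk_word_mem (h2 _ (by simp)), this⟩

theorem solvedAt_rep (s : Fin 3) : W.SolvedAt (M.μs s) M.β (M.rep_cond s) := fun g hg eg => by
  obtain ⟨-, h2, h3⟩ := W.hcell s.succ
  rw [W.inj_MU hg (W.mk_word_mem (h2 _ (List.mem_cons_self ..))) (eg.trans (h3.trans (by simp)).symm)]
  exact W.solved_rep _

theorem solvedAt_z : W.SolvedAt 0 (((1 : F0 M.hF) : F) * M.δ) (M.zcond (1 : F0 M.hF).2) := fun g hg eg => by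
  obtain ⟨-, h2, h3⟩ := W.hcell 0
  rw [W.inj_MU hg (W.mk_word_mem (h2 _ (List.mem_cons_self ..)))
    (eg.trans (h3.trans (M.ψT_apply 1)).symm)]
  exact W.solved_rep _

/-- What the identity in `SU₃` says about a solved element. -/
theorem exact {a s : F} {hs : a * σ a + s + σ s = 0} (h : W.SolvedAt a s hs) (hs0 : s ≠ 0) {g : W.P}
    (hg : g ∈ W.MU) (eg : W.π g = M.X a s hs) {x y : W.P} (hx : x ∈ W.MU)
    (ex : W.π x = M.X _ _ (M.swap_cond hs hs0 s (Or.inl rfl))) (hy : y ∈ W.MU)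
    (ey : W.π y = M.X _ _ (M.swap_cond hs hs0 (σ s) (Or.inr rfl))) :
    ∃ j : ℕ, W.n * g * W.n = x * W.hh ^ j * W.n * y := by
  have hσ : σ s ≠ 0 := by simpa using hs0
  obtain ⟨j, hj⟩ := M.tor_eq (Units.mk0 (σ s)⁻¹ (inv_ne_zero hσ))
  refine ⟨j, ?_⟩
  obtain ⟨b, hb, m, hm, e⟩ := h g hg eg
  have hxj : x * W.hh ^ j ∈ W.Bor := mul_mem (W.MU_le hx) (W.hh_mem j)
  have e' := congrArg W.π e
  rw [map_mul, map_mul, map_mul, map_mul, W.π_n, eg, M.bruhat hs hs0 (Units.mk0 (σ s)⁻¹ (inv_ne_zero hσ)) rfl,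
    hj, ← ex, ← ey, ← W.π_hh, ← map_pow, ← map_mul W.π x] at e'
  have hmy : W.π (m * y⁻¹) = 1 := by
    refine M.cell_unique (g := W.π (b⁻¹ * (x * W.hh ^ j))) (W.π_Bor (mul_mem (inv_mem hb) hxj))
      (W.π_MU (mul_mem hm (inv_mem hy))) ?_
    have h1 : W.π (x * W.hh ^ j) = W.π b * M.nn * W.π m * (W.π y)⁻¹ * M.nn⁻¹ := by
      rw [← e']; group
    have hn : (M.nn)⁻¹ = M.nn := inv_eq_of_mul_eq_one_right M.nn_sq
    rw [map_mul W.π b⁻¹, map_inv, h1, map_mul, map_inv, hn]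
    group
  have hmy' : m = y := W.inj_MU hm hy (by
    rwa [map_mul, map_inv, mul_inv_eq_one] at hmy)
  subst hmy'
  rw [e, W.inj_Bor hb hxj (mul_right_cancel (b := M.nn) (mul_right_cancel e')).symm]

/-- Composition. -/
theorem compose {a s t : F} {hs : a * σ a + s + σ s = 0} {ht : (0 : F) * σ 0 + t + σ t = 0} (hs0 : s ≠ 0)
    (ht0 : t ≠ 0) {hst : a * σ a + (s + t) + σ (s + t) = 0}
    {hw : (-a / σ s) * σ (-a / σ s) + (1 / s + 1 / t) + σ (1 / s + 1 / t) = 0}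
    (h1 : W.SolvedAt a s hs) (h2 : W.SolvedAt 0 t ht) (h3 : W.SolvedAt (-a / σ s) (1 / s + 1 / t) hw) :
    W.SolvedAt a (s + t) hst := by
  intro g hg eg
  obtain ⟨x, hx, ex⟩ := W.exists_MU (g := M.X a s hs) ⟨_, _, _, rfl⟩
  obtain ⟨z, hz, ez⟩ := W.exists_MU (g := M.X 0 t ht) ⟨_, _, _, rfl⟩
  obtain ⟨x1, hx1, ex1⟩ := W.exists_MU (g := M.X _ _ (M.swap_cond hs hs0 s (Or.inl rfl))) ⟨_, _, _, rfl⟩
  obtain ⟨x2, hx2, ex2⟩ := W.exists_MU (g := M.X _ _ (M.swap_cond hs hs0 (σ s) (Or.inr rfl))) ⟨_, _, _, rfl⟩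
  obtain ⟨z1, hz1, ez1⟩ := W.exists_MU (g := M.X _ _ (M.swap_cond ht ht0 t (Or.inl rfl))) ⟨_, _, _, rfl⟩
  obtain ⟨z2, hz2, ez2⟩ := W.exists_MU (g := M.X _ _ (M.swap_cond ht ht0 (σ t) (Or.inr rfl))) ⟨_, _, _, rfl⟩
  obtain ⟨i, hi⟩ := W.exact h1 hs0 hx ex hx1 ex1 hx2 ex2
  obtain ⟨j, hj⟩ := W.exact h2 ht0 hz ez hz1 ez1 hz2 ez2
  have hgxz : g = x * z := W.inj_MU hg (mul_mem hx hz) (by
    rw [eg, map_mul, ex, ez, M.X_mul]
    exact M.X_congr _ (add_zero a).symm (by ring) _)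
  have hwS : W.Solved (x2 * z1) := h3 _ (mul_mem hx2 hz1) (by
    rw [map_mul, ex2, ez1, M.X_mul]
    exact M.X_congr _ (by ring) (by simp) _)
  rw [Solved, hgxz]
  have e : W.n * (x * z) * W.n = x1 * W.hh ^ i * (W.n * (x2 * z1) * W.n) * (W.n * W.hh ^ j * W.n * z2) := by
    calc W.n * (x * z) * W.n = W.n * x * (W.n * W.n) * z * W.n := by rw [W.n_sq]; group
      _ = (W.n * x * W.n) * (W.n * z * W.n) := by group
      _ = x1 * W.hh ^ i * W.n * (x2 * z1) * (W.n * W.n) * W.hh ^ j * W.n * z2 := by rw [hi, hj, W.n_sq]; group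
      _ = _ := by group
  rw [e]
  exact W.D_right (W.D_left (mul_mem (W.MU_le hx1) (W.hh_mem i)) hwS)
    (mul_mem (W.n_hh_n j) (W.MU_le hz2))

theorem class_one {a s r : F} {hs : a * σ a + s + σ s = 0} (hr : σ r = r) (hr0 : r ≠ 0)
    (e : s = r * (M.ω : F) * M.δ) : W.SolvedAt a s hs := by
  have hd : σ (M.ω : F) - M.ω ≠ 0 := sub_ne_zero.2 M.ω_moved
  obtain ⟨i₀, hi₀⟩ := M.exists_fix (r * M.δ * (σ (M.ω : F) - M.ω)) (by
    show σ _ = _
    rw [map_mul, map_mul, map_sub, hr, M.δ_skew, frob_frob]; ring) (mul_ne_zero (mul_ne_zero hr0 M.δ_ne) hd)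
  have hsβ : s = M.ρ ^ i₀ * M.β := by
    rw [← hi₀, β, e]; field_simp
  have hρ : M.ρ ^ i₀ ≠ 0 := pow_ne_zero _ (pow_ne_zero _ M.ω.ne_zero)
  have hσρ : σ (M.ρ ^ i₀) = M.ρ ^ i₀ := by rw [map_pow]; exact congrArg (· ^ i₀) M.ρ_fix
  have hN : a * σ a = M.ρ ^ i₀ := by
    rw [hsβ, map_mul, hσρ] at hs
    linear_combination hs - (M.ρ ^ i₀) * M.β_trace
  have hν : M.ν ≠ 0 := M.ν_ne
  obtain ⟨m, hm⟩ := M.exists_norm_one (a / M.ν ^ i₀) (by
    show a / M.ν ^ i₀ * σ (a / M.ν ^ i₀) = 1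
    have h1 : M.ν * σ M.ν = M.ρ := M.ν_norm
    rw [map_div₀, map_pow, div_mul_div_comm, hN, ← mul_pow, h1, div_self hρ])
  have hq := M.hq
  have hperiod : ∀ n : ℕ, M.μ ^ ((q + 1) * n) = 1 := fun n => by rw [pow_mul, show M.μ ^ (q + 1) = 1 from M.μ_pow_succ, one_pow]
  set k3 := m / 3 with hk3
  have hkey : M.ν ^ ((q - 1) * (q * k3)) = M.μ ^ (3 * k3) := by
    have h1 : (M.ν ^ (q - 1) * M.μ ^ 3) ^ (q * k3) = 1 := by
      rw [show M.ν ^ (q - 1) * M.μ ^ 3 = 1 from M.ν_pow_pred, one_pow]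
    have h2 : M.μ ^ (3 * (q * k3)) * M.μ ^ (3 * k3) = 1 := by
      rw [← pow_add, show 3 * (q * k3) + 3 * k3 = (q + 1) * (3 * k3) by ring]; exact hperiod _
    rw [mul_pow, ← pow_mul, ← pow_mul] at h1
    calc M.ν ^ ((q - 1) * (q * k3)) = M.ν ^ ((q - 1) * (q * k3)) * (M.μ ^ (3 * (q * k3)) * M.μ ^ (3 * k3)) := by
          rw [h2, mul_one]
      _ = M.μ ^ (3 * k3) := by rw [← mul_assoc, h1, one_mul]
  refine W.solvedAt_conj (W.solvedAt_rep ⟨m % 3, Nat.mod_lt _ (by norm_num)⟩) (i₀ + (q - 1) * (q * k3)) ?_ ?_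
  · rw [μs, pow_add, hkey, mul_assoc, ← pow_add, Nat.div_add_mod m 3, ← hm, mul_div_cancel₀ _ (pow_ne_zero _ hν)]
  · rw [hsβ, pow_add M.ρ, pow_mul M.ρ]
    have h1 : M.ρ ^ (q - 1) = 1 := by
      show ((M.ω : F) ^ (q + 1)) ^ (q - 1) = 1
      rw [← pow_mul, ← M.sq_sub]
      exact (M.pow_eq_one_iff _).2 dvd_rfl
    rw [h1, one_pow, mul_one]

theorem class_zero {t : F} {ht : (0 : F) * σ 0 + t + σ t = 0} (ht0 : t ≠ 0) : W.SolvedAt 0 t ht := by
  have hs' : σ t = -t := by simp at ht; linear_combination ht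
  obtain ⟨i, hi⟩ := M.exists_fix (t / M.δ) (by
    show σ _ = _
    rw [map_div₀, hs', M.δ_skew, neg_div_neg_eq]) (div_ne_zero ht0 M.δ_ne)
  refine W.solvedAt_conj W.solvedAt_z i (by rw [mul_zero]) ?_
  rw [← hi]
  show t = t / M.δ * (1 * M.δ)
  rw [one_mul, div_mul_cancel₀ _ M.δ_ne]

theorem class_all : ∀ (k : ℕ), 1 ≤ k → k ≤ q → ∀ {a s r : F} {hs : a * σ a + s + σ s = 0}, σ r = r → r ≠ 0 →
    s = r * (M.ω : F) ^ k * M.δ → W.SolvedAt a s hs := by
  intro k hk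
  induction k, hk using Nat.le_induction with
  | base => intro _ a s r hs hr hr0 e; rw [pow_one] at e; exact W.class_one hr hr0 e
  | succ k hk ih =>
    intro hkq a s r hs hr hr0 e
    have hω := M.ω.ne_zero
    have hd : (M.ω : F) - σ (M.ω : F) ≠ 0 := sub_ne_zero.2 M.ω_moved.symm
    set x := (M.ω : F) ^ (k + 1) with hx
    set c := (x - σ x) / ((M.ω : F) - σ (M.ω : F)) with hc
    set d := x - c * M.ω with hdd
    have hcfix : σ c = c := by
      rw [hc, map_div₀, map_sub, map_sub, frob_frob, frob_frob, ← neg_sub x, ← neg_sub (M.ω : F), neg_div_neg_eq]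
    have hdfix : σ d = d := by
      rw [hdd, map_sub, map_mul, hcfix]
      have h1 : c * ((M.ω : F) - σ (M.ω : F)) = x - σ x := div_mul_cancel₀ _ hd
      linear_combination h1
    have moved : ∀ j, 1 ≤ j → j ≤ q → σ ((M.ω : F) ^ j) ≠ (M.ω : F) ^ j := by
      intro j hj1 hj2 h
      obtain ⟨i, hi⟩ := M.exists_fix _ h (pow_ne_zero _ hω)
      rw [Con.ρ, ← pow_mul] at hi
      have hu : M.ω ^ j = M.ω ^ ((q + 1) * i) := Units.ext (by simpa using hi)
      rw [pow_eq_pow_iff_modEq, ← orderOf_units, M.order_ω, M.sq_sub] at hu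
      replace hi := hu
      have h2 := Nat.ModEq.of_mul_right _ hi
      rw [Nat.ModEq, Nat.mul_mod_right, Nat.mod_eq_of_lt (by omega)] at h2
      omega
    have hc0 : c ≠ 0 := fun h => moved (k + 1) (by omega) hkq (by
      rw [← hx, show x = d by rw [hdd, h, zero_mul, sub_zero]]; exact hdfix)
    have hd0 : d ≠ 0 := fun h => moved k hk (by omega) (by
      have h1 : x = c * M.ω := sub_eq_zero.1 h
      have h2 : (M.ω : F) ^ k = c := mul_right_cancel₀ hω (by rw [← pow_succ, ← hx, h1])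
      rw [h2]; exact hcfix)
    set s₁ := r * c * (M.ω : F) * M.δ with hs₁
    set t := r * d * M.δ with ht
    have hst : s = s₁ + t := by rw [e, hs₁, ht, hdd]; ring
    have htc : (0 : F) * σ 0 + t + σ t = 0 := by rw [ht, map_mul, map_mul, hr, hdfix, M.δ_skew]; simp
    have hsc : a * σ a + s₁ + σ s₁ = 0 := by
      rw [hst, map_add] at hs
      linear_combination hs - htc
    have hs₁0 : s₁ ≠ 0 := by rw [hs₁]; exact mul_ne_zero (mul_ne_zero (mul_ne_zero hr0 hc0) hω) M.δ_ne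
    have ht0 : t ≠ 0 := by rw [ht]; exact mul_ne_zero (mul_ne_zero hr0 hd0) M.δ_ne
    have hw : (-a / σ s₁) * σ (-a / σ s₁) + (1 / s₁ + 1 / t) + σ (1 / s₁ + 1 / t) = 0 := by
      have h1 := M.swap_cond hsc hs₁0 (σ s₁) (Or.inr rfl)
      have hσt : σ t = -t := by simp at htc; linear_combination htc
      rw [map_add, map_div₀ _ 1 t, map_one, hσt, div_neg]
      linear_combination h1
    subst hst
    refine W.compose hs₁0 ht0 (hs := hsc) (ht := htc) (hw := hw) (W.class_one (r := r * c) (by rw [map_mul, hr, hcfix])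
      (mul_ne_zero hr0 hc0) hs₁) (W.class_zero ht0) ?_
    refine ih (by omega) (r := 1 / (r * c * d * M.δ ^ 2)) ?_ ?_ ?_
    · rw [map_div₀, map_one, map_mul, map_mul, map_mul, map_pow, hr, hcfix, hdfix, M.δ_skew, neg_sq]
    · exact one_div_ne_zero (mul_ne_zero (mul_ne_zero (mul_ne_zero hr0 hc0) hd0) (pow_ne_zero _ M.δ_ne))
    · have e2 : s₁ + t = r * ((M.ω : F) ^ k * M.ω) * M.δ := by rw [e, hx, pow_succ]
      have hδ := M.δ_ne
      rw [div_add_div _ _ hs₁0 ht0, one_mul, mul_one, add_comm t, e2, hs₁, ht]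
      field_simp

theorem solved_all {g : W.P} (hg : g ∈ W.MU) (hne : g ≠ 1) : W.Solved g := by
  obtain ⟨a, s, hs, eg⟩ := W.π_MU hg
  by_cases hs0 : s = 0
  · exfalso
    subst hs0
    have ha : a = 0 := by simpa using hs
    subst ha
    exact hne (W.inj_MU hg (one_mem _) (by rw [eg, map_one, M.X_zero]))
  suffices h : W.SolvedAt a s hs from h g hg eg
  obtain ⟨i, hi⟩ := M.exists_pow (s / M.δ) (div_ne_zero hs0 M.δ_ne)
  set b := i / (q + 1)
  have hr : σ (M.ρ ^ b) = M.ρ ^ b := by rw [map_pow]; exact congrArg (· ^ b) M.ρ_fix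
  have hsv : s = M.ρ ^ b * (M.ω : F) ^ (i % (q + 1)) * M.δ := by
    show s = ((M.ω : F) ^ (q + 1)) ^ b * _ * _
    rw [← pow_mul, ← pow_add, Nat.div_add_mod, hi, div_mul_cancel₀ _ M.δ_ne]
  rcases Nat.eq_zero_or_pos (i % (q + 1)) with h0 | h0
  · rw [h0, pow_zero, mul_one] at hsv
    have ha : a = 0 := by
      have h1 : a * σ a = 0 := by
        rw [hsv, map_mul, hr, M.δ_skew] at hs
        linear_combination hs
      simpa using h1
    subst ha
    exact W.class_zero hs0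
  · exact W.class_all _ h0 (Nat.le_of_lt_succ (Nat.mod_lt _ (by omega))) hr (pow_ne_zero _ (pow_ne_zero _ M.ω.ne_zero))
      hsv

theorem card_P : Finite W.P ∧ Nat.card W.P ≤ Nat.card (Cfsg.SU 3 F q) := by
  classical
  haveI := W.MU_bound.1.to_subtype
  have hN : 0 < q ^ 2 - 1 := by
    have := M.hq; have : 9 ≤ q ^ 2 := by nlinarith
    omega
  let Φ : (W.MU × Fin (q ^ 2 - 1)) × Option W.MU → W.P := fun x =>
    (x.1.1 : W.P) * W.hh ^ x.1.2.val * x.2.elim 1 fun m => W.n * m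
  have hB : ∀ b ∈ W.Bor, ∃ p : W.MU × Fin (q ^ 2 - 1), b = (p.1 : W.P) * W.hh ^ p.2.val := by
    rintro _ ⟨x, hx, i, rfl⟩
    refine ⟨(⟨x, hx⟩, ⟨i % (q ^ 2 - 1), Nat.mod_lt _ hN⟩), ?_⟩
    show x * W.hh ^ i = x * W.hh ^ (i % (q ^ 2 - 1))
    conv_lhs => rw [← Nat.div_add_mod i (q ^ 2 - 1), pow_add, pow_mul, W.hh_pow, one_pow, one_mul]
  let S : Set W.P := (W.Bor : Set W.P) ∪ W.D
  have hSΦ : S ⊆ Set.range Φ := by
    rintro g (hg | ⟨b, hb, m, hm, rfl⟩)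
    · obtain ⟨p, rfl⟩ := hB g hg
      exact ⟨(p, none), by simp [Φ]⟩
    · obtain ⟨p, rfl⟩ := hB b hb
      exact ⟨(p, some ⟨m, hm⟩), by simp [Φ, mul_assoc]⟩
  have hBor : ∀ g ∈ S, ∀ b ∈ W.Bor, g * b ∈ S := by
    rintro g (hg | hg) b hb
    · exact Or.inl (mul_mem hg hb)
    · exact Or.inr (W.D_right hg hb)
  have hn : ∀ g ∈ S, g * W.n ∈ S := by
    rintro g (hg | ⟨b, hb, m, hm, rfl⟩)
    · exact Or.inr ⟨g, hg, 1, one_mem _, by rw [mul_one]⟩
    · rw [show b * W.n * m * W.n = b * (W.n * m * W.n) by group]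
      rcases eq_or_ne m 1 with rfl | hne
      · rw [mul_one, W.n_sq, mul_one]; exact Or.inl hb
      · exact Or.inr (W.D_left hb (W.solved_all hm hne))
  have hall : ∀ g : W.P, g ∈ S := by
    intro g
    have hg : g ∈ Subgroup.closure (Set.range (PresentedGroup.of (rels := {r | r ∈ W.rels}))) := by
      rw [PresentedGroup.closure_range_of]; trivial
    have hu : W.u ∈ W.Bor := W.MU_le (Subgroup.subset_closure (Or.inl ⟨0, cj_zero _ _⟩))
    have hh' : W.hh ∈ W.Bor := by simpa using W.hh_mem 1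
    have hnn : W.n⁻¹ = W.n := inv_eq_of_mul_eq_one_right W.n_sq
    induction hg using Subgroup.closure_induction_right with
    | one => exact Or.inl (one_mem _)
    | mul_right x _ y hy ih =>
      obtain ⟨i, rfl⟩ := hy
      fin_cases i
      · exact hBor x ih _ hu
      · exact hn x ih
      · exact hBor x ih _ hh'
    | mul_inv_cancel x _ y hy ih =>
      obtain ⟨i, rfl⟩ := hy
      fin_cases i
      · exact hBor x ih _ (inv_mem hu)
      · show x * W.n⁻¹ ∈ S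
        rw [hnn]; exact hn x ih
      · exact hBor x ih _ (inv_mem hh')
  have hsurj : Function.Surjective Φ := fun g => hSΦ (hall g)
  refine ⟨Finite.of_surjective Φ hsurj, (Nat.card_le_card_of_surjective Φ hsurj).trans ?_⟩
  rw [M.card_SU3, Nat.card_prod, Nat.card_prod, Finite.card_option, Nat.card_fin]
  have h1 := W.MU_bound.2
  exact Nat.mul_le_mul (Nat.mul_le_mul_right _ h1) (Nat.succ_le_succ h1)

theorem gens_generate : Subgroup.closure (Set.range M.gens) = ⊤ := by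
  have hq := M.hq
  set K := Subgroup.closure (Set.range M.gens) with hK
  have hlift : ∀ w, FreeGroup.lift M.gens w ∈ K := fun w => by
    rw [hK, ← FreeGroup.range_lift_eq_closure]; exact ⟨w, rfl⟩
  refine eq_top_of_rad M.hF (le_refl 3) (fun h => by omega) M.h_ee (g := M.nn) ?_ ?_ ?_
  · rw [← M.lift_T]; exact hlift T
  · rw [M.nn_e, f, Three.e, M.fr.fe, if_pos rfl]; exact one_ne_zero
  · intro a s ha hs g hg
    have he : a = Cfsg.hermForm 3 F q a M.w • M.w + Cfsg.hermForm 3 F q a M.f • M.e := by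
      conv_lhs => rw [M.fr.expand a]
      simp only [Fintype.sum_sum_type, Fin.sum_univ_one, opp, Sum.map_inl, Sum.map_inr, Sum.swap_inl, Sum.swap_inr,
        id_eq]
      rw [show Cfsg.hermForm 3 F q a (M.fr.v (Sum.inl (Sum.inl 0))) = 0 from ha, zero_smul, add_zero, add_comm]
      rfl
    set c := Cfsg.hermForm 3 F q a M.w with hc
    set d := Cfsg.hermForm 3 F q a M.f with hd
    rw [he, umat_shift M c d s] at hg
    have hcond : c * σ c + (s + d - σ d) + σ (s + d - σ d) = 0 := by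
      have h1 : Cfsg.hermForm 3 F q a a = c * σ c := by
        rw [he]
        simp only [h_add_left, h_add_right M.hF, h_smul_left, h_smul_right M.hF, w, Three.e, M.fr.uu, M.fr.ue,
          M.fr.eu, M.fr.ee]
        ring
      rw [map_sub, map_add, frob_frob]
      linear_combination hs - h1
    obtain ⟨w, -, ew⟩ := M.exists_word_UU (g := M.X c _ hcond) ⟨_, _, _, rfl⟩
    rw [show g = M.X c _ hcond from su_ext fun v => by rw [hg]; rfl, ← ew]
    exact hlift w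

/-- The isomorphism. -/
theorem exists_iso : ∃ e : W.P ≃* Cfsg.SU 3 F q, ∀ i, e (PresentedGroup.of i) = M.gens i := by
  obtain ⟨hfin, hcard⟩ := W.card_P
  have hsurj : Function.Surjective W.π := by
    rw [← MonoidHom.range_eq_top, eq_top_iff, ← gens_generate, Subgroup.closure_le]
    rintro _ ⟨i, rfl⟩
    exact ⟨_, PresentedGroup.toGroup.of W.holds⟩
  exact ⟨MulEquiv.ofBijective W.π ((Nat.bijective_iff_surjective_and_card W.π).2
    ⟨hsurj, le_antisymm hcard (Nat.card_le_card_of_surjective W.π hsurj)⟩), fun i => PresentedGroup.toGroup.of W.holds⟩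

end Choice

end Three

end CfsgLib.SUShort
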