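import Cfsg.Agent.Lib.SmallSimple.PSU32

/-!
# `SU₃(2)` is generated by two elements
-/

set_option autoImplicit false
set_option linter.style.haveILetI false
set_option maxRecDepth 20000

namespace CfsgLib.SUShort

open CfsgLib.PSU32

attribute [local irreducible] img table mulC detC hC isScalar

set_option maxHeartbeats 1600000 in
theorem su32_two_gen {F : Type*} [Field F] [Fintype F] (hF : Fintype.card F = 4) :
    ∃ a b : Cfsg.SU 3 F 2, Subgroup.closure ({a, b} : Set (Cfsg.SU 3 F 2)) = ⊤ := by
  classical
  obtain ⟨φ, hlt, hinj, h0, h1, hadd, hmul, -⟩ := CfsgLib.PSU32.exists_phi hF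
  have hF2 : Fintype.card F = 2 ^ 2 := by rw [hF]; norm_num
  let enc : Cfsg.SU 3 F 2 → ℕ := fun g => code φ (UnitarySimple.mat g)
  have hd : ∀ (g : Cfsg.SU 3 F 2) (i j : Fin 3), dg (enc g) (3 * i + j) = φ (UnitarySimple.mat g i j) :=
    fun g => dg_code hlt _
  have encinj : Function.Injective enc := fun g k e => by
    refine Subtype.ext (Subtype.ext (Matrix.ext fun i j => hinj ?_))
    show φ (UnitarySimple.mat g i j) = φ (UnitarySimple.mat k i j)
    rw [← hd, ← hd, e]
  have encmul : ∀ g k, enc (g * k) = mulC (enc g) (enc k) := by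
    intro g k
    have hent : ∀ i j : Fin 3, φ ((UnitarySimple.mat g * UnitarySimple.mat k) i j) = ent (enc g) (enc k) i j := by
      intro i j
      rw [Matrix.mul_apply, Fin.sum_univ_three, hadd, hadd, hmul, hmul, hmul, ← hd g i 0, ← hd g i 1, ← hd g i 2,
        ← hd k 0 j, ← hd k 1 j, ← hd k 2 j]
      simp [ent]
    show code φ (UnitarySimple.mat (g * k)) = _
    rw [UnitarySimple.mat_mul]
    simp only [code, mulC, hent]
    rfl
  -- every element is in the table
  have hcov : ∀ g, enc g ∈ codes := by
    intro g
    let col : Fin 3 → ℕ := fun j => φ (UnitarySimple.mat g 0 j) + 4 * (φ (UnitarySimple.mat g 1 j) + 4 * φ (UnitarySimple.mat g 2 j))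
    have hcd : ∀ j, dg (col j) 0 = φ (UnitarySimple.mat g 0 j) ∧ dg (col j) 1 = φ (UnitarySimple.mat g 1 j) ∧
        dg (col j) 2 = φ (UnitarySimple.mat g 2 j) := by
      intro j
      have := hlt (UnitarySimple.mat g 0 j)
      have := hlt (UnitarySimple.mat g 1 j)
      have := hlt (UnitarySimple.mat g 2 j)
      simp only [col, dg]
      norm_num
      omega
    have hherm : ∀ a b : Fin 3, hC (col a) (col b) = if a = b then 1 else 0 := by
      intro a b
      have h := UnitarySimple.su_h g (Pi.single a 1) (Pi.single b 1)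
      simp only [Cfsg.hermForm, Fin.sum_univ_three, Matrix.mulVec_single_one, Matrix.col_apply] at h
      have h' := congrArg φ h
      simp only [hadd, hmul, pow_two] at h'
      simp only [hC, (hcd a).1, (hcd a).2.1, (hcd a).2.2, (hcd b).1, (hcd b).2.1, (hcd b).2.2]
      rw [h']
      fin_cases a <;> fin_cases b <;> simp [h0, h1, M]
    have hunit : ∀ a, col a ∈ units := fun a => by
      refine List.mem_filter.mpr ⟨List.mem_range.mpr ?_, by simp [hherm]⟩
      have := hlt (UnitarySimple.mat g 0 a)
      have := hlt (UnitarySimple.mat g 1 a)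
      have := hlt (UnitarySimple.mat g 2 a)
      simp only [col]
      omega
    have hcols : cols (col 0) (col 1) (col 2) = enc g := by
      simp only [cols, (hcd _).1, (hcd _).2.1, (hcd _).2.2]
      rfl
    have hneg : ∀ x : F, -x = x := by
      intro x
      refine hinj ?_
      have h := hadd x (-x)
      rw [add_neg_cancel, h0] at h
      exact (Nat.xor_eq_zero_iff.mp h.symm).symm
    have hdet : detC (enc g) = 1 := by
      have h : (UnitarySimple.mat g).det = 1 := (g : Matrix.SpecialLinearGroup (Fin 3) F).2
      rw [Matrix.det_fin_three] at h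
      simp only [sub_eq_add_neg, hneg] at h
      have h' := congrArg φ h
      simp only [hadd, hmul, h1] at h'
      rw [← h']
      simp only [detC, show dg (enc g) 0 = φ (UnitarySimple.mat g 0 0) from hd g 0 0,
        show dg (enc g) 1 = φ (UnitarySimple.mat g 0 1) from hd g 0 1,
        show dg (enc g) 2 = φ (UnitarySimple.mat g 0 2) from hd g 0 2,
        show dg (enc g) 3 = φ (UnitarySimple.mat g 1 0) from hd g 1 0,
        show dg (enc g) 4 = φ (UnitarySimple.mat g 1 1) from hd g 1 1,
        show dg (enc g) 5 = φ (UnitarySimple.mat g 1 2) from hd g 1 2,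
        show dg (enc g) 6 = φ (UnitarySimple.mat g 2 0) from hd g 2 0,
        show dg (enc g) 7 = φ (UnitarySimple.mat g 2 1) from hd g 2 1,
        show dg (enc g) 8 = φ (UnitarySimple.mat g 2 2) from hd g 2 2]
      ac_rfl
    have h := cover
    simp only [List.all_eq_true, Bool.or_eq_true, bne_iff_ne, List.contains_iff_mem] at h
    have h01 := (h _ (hunit 0) _ (hunit 1)).resolve_left (by simp [hherm])
    rcases h01 _ (hunit 2) with ((e | e) | e) | e
    · exact absurd (by simp [hherm]) e
    · exact absurd (by simp [hherm]) e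
    · exact absurd (by rw [hcols]; exact hdet) e
    · rwa [hcols] at e
  -- and conversely
  have hcard : Nat.card (Cfsg.SU 3 F 2) = 216 := by
    have h := CfsgLib.UnitaryOrder.card_GU hF2 3
    rw [CfsgLib.UnitaryOrder.card_GU_eq hF2 (by norm_num)] at h
    norm_num [Finset.prod_range_succ, Nat.even_iff] at h
    rw [Nat.card_eq_fintype_card]
    omega
  have hsurj : ∀ c ∈ codes, ∃ g, enc g = c := by
    let f : Cfsg.SU 3 F 2 → {c // c ∈ codes} := fun g => ⟨enc g, hcov g⟩
    have hf : Function.Bijective f := Function.Injective.bijective_of_nat_card_le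
      (fun g k e => encinj (congrArg Subtype.val e)) (by
        rw [hcard, Nat.card_eq_fintype_card, Fintype.card_of_subtype codes.toFinset (fun x => List.mem_toFinset),
          List.toFinset_card_of_nodup table_basic.2.2.2.1, table_basic.1])
    exact fun c hc => (hf.2 ⟨c, hc⟩).imp fun g hg => congrArg Subtype.val hg
  have hmem : ∀ c ∈ codes, ∃ p ∈ table, p.1 = c := fun c hc => List.mem_map.mp hc
  have enc1 : enc 1 = 65793 := by
    show code φ (UnitarySimple.mat 1) = 65793
    rw [UnitarySimple.mat_one]
    simp [code, h0, h1, asm]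
  have hlen : table.length = 216 := by rw [← table_basic.1, codes, List.length_map]
  obtain ⟨s0, hs0⟩ := hsurj _ (table_basic.2.2.2.2 0 (by norm_num))
  obtain ⟨s1, hs1⟩ := hsurj _ (table_basic.2.2.2.2 1 (by norm_num))
  refine ⟨s0, s1, eq_top_iff.2 fun g _ => ?_⟩
  have hgood : ∀ i < 216, ∀ b, enc b = (table.getD i (0, 0, 0, 0)).1 →
      b ∈ Subgroup.closure ({s0, s1} : Set (Cfsg.SU 3 F 2)) := by
    intro i
    induction i using Nat.strong_induction_on with
    | _ i ih =>
      intro hi b hb
      rcases Nat.eq_zero_or_pos i with rfl | hpos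
      · rw [show b = 1 from encinj (hb.trans (table_basic.2.1.trans enc1.symm))]
        exact one_mem _
      · have h := table_parent
        simp only [List.all_eq_true, List.mem_range, Bool.or_eq_true, beq_iff_eq, Bool.and_eq_true,
          decide_eq_true_eq] at h
        obtain ⟨⟨hp, hk⟩, hpar⟩ := (h i hi).resolve_left (by omega)
        generalize (table.getD i (0, 0, 0, 0)).2.2.1 = p at hp hpar
        generalize (table.getD i (0, 0, 0, 0)).2.2.2 = k at hk hpar
        have hpm : (table.getD p (0, 0, 0, 0)).1 ∈ codes := by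
          rw [List.getD_eq_getElem _ _ (by omega)]
          exact List.mem_map_of_mem (List.getElem_mem _)
        obtain ⟨c, hc⟩ := hsurj _ hpm
        have hmem0 := ih p hp (by omega) c hc
        interval_cases k
        · rw [show b = c * s0 from encinj (by rw [hb, encmul, hc, hs0, hpar])]
          exact mul_mem hmem0 (Subgroup.subset_closure (Set.mem_insert _ _))
        · rw [show b = c * s1 from encinj (by rw [hb, encmul, hc, hs1, hpar])]
          exact mul_mem hmem0 (Subgroup.subset_closure (Set.mem_insert_of_mem _ rfl))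
  obtain ⟨r, hr, hrg⟩ := hmem _ (hcov g)
  obtain ⟨i, hi, rfl⟩ := List.getElem_of_mem hr
  exact hgood i (hlen ▸ hi) g (by rw [List.getD_eq_getElem _ _ hi]; exact hrg.symm)

end CfsgLib.SUShort
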