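import Cfsg.Agent.Lib.SUShort.GlueData
import Cfsg.Agent.Lib.SUShort.SU32Gen
import Cfsg.Agent.Lib.TwoGenClassical.Unit

/-!
# Generators of the subgroups attached to the first two and the first three coordinates
-/

set_option autoImplicit false
set_option linter.unusedSectionVars false

namespace CfsgLib.SUShort

open Equiv Equiv.Perm Matrix CfsgLib.UnitaryTransvection CfsgLib.UnitarySimple CfsgLib.SUCover

variable {F : Type} [Field F] [Fintype F] {q n : ℕ} (hF : Fintype.card F = q ^ 2) (hn : 5 ≤ n)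

/-- The elements of `SU₄` supported on the first `k` coordinates. -/
noncomputable def Sk (k : ℕ) : Subgroup (Cfsg.SU 4 F q) := (Supp (Low k : Finset (Fin n))).comap (E4 hF hn)

theorem mem_Sk {k : ℕ} {x : Cfsg.SU 4 F q} : x ∈ Sk hF hn k ↔ E4 hF hn x ∈ Supp (Low k) := Iff.rfl

theorem sk_mono {i k : ℕ} (h : i ≤ k) : Sk hF hn i ≤ Sk hF hn k := fun _ hx => supp_mono (low_mono h) hx

theorem exists_sk {k : ℕ} (hk : k ≤ 4) (A : Cfsg.SU k F q) :
    ∃ x ∈ Sk hF hn k, E4 hF hn x = embS hF (Fin.castLEEmb (show k ≤ n by omega)) A := by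
  have h : embS hF (Fin.castLEEmb (show k ≤ n by omega)) A ∈ Supp (Low k : Finset (Fin n)) := by
    rw [low_eq_map (show k ≤ n by omega)]; exact embS_mem hF _ A
  obtain ⟨x, hx⟩ := exists_E4 hF hn (supp_mono (low_mono hk) h)
  exact ⟨x, by rw [mem_Sk, hx]; exact h, hx⟩

theorem sk_closure {k : ℕ} (hk : k ≤ 4) {a b : Cfsg.SU k F q}
    (hab : Subgroup.closure ({a, b} : Set (Cfsg.SU k F q)) = ⊤) :
    ∃ u : Fin 2 → Cfsg.SU 4 F q, (∀ i, u i ∈ Sk hF hn k) ∧ Sk hF hn k ≤ Subgroup.closure (Set.range u) := by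
  obtain ⟨x, hx, ex⟩ := exists_sk hF hn hk a
  obtain ⟨y, hy, ey⟩ := exists_sk hF hn hk b
  refine ⟨![x, y], fun i => by fin_cases i <;> assumption, fun z hz => ?_⟩
  rw [mem_Sk, low_eq_map (show k ≤ n by omega)] at hz
  obtain ⟨A, hA⟩ := exists_embS hF _ hz
  have : embS hF (Fin.castLEEmb (show k ≤ n by omega)) A ∈ (Subgroup.closure (Set.range ![x, y])).map (E4 hF hn) := by
    have hle : (⊤ : Subgroup (Cfsg.SU k F q)) ≤
        ((Subgroup.closure (Set.range ![x, y])).map (E4 hF hn)).comap (embS hF (Fin.castLEEmb (show k ≤ n by omega))) := by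
      rw [← hab, Subgroup.closure_le]
      rintro _ (rfl | rfl)
      · exact ⟨x, Subgroup.subset_closure ⟨0, rfl⟩, ex⟩
      · exact ⟨y, Subgroup.subset_closure ⟨1, rfl⟩, ey⟩
    exact hle (Subgroup.mem_top A)
  obtain ⟨z', hz', e⟩ := this
  rwa [← E4_injective hF hn (e.trans hA)]

theorem exists_gen3 : ∃ u : Fin 2 → Cfsg.SU 4 F q,
    (∀ i, u i ∈ Sk hF hn 3) ∧ Sk hF hn 3 ≤ Subgroup.closure (Set.range u) := by
  by_cases hq : q = 2
  · subst hq
    obtain ⟨a, b, hab⟩ := su32_two_gen (F := F) (by rw [hF]; norm_num)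
    exact sk_closure hF hn (by norm_num) hab
  · obtain ⟨a, b, hab⟩ := CfsgLib.TwoGenCl.Unit.su_two_gen hF 3 le_rfl (fun _ => hq)
    exact sk_closure hF hn (by norm_num) hab

include hF in
theorem su2_two_pair (hq : q = 2) :
    ∃ Y W : Cfsg.SU 2 F q, mat W = (1 : Matrix (Fin 2) (Fin 2) F).submatrix (swap 0 1 : Perm (Fin 2)) id ∧
      Subgroup.closure ({Y, W * Y * W⁻¹} : Set (Cfsg.SU 2 F q)) = ⊤ := by
  have h2 : (2 : F) = 0 := by
    have h := Nat.cast_card_eq_zero F
    rw [hF, hq] at h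
    rw [Nat.cast_pow, sq] at h
    exact mul_self_eq_zero.1 (by simpa using h)
  have hneg : (-1 : F) = 1 := by linear_combination -h2
  obtain ⟨ω, hω1, hω⟩ := exists_omega hF
  let W : Cfsg.SU 2 F q := permSU hF (swap 0 1) (by rw [sign_swap (by decide)]; simpa using hneg)
  let Y : Cfsg.SU 2 F q := toSU hF !![0, ω; frob hF ω, 0]
    (by
      unfold UMat
      ext i j
      fin_cases i <;> fin_cases j <;>
        simp [Matrix.mul_apply, Fin.sum_univ_two, Matrix.one_apply, hω, frob_frob hF, mul_comm (frob hF ω) ω])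
    (by rw [Matrix.det_fin_two_of]; linear_combination -hω - h2 + (0 : F))
  refine ⟨Y, W, mat_permSU hF _ _, ?_⟩
  have hY2 : Y * Y = 1 := su_eq_of_mat (by
    rw [mat_mul, mat_toSU, mat_one]
    ext i j
    fin_cases i <;> fin_cases j <;>
      simp [Matrix.mul_apply, Fin.sum_univ_two, hω, mul_comm (frob hF ω) ω])
  have hY1 : Y ≠ 1 := fun e => by
    have := congrFun (congrFun (congrArg mat e) 0) 0
    rw [mat_toSU, mat_one] at this
    simp at this
  have hne : W * Y * W⁻¹ ≠ Y := fun e => by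
    rw [mul_inv_eq_iff_eq_mul] at e
    have := congrFun (congrFun (congrArg mat e) 0) 0
    rw [mat_mul, mat_mul, mat_permSU, mat_toSU] at this
    simp [Matrix.mul_apply, Fin.sum_univ_two, Matrix.one_apply] at this
    rw [this] at hω
    have hzero : (ω + 1) * (ω + 1) = 0 := by linear_combination hω + (ω + 1) * h2
    exact hω1 (by linear_combination mul_self_eq_zero.1 hzero - h2)
  have hcard : Nat.card (Cfsg.SU 2 F q) = 6 := by
    classical
    have h1 := card_GU_SU hF (n := 2) (by norm_num)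
    rw [UnitaryOrder.card_GU hF, Finset.prod_range_succ, Finset.prod_range_succ, Finset.prod_range_zero,
      if_pos (by decide), if_neg (by decide)] at h1
    subst hq
    norm_num at h1
    rw [Nat.card_eq_fintype_card]
    omega
  set H := Subgroup.closure ({Y, W * Y * W⁻¹} : Set (Cfsg.SU 2 F q))
  have hd : Nat.card H ∣ 6 := hcard ▸ Subgroup.card_subgroup_dvd_card H
  have ho : orderOf Y = 2 := orderOf_eq_prime (by rw [sq, hY2]) hY1
  have hYH : Y ∈ H := Subgroup.subset_closure (Or.inl rfl)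
  have hzH : W * Y * W⁻¹ ∈ H := Subgroup.subset_closure (Or.inr rfl)
  have h2d : 2 ∣ Nat.card H := by
    have := orderOf_dvd_natCard (⟨Y, hYH⟩ : H)
    rwa [Subgroup.orderOf_mk, ho] at this
  have h3c : 2 < Nat.card H := by
    classical
    rw [Nat.card_eq_fintype_card, Fintype.two_lt_card_iff]
    exact ⟨⟨1, one_mem _⟩, ⟨Y, hYH⟩, ⟨_, hzH⟩, fun e => hY1 (congrArg Subtype.val e).symm,
      fun e => hY1 (mul_left_cancel (a := W) (mul_right_cancel (b := W⁻¹)
        ((congrArg Subtype.val e).symm.trans (by simp)))),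
      fun e => hne (congrArg Subtype.val e).symm⟩
  have h6 : Nat.card H = 6 := by
    have := Nat.le_of_dvd (by norm_num) hd
    interval_cases (Nat.card H) <;> omega
  exact Subgroup.eq_top_of_card_eq H (by rw [h6, hcard])

theorem exists_gen2 (hq : q = 2) : ∃ y : Cfsg.SU 4 F q, y ∈ Sk hF hn 2 ∧
    ∀ y' : Cfsg.SU 4 F q, E4 hF hn y' = pmA hF (δA hn) * E4 hF hn y * (pmA hF (δA hn))⁻¹ →
      Sk hF hn 2 ≤ Subgroup.closure {y, y'} := by
  obtain ⟨Y, W, hW, hgen⟩ := su2_two_pair hF hq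
  obtain ⟨u, hu, eu⟩ := exists_sk hF hn (k := 2) (by norm_num) Y
  obtain ⟨w, hw, ew⟩ := exists_sk hF hn (k := 2) (by norm_num) (W * Y * W⁻¹)
  refine ⟨u, hu, fun y' hy' => ?_⟩
  have hf : ∀ i : Fin 2, (Fin.castLEEmb (show 2 ≤ n by omega)) i = p5 hn (Fin.castLE (by norm_num) i) := fun i => rfl
  -- the double transposition acts as the swap
  have hyw : y' = w := by
    refine E4_injective hF hn ?_
    rw [hy', eu, ew]
    set f := (Fin.castLEEmb (show 2 ≤ n by omega))
    set p := pmA hF (δA hn) * (embS hF f W)⁻¹ with hp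
    have hmem : embS hF f W ∈ Supp (Low 2 : Finset (Fin n)) := by
      rw [low_eq_map (show 2 ≤ n by omega)]; exact embS_mem hF _ W
    have hpf : p ∈ Supp ((Low 2 : Finset (Fin n))ᶜ) := by
      intro j hj
      have hjL : j ∈ (Low 2 : Finset (Fin n)) := by simpa using hj
      have key : ∀ i : Fin 2, mat (embS hF f W) *ᵥ (ev1 (f i) : Fin n → F) = ev1 (f (swap 0 1 i)) := by
        intro i
        funext x
        rw [mat_embS, ev1, Matrix.mulVec_single_one, Matrix.col_apply]
        by_cases hx : x ∈ Set.range f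
        · obtain ⟨k, rfl⟩ := hx
          rw [embM_apply, hW, Matrix.submatrix_apply, Matrix.one_apply, ev1]
          have : (swap 0 1 : Perm (Fin 2)) k = i ↔ k = (swap 0 1 : Perm (Fin 2)) i := by
            fin_cases k <;> fin_cases i <;> decide
          simp [Pi.single_apply, f.injective.eq_iff, this]
        · rw [embM_apply_row f hx, Matrix.one_apply_ne (fun e => hx ⟨i, e.symm⟩), ev1,
            Pi.single_eq_of_ne (fun e => hx ⟨_, e.symm⟩)]
      obtain ⟨i, rfl⟩ : ∃ i : Fin 2, f i = j := ⟨⟨j, by rw [mem_Low] at hjL; exact hjL⟩, Fin.ext rfl⟩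
      have hinv : mat (embS hF f W)⁻¹ *ᵥ (ev1 (f i) : Fin n → F) = ev1 (f (swap 0 1 i)) := by
        conv_lhs => rw [show f i = f (swap 0 1 (swap 0 1 i)) by rw [swap_apply_self], ← key, mat_inv_mulVec']
      rw [hp, mat_mul, ← mulVec_mulVec, hinv, pmA_ev1, hf, hf, δA_apply]
      fin_cases i <;> rfl
    have hd : Disjoint ((Low 2 : Finset (Fin n))ᶜ) (Low 2) := disjoint_compl_left
    have hYm : embS hF f Y ∈ Supp (Low 2 : Finset (Fin n)) := by
      rw [low_eq_map (show 2 ≤ n by omega)]; exact embS_mem hF _ Y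
    have hc := supp_commute hd hF hpf (mul_mem (mul_mem hmem hYm) (inv_mem hmem))
    calc pmA hF (δA hn) * embS hF f Y * (pmA hF (δA hn))⁻¹
        = p * (embS hF f W * embS hF f Y * (embS hF f W)⁻¹) * p⁻¹ := by rw [hp]; group
      _ = embS hF f (W * Y * W⁻¹) := by rw [hc.eq, mul_inv_cancel_right, map_mul, map_mul, map_inv]
  subst hyw
  intro z hz
  rw [mem_Sk, low_eq_map (show 2 ≤ n by omega)] at hz
  obtain ⟨A, hA⟩ := exists_embS hF _ hz
  have : embS hF (Fin.castLEEmb (show 2 ≤ n by omega)) A ∈ (Subgroup.closure ({u, y'} : Set (Cfsg.SU 4 F q))).map (E4 hF hn) := by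
    have hle : (⊤ : Subgroup (Cfsg.SU 2 F q)) ≤
        ((Subgroup.closure ({u, y'} : Set (Cfsg.SU 4 F q))).map (E4 hF hn)).comap (embS hF (Fin.castLEEmb (show 2 ≤ n by omega))) := by
      rw [← hgen, Subgroup.closure_le]
      rintro _ (rfl | rfl)
      · exact ⟨u, Subgroup.subset_closure (Or.inl rfl), eu⟩
      · exact ⟨y', Subgroup.subset_closure (Or.inr rfl), ew⟩
    exact hle (Subgroup.mem_top A)
  obtain ⟨z', hz', e⟩ := this
  rwa [← E4_injective hF hn (e.trans hA)]

end CfsgLib.SUShort
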