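import Cfsg.Agent.Lib.SUShort.GlueSets
import Mathlib.GroupTheory.Perm.Fin

/-!
# One cycle and its conjugate generate the even permutations of the coordinates from the fourth on
-/

set_option autoImplicit false

namespace CfsgLib.SUShort

open Equiv Equiv.Perm
open CfsgLib.ShortPres (cyc3 altOn mem_altOn)

variable {n : ℕ} (hn : 5 ≤ n)

theorem cyc3_rev {a b x : Fin n} (hab : a ≠ b) (hax : a ≠ x) (hbx : b ≠ x) : cyc3 a b x * cyc3 x b a = 1 := by
  ext c
  rw [Perm.mul_apply, Perm.one_apply]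
  by_cases h1 : c = x
  · subst h1
    rw [CfsgLib.ShortPres.cyc3_a hbx.symm hab, CfsgLib.ShortPres.cyc3_b]
  by_cases h2 : c = b
  · subst h2
    rw [CfsgLib.ShortPres.cyc3_b, CfsgLib.ShortPres.cyc3_a hab hbx.symm]
  by_cases h3 : c = a
  · subst h3
    rw [CfsgLib.ShortPres.cyc3_x hax.symm hab, CfsgLib.ShortPres.cyc3_x hax hbx.symm]
  rw [CfsgLib.ShortPres.cyc3_of_ne h1 h2 h3, CfsgLib.ShortPres.cyc3_of_ne h3 h2 h1]

/-- The first moved coordinate. -/
def sS (n : ℕ) : ℕ := if (n - 3) % 2 = 1 then 3 else 4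

theorem sS_facts (h : 5 ≤ n) : (sS n = 3 ∧ (n - 3) % 2 = 1 ∨ sS n = 4 ∧ (n - 3) % 2 = 0) ∧ 3 ≤ sS n ∧ sS n ≤ 4 := by
  unfold sS
  split_ifs with h1 <;> omega

/-- The cycle. -/
def gS : alternatingGroup (Fin n) :=
  ⟨Fin.cycleIcc ⟨sS n, by have := sS_facts hn; omega⟩ ⟨n - 1, by omega⟩, mem_alternatingGroup.2 (by
    have := sS_facts hn
    rw [Fin.sign_cycleIcc_of_le (by simp [Fin.le_def]; omega)]
    exact Even.neg_one_pow ⟨(n - 1 - sS n) / 2, by simp; omega⟩)⟩

theorem gS_low {j : Fin n} (hj : (j : ℕ) < sS n) : (gS hn : Perm (Fin n)) j = j :=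
  Fin.cycleIcc_of_lt (by simpa [Fin.lt_def] using hj)

theorem gS_fix {j : Fin n} (hj : j ∈ (Low 3 : Finset (Fin n))) : (gS hn : Perm (Fin n)) j = j :=
  gS_low hn (by rw [mem_Low] at hj; have := sS_facts hn; omega)

theorem gS_succ {j : ℕ} (h1 : sS n ≤ j) (h2 : j + 1 < n) :
    (gS hn : Perm (Fin n)) ⟨j, by omega⟩ = ⟨j + 1, h2⟩ := by
  haveI : NeZero n := ⟨by omega⟩
  show Fin.cycleIcc (⟨sS n, _⟩ : Fin n) ⟨n - 1, _⟩ ⟨j, by omega⟩ = _
  rw [Fin.cycleIcc_of_ge_of_lt (by simpa [Fin.le_def] using h1) (by simp [Fin.lt_def]; omega)]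
  refine Fin.ext ?_
  simp only [Fin.val_add, Fin.val_one']
  rw [Nat.one_mod_eq_one.2 (by omega), Nat.mod_eq_of_lt (by omega)]

/-- The group generated by the cycle and its conjugate contains the even permutations of `{3, ..., n - 1}`. -/
theorem stab_gen (hn6 : 6 ≤ n) (G : Subgroup (Perm (Fin n))) (hg : (gS hn : Perm (Fin n)) ∈ G)
    (hg' : (δA hn : Perm (Fin n)) * gS hn * (δA hn : Perm (Fin n))⁻¹ ∈ G) :
    altOn ((↑(Low 3 : Finset (Fin n)) : Set (Fin n))ᶜ) ≤ G := by
  have hs := sS_facts hn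
  let ν : ℕ → Fin n := fun k => if h : k < n then ⟨k, h⟩ else ⟨0, by omega⟩
  have νval : ∀ k, k < n → (ν k : ℕ) = k := fun k hk => by simp [ν, hk]
  have νne : ∀ i j, i < n → j < n → i ≠ j → ν i ≠ ν j := fun i j hi hj hij e => hij (by
    rw [← νval i hi, e, νval j hj])
  set g := (gS hn : Perm (Fin n)) with hgdef
  have g_succ : ∀ k, sS n ≤ k → k + 1 < n → g (ν k) = ν (k + 1) := fun k h1 h2 => by
    simp only [ν, dif_pos (show k < n by omega), dif_pos h2]
    exact gS_succ hn h1 h2
  have g_low : ∀ k, k < sS n → g (ν k) = ν k := fun k hk => gS_low hn (by rw [νval k (by omega)]; exact hk)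
  -- the first three-cycle
  have hC : cyc3 (ν 3) (ν 4) (ν 5) ∈ G := by
    have h34 : swap (ν 3) (ν 4) * g * swap (ν 3) (ν 4) = (δA hn : Perm (Fin n)) * g * (δA hn : Perm (Fin n))⁻¹ := by
      have e01 : p5 hn 0 = ν 0 ∧ p5 hn 1 = ν 1 ∧ p5 hn 3 = ν 3 ∧ p5 hn 4 = ν 4 := by
        refine ⟨?_, ?_, ?_, ?_⟩ <;> refine Fin.ext ?_ <;> rw [νval _ (by omega), p5_val] <;> rfl
      have hc : swap (ν 0) (ν 1) * g = g * swap (ν 0) (ν 1) := by
        rw [Equiv.mul_swap_eq_swap_mul, g_low 0 (by omega), g_low 1 (by omega)]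
      have hc2 : swap (ν 0) (ν 1) * swap (ν 3) (ν 4) = swap (ν 3) (ν 4) * swap (ν 0) (ν 1) := by
        rw [Equiv.mul_swap_eq_swap_mul, swap_apply_of_ne_of_ne (νne 3 0 (by omega) (by omega) (by omega))
          (νne 3 1 (by omega) (by omega) (by omega)), swap_apply_of_ne_of_ne (νne 4 0 (by omega) (by omega) (by omega))
          (νne 4 1 (by omega) (by omega) (by omega))]
      simp only [δA, e01.1, e01.2.1, e01.2.2.1, e01.2.2.2, _root_.mul_inv_rev, swap_inv]
      calc swap (ν 3) (ν 4) * g * swap (ν 3) (ν 4)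
          = swap (ν 3) (ν 4) * (swap (ν 0) (ν 1) * (swap (ν 0) (ν 1) * g)) * swap (ν 3) (ν 4) := by
            rw [← mul_assoc (swap (ν 0) (ν 1)), swap_mul_self, one_mul]
        _ = swap (ν 3) (ν 4) * (swap (ν 0) (ν 1) * (g * swap (ν 0) (ν 1))) * swap (ν 3) (ν 4) := by rw [hc]
        _ = (swap (ν 3) (ν 4) * swap (ν 0) (ν 1)) * g * (swap (ν 0) (ν 1) * swap (ν 3) (ν 4)) := by group
        _ = (swap (ν 0) (ν 1) * swap (ν 3) (ν 4)) * g * (swap (ν 3) (ν 4) * swap (ν 0) (ν 1)) := by rw [hc2]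
    have ht : g * ((δA hn : Perm (Fin n)) * g * (δA hn : Perm (Fin n))⁻¹)⁻¹ ∈ G := mul_mem hg (inv_mem hg')
    rw [← h34] at ht
    have e : g * (swap (ν 3) (ν 4) * g * swap (ν 3) (ν 4))⁻¹ = swap (g (ν 3)) (g (ν 4)) * swap (ν 3) (ν 4) := by
      rw [_root_.mul_inv_rev, _root_.mul_inv_rev, swap_inv, swap_apply_apply]; group
    rw [e] at ht
    rcases hs.1 with ⟨h3, -⟩ | ⟨h4, -⟩
    · rw [g_succ 3 (by omega) (by omega), g_succ 4 (by omega) (by omega)] at ht
      have e2 : cyc3 (ν 4) (ν 3) (ν 5) = swap (ν 4) (ν 5) * swap (ν 3) (ν 4) := by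
        rw [cyc3, Equiv.swap_comm (ν 4) (ν 3)]
      rw [← e2, CfsgLib.ShortPres.cyc3_swap (νne 3 4 (by omega) (by omega) (by omega))
        (νne 3 5 (by omega) (by omega) (by omega)) (νne 4 5 (by omega) (by omega) (by omega))] at ht
      simpa using inv_mem ht
    · rw [g_low 3 (by omega), g_succ 4 (by omega) (by omega)] at ht
      exact ht
  have conj_mem : ∀ {x}, x ∈ G → g * x * g⁻¹ ∈ G := fun hx => mul_mem (mul_mem hg hx) (inv_mem hg)
  have main : ∀ j, 5 ≤ j → j < n → cyc3 (ν 3) (ν 4) (ν j) ∈ G := by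
    rcases hs.1 with ⟨h3, hpar⟩ | ⟨h4, -⟩
    · -- consecutive triples
      have hE : ∀ i, 3 ≤ i → i + 2 < n → cyc3 (ν i) (ν (i + 1)) (ν (i + 2)) ∈ G := by
        intro i hi
        induction i, hi using Nat.le_induction with
        | base => intro _; exact hC
        | succ i hi ih =>
          intro h2
          have := conj_mem (ih (by omega))
          rwa [CfsgLib.ShortPres.conj_cyc3, g_succ i (by omega) (by omega), g_succ (i + 1) (by omega) (by omega),
            g_succ (i + 2) (by omega) (by omega)] at this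
      intro j hj
      induction j, hj using Nat.le_induction with
      | base => intro _; exact hC
      | succ j hj ih =>
        intro hjn
        rcases eq_or_lt_of_le hj with rfl | hj5
        · -- the second step
          have n1 := fun i k (h : i < 7) (h' : k < 7) (hik : i ≠ k) (hi : i < n) (hk : k < n) => νne i k hi hk hik
          have ne := fun i k (hi : i < n) (hk : k < n) (hik : i ≠ k) => νne i k hi hk hik
          have h456 : cyc3 (ν 4) (ν 5) (ν 6) ∈ G := hE 4 (by omega) (by omega)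
          have h1 := mul_mem (mul_mem h456 hC) (inv_mem h456)
          rw [CfsgLib.ShortPres.conj_cyc3,
            CfsgLib.ShortPres.cyc3_of_ne (ne 3 4 (by omega) (by omega) (by omega)) (ne 3 5 (by omega) (by omega) (by omega))
              (ne 3 6 (by omega) (by omega) (by omega)),
            CfsgLib.ShortPres.cyc3_a (ne 4 5 (by omega) (by omega) (by omega)) (ne 6 5 (by omega) (by omega) (by omega)),
            CfsgLib.ShortPres.cyc3_b] at h1
          have h2 := mul_mem (mul_mem (inv_mem h1) hC) h1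
          nth_rw 2 [← inv_inv (cyc3 (ν 3) (ν 5) (ν 6))] at h2
          rw [CfsgLib.ShortPres.conj_cyc3] at h2
          have hne : ν 3 ≠ ν 5 ∧ ν 3 ≠ ν 6 ∧ ν 5 ≠ ν 6 := ⟨ne 3 5 (by omega) (by omega) (by omega),
            ne 3 6 (by omega) (by omega) (by omega), ne 5 6 (by omega) (by omega) (by omega)⟩
          have i3 : (cyc3 (ν 3) (ν 5) (ν 6))⁻¹ (ν 3) = ν 6 := by
            rw [Perm.inv_eq_iff_eq, CfsgLib.ShortPres.cyc3_x hne.2.1 hne.2.2.symm]
          have i4 : (cyc3 (ν 3) (ν 5) (ν 6))⁻¹ (ν 4) = ν 4 := by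
            rw [Perm.inv_eq_iff_eq, CfsgLib.ShortPres.cyc3_of_ne (ne 4 3 (by omega) (by omega) (by omega))
              (ne 4 5 (by omega) (by omega) (by omega)) (ne 4 6 (by omega) (by omega) (by omega))]
          have i5 : (cyc3 (ν 3) (ν 5) (ν 6))⁻¹ (ν 5) = ν 3 := by
            rw [Perm.inv_eq_iff_eq, CfsgLib.ShortPres.cyc3_a hne.1 hne.2.2.symm]
          rw [i3, i4, i5] at h2
          have hr := cyc3_rev (ne 3 4 (by omega) (by omega) (by omega)) (ne 3 6 (by omega) (by omega) (by omega))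
            (ne 4 6 (by omega) (by omega) (by omega))
          rw [mul_eq_one_iff_eq_inv] at hr
          show cyc3 (ν 3) (ν 4) (ν 6) ∈ G
          rw [hr]
          exact inv_mem h2
        · obtain ⟨i, rfl⟩ : ∃ i, j = i + 1 := ⟨j - 1, by omega⟩
          have h1 := hE i (by omega) (by omega)
          have h2 := mul_mem (mul_mem h1 (ih (by omega))) (inv_mem h1)
          rw [CfsgLib.ShortPres.conj_cyc3,
            CfsgLib.ShortPres.cyc3_of_ne (νne 3 i (by omega) (by omega) (by omega))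
              (νne 3 (i + 1) (by omega) (by omega) (by omega)) (νne 3 (i + 2) (by omega) (by omega) (by omega)),
            CfsgLib.ShortPres.cyc3_of_ne (νne 4 i (by omega) (by omega) (by omega))
              (νne 4 (i + 1) (by omega) (by omega) (by omega)) (νne 4 (i + 2) (by omega) (by omega) (by omega)),
            CfsgLib.ShortPres.cyc3_b] at h2
          exact h2
    · -- triples through the fixed coordinate
      have hD : ∀ i, 4 ≤ i → i + 1 < n → cyc3 (ν 3) (ν i) (ν (i + 1)) ∈ G := by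
        intro i hi
        induction i, hi using Nat.le_induction with
        | base => intro _; exact hC
        | succ i hi ih =>
          intro h2
          have := conj_mem (ih (by omega))
          rwa [CfsgLib.ShortPres.conj_cyc3, g_low 3 (by omega), g_succ i (by omega) (by omega),
            g_succ (i + 1) (by omega) (by omega)] at this
      intro j hj
      induction j, hj using Nat.le_induction with
      | base => intro _; exact hC
      | succ j hj ih =>
        intro hjn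
        have hd := hD j (by omega) (by omega)
        have h2 := mul_mem (mul_mem (inv_mem hd) (ih (by omega))) hd
        nth_rw 2 [← inv_inv (cyc3 (ν 3) (ν j) (ν (j + 1)))] at h2
        rw [CfsgLib.ShortPres.conj_cyc3] at h2
        have i3 : (cyc3 (ν 3) (ν j) (ν (j + 1)))⁻¹ (ν 3) = ν (j + 1) := by
          rw [Perm.inv_eq_iff_eq, CfsgLib.ShortPres.cyc3_x (νne 3 (j + 1) (by omega) (by omega) (by omega))
            (νne (j + 1) j (by omega) (by omega) (by omega))]
        have i4 : (cyc3 (ν 3) (ν j) (ν (j + 1)))⁻¹ (ν 4) = ν 4 := by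
          rw [Perm.inv_eq_iff_eq, CfsgLib.ShortPres.cyc3_of_ne (νne 4 3 (by omega) (by omega) (by omega))
            (νne 4 j (by omega) (by omega) (by omega)) (νne 4 (j + 1) (by omega) (by omega) (by omega))]
        have i5 : (cyc3 (ν 3) (ν j) (ν (j + 1)))⁻¹ (ν j) = ν 3 := by
          rw [Perm.inv_eq_iff_eq, CfsgLib.ShortPres.cyc3_a (νne 3 j (by omega) (by omega) (by omega))
            (νne (j + 1) j (by omega) (by omega) (by omega))]
        rw [i3, i4, i5] at h2
        have hr := cyc3_rev (νne 3 4 (by omega) (by omega) (by omega)) (νne 3 (j + 1) (by omega) (by omega) (by omega))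
          (νne 4 (j + 1) (by omega) (by omega) (by omega))
        rw [mul_eq_one_iff_eq_inv] at hr
        rw [hr]
        exact inv_mem h2
  refine (CfsgLib.ShortPres.altOn_le_closure (a := ν 3) (b := ν 4) (by simp [mem_Low, νval 3 (by omega)])
    (by simp [mem_Low, νval 4 (by omega)]) (νne 3 4 (by omega) (by omega) (by omega))).trans
    ((Subgroup.closure_le _).2 ?_)
  rintro _ ⟨x, hx, hx3, hx4, rfl⟩
  have hx' : 3 ≤ (x : ℕ) := by simp [mem_Low] at hx; omega
  have e : x = ν x := Fin.ext (νval x x.2).symm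
  rw [e] at hx3 hx4 ⊢
  refine main x ?_ x.2
  rcases Nat.lt_or_ge (x : ℕ) 5 with h | h
  · have : (x : ℕ) = 3 ∨ (x : ℕ) = 4 := by omega
    rcases this with h | h
    · exact absurd (by rw [h]) hx3
    · exact absurd (by rw [h]) hx4
  · exact h

end CfsgLib.SUShort
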