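import Cfsg.Agent.Lib.SUShort.Glue
import Cfsg.Agent.Lib.SUShort.GlueGens
import Cfsg.Agent.Lib.SUShort.GlueStab
import Cfsg.Agent.Lib.ShortPres.Transfer2

/-!
# A presentation of `SU_n(q)` from presentations of `SU₄(q)` and of the alternating group
-/

set_option autoImplicit false
set_option linter.unusedSectionVars false

namespace CfsgLib.SUShort

open Equiv Equiv.Perm Matrix CfsgLib.UnitaryTransvection CfsgLib.UnitarySimple CfsgLib.SUCover
open CfsgLib.ShortPres (Presents exists_word cyc3 altOn mem_altOn)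

/-- The commutator word of two elements. -/
def cmm {G : Type*} [Group G] (a b : G) : G := a * b * a⁻¹ * b⁻¹

theorem cmm_eq_one {G : Type*} [Group G] {a b : G} : cmm a b = 1 ↔ Commute a b := by
  rw [cmm, mul_inv_eq_one, mul_inv_eq_iff_eq_mul]
  exact Iff.rfl

theorem map_cmm {G G' : Type*} [Group G] [Group G'] (f : G →* G') (a b : G) : f (cmm a b) = cmm (f a) (f b) := by
  simp [cmm]

variable {F : Type} [Field F] [Fintype F] {q n : ℕ} (hF : Fintype.card F = q ^ 2) (hn : 5 ≤ n)

theorem σ2_sq (hn6 : 6 ≤ n) : σ2A (n := n) hn6 * σ2A hn6 = δA hn := by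
  refine Subtype.ext (Equiv.ext fun j => ?_)
  rw [Subgroup.coe_mul, Perm.mul_apply]
  by_cases hj : (j : ℕ) < 6
  · obtain ⟨i, rfl⟩ : ∃ i : Fin 6, Fin.castLE hn6 i = j := ⟨⟨j, hj⟩, Fin.ext rfl⟩
    rw [σ2A_apply, σ2A_apply]
    have e0 : p5 hn 0 = Fin.castLE hn6 0 := rfl
    have e1 : p5 hn 1 = Fin.castLE hn6 1 := rfl
    have e3 : p5 hn 3 = Fin.castLE hn6 3 := rfl
    have e4 : p5 hn 4 = Fin.castLE hn6 4 := rfl
    simp only [δA, Perm.mul_apply, e0, e1, e3, e4]
    rw [(Fin.castLE_injective hn6).swap_apply, (Fin.castLE_injective hn6).swap_apply]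
    congr 1
    clear hj
    revert i
    decide
  · have h : ∀ i : Fin n, (i : ℕ) < 6 → j ≠ i := fun i hi e => hj (e ▸ hi)
    have hfix : (σ2A (n := n) hn6 : Perm (Fin n)) j = j := by
      simp only [σ2A, Perm.mul_apply]
      rw [swap_apply_of_ne_of_ne (h _ (by norm_num)) (h _ (by norm_num)),
        swap_apply_of_ne_of_ne (h _ (by norm_num)) (h _ (by norm_num)),
        swap_apply_of_ne_of_ne (h _ (by norm_num)) (h _ (by norm_num)),
        swap_apply_of_ne_of_ne (h _ (by norm_num)) (h _ (by norm_num))]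
    rw [hfix, hfix]
    simp only [δA, Perm.mul_apply]
    rw [swap_apply_of_ne_of_ne (h _ (by rw [p5_val]; decide)) (h _ (by rw [p5_val]; decide)),
      swap_apply_of_ne_of_ne (h _ (by rw [p5_val]; decide)) (h _ (by rw [p5_val]; decide))]

theorem δ_σ1 : δA hn * σ1A hn = σ1A hn * δA hn := by
  refine Subtype.ext (Equiv.ext fun j => ?_)
  rw [Subgroup.coe_mul, Subgroup.coe_mul, Perm.mul_apply, Perm.mul_apply]
  by_cases hj : (j : ℕ) < 5
  · obtain ⟨i, rfl⟩ : ∃ i : Fin 5, p5 hn i = j := ⟨⟨j, hj⟩, Fin.ext rfl⟩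
    rw [σ1A_apply, δA_apply, δA_apply, σ1A_apply]
    congr 1
    clear hj
    revert i
    decide
  · have h : ∀ i : Fin 5, j ≠ p5 hn i := fun i e => hj (by rw [e, p5_val]; exact i.2)
    have h1 : (σ1A hn : Perm (Fin n)) j = j := by
      simp only [σ1A, Perm.mul_apply, swap_apply_of_ne_of_ne (h 1) (h 4), swap_apply_of_ne_of_ne (h 0) (h 3)]
    have h2 : (δA hn : Perm (Fin n)) j = j := by
      simp only [δA, Perm.mul_apply, swap_apply_of_ne_of_ne (h 3) (h 4), swap_apply_of_ne_of_ne (h 0) (h 1)]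
    rw [h1, h2, h1]

section Build

variable {m : ℕ} {x4 : Fin 5 → Cfsg.SU 4 F q} {rels4 : Finset (FreeGroup (Fin 5))} (hP4 : Presents rels4 x4)
  {xA : Fin m → alternatingGroup (Fin n)} {relsA : Finset (FreeGroup (Fin m))} (hPA : Presents relsA xA)

/-- The word of an element of `SU₄`. -/
noncomputable def w4 (x : Cfsg.SU 4 F q) : FreeGroup (Fin 5 ⊕ Fin m) :=
  FreeGroup.map Sum.inl (exists_word hP4.gen x).choose

/-- The word of an even permutation. -/
noncomputable def wA (s : alternatingGroup (Fin n)) : FreeGroup (Fin 5 ⊕ Fin m) :=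
  FreeGroup.map Sum.inr (exists_word hPA.gen s).choose

/-- The data entering the relators. -/
structure GlueChoice where
  yc : Cfsg.SU 4 F q
  hyc : E4 hF hn yc = pmA hF (cA hn)
  yτ : Cfsg.SU 4 F q
  hyτ : E4 hF hn yτ = pmA hF (τA hn)
  u : Fin 2 → Cfsg.SU 4 F q
  hu : ∀ i, u i ∈ Sk hF hn 3
  hgen : Sk hF hn 3 ≤ Subgroup.closure (Set.range u)
  ud : Fin 2 → Cfsg.SU 4 F q
  hud : ∀ i, E4 hF hn (ud i) = pmA hF (δA hn) * E4 hF hn (u i) * (pmA hF (δA hn))⁻¹
  y : Cfsg.SU 4 F q
  hy : q = 2 → y ∈ Sk hF hn 2 ∧ ∀ y', E4 hF hn y' = pmA hF (δA hn) * E4 hF hn y * (pmA hF (δA hn))⁻¹ →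
    Sk hF hn 2 ≤ Subgroup.closure {y, y'}

theorem conj_δ_mem {k : ℕ} (hk : k = 2 ∨ k = 3) {g : Cfsg.SU n F q} (hg : g ∈ Supp (Low k)) :
    pmA hF (δA hn) * g * (pmA hF (δA hn))⁻¹ ∈ Supp (Low k : Finset (Fin n)) := by
  have h := img_supp hF (δA hn) hg
  rcases hk with rfl | rfl
  · rwa [(img_δA hn).2] at h
  · rwa [(img_δA hn).1] at h

theorem exists_choice : Nonempty (GlueChoice hF hn) := by
  obtain ⟨yc, hyc⟩ := exists_E4 hF hn (pmA_mem_supp hF (cA hn) fun j hj => cA_fix hn hj)
  obtain ⟨yτ, hyτ⟩ := exists_E4 hF hn (pmA_mem_supp hF (τA hn) fun j hj => τA_fix hn hj)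
  obtain ⟨u, hu, hgen⟩ := exists_gen3 hF hn
  choose ud hud using fun i => exists_E4 hF hn (supp_mono (low_mono (show 3 ≤ 4 by norm_num))
    (conj_δ_mem hF hn (Or.inr rfl) (hu i)))
  by_cases hq : q = 2
  · obtain ⟨y, hy⟩ := exists_gen2 hF hn hq
    exact ⟨⟨yc, hyc, yτ, hyτ, u, hu, hgen, ud, hud, y, fun _ => hy⟩⟩
  · exact ⟨⟨yc, hyc, yτ, hyτ, u, hu, hgen, ud, hud, 1, fun h => absurd h hq⟩⟩

variable {hF hn}

open scoped Classical in
/-- The relators for the stabilizer. -/
noncomputable def stabRels (C : GlueChoice hF hn) : Finset (FreeGroup (Fin 5 ⊕ Fin m)) :=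
  if n = 5 then ∅ else Finset.univ.image fun i => cmm (wA hPA (gS hn)) (w4 hP4 (C.u i))

open scoped Classical in
/-- The relators for `q = 2` between disjoint sets. -/
noncomputable def twoRels (C : GlueChoice hF hn) : Finset (FreeGroup (Fin 5 ⊕ Fin m)) :=
  if q = 2 then
    (Finset.univ.image fun i => cmm (w4 hP4 (C.u i)) (wA hPA (σ1A hn) * w4 hP4 C.y * (wA hPA (σ1A hn))⁻¹)) ∪
      (if h6 : 6 ≤ n then ({((0 : Fin 2), (0 : Fin 2)), (0, 1), (1, 1)} : Finset (Fin 2 × Fin 2)).image
        fun p => cmm (w4 hP4 (C.u p.1)) (wA hPA (σ2A h6) * w4 hP4 (C.u p.2) * (wA hPA (σ2A h6))⁻¹) else ∅)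
  else ∅

open scoped Classical in
/-- All relators. -/
noncomputable def glueRels (C : GlueChoice hF hn) : Finset (FreeGroup (Fin 5 ⊕ Fin m)) :=
  rels4.image (FreeGroup.map Sum.inl) ∪ relsA.image (FreeGroup.map Sum.inr) ∪
    {wA hPA (cA hn) * (w4 hP4 C.yc)⁻¹, wA hPA (τA hn) * (w4 hP4 C.yτ)⁻¹} ∪ stabRels hP4 hPA C ∪
    (Finset.univ.image fun i =>
      wA hPA (δA hn) * w4 hP4 (C.u i) * (wA hPA (δA hn))⁻¹ * (w4 hP4 (C.ud i))⁻¹) ∪ twoRels hP4 hPA C

theorem card_glueRels (C : GlueChoice hF hn) : (glueRels hP4 hPA C).card ≤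
    rels4.card + relsA.card + 2 + (if n = 5 then 0 else 2) + 2 + (if q = 2 then (if n = 5 then 2 else 5) else 0) := by
  classical
  unfold glueRels
  refine (Finset.card_union_le _ _).trans (Nat.add_le_add ?_ ?_)
  · refine (Finset.card_union_le _ _).trans (Nat.add_le_add ?_ (Finset.card_image_le.trans (by simp)))
    refine (Finset.card_union_le _ _).trans (Nat.add_le_add ?_ ?_)
    · refine (Finset.card_union_le _ _).trans (Nat.add_le_add ?_ Finset.card_le_two)
      exact (Finset.card_union_le _ _).trans (Nat.add_le_add Finset.card_image_le Finset.card_image_le)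
    · unfold stabRels
      split_ifs
      · simp
      · exact Finset.card_image_le.trans (by simp)
  · unfold twoRels
    split_ifs with hq h6 h5 h5
    · omega
    · exact (Finset.card_union_le _ _).trans (Nat.add_le_add (Finset.card_image_le.trans (by simp))
        (Finset.card_image_le.trans Finset.card_le_three))
    · exact (Finset.card_union_le _ _).trans (by simpa using Finset.card_image_le.trans (by simp))
    · omega
    · simp

variable (m) in
/-- The images of the letters. -/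
noncomputable def glueGens (hF : Fintype.card F = q ^ 2) (hn : 5 ≤ n) (x4 : Fin 5 → Cfsg.SU 4 F q)
    (xA : Fin m → alternatingGroup (Fin n)) : Fin 5 ⊕ Fin m → Cfsg.SU n F q :=
  Sum.elim (fun k => E4 hF hn (x4 k)) (fun k => pmA hF (xA k))

theorem lift_w4 (x : Cfsg.SU 4 F q) :
    FreeGroup.lift (glueGens m hF hn x4 xA) (w4 (m := m) hP4 x) = E4 hF hn x := by
  have : (FreeGroup.lift (glueGens m hF hn x4 xA)).comp (FreeGroup.map Sum.inl) =
      (E4 hF hn).comp (FreeGroup.lift x4) := by ext k; simp [glueGens]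
  rw [w4, ← MonoidHom.comp_apply, this, MonoidHom.comp_apply, (exists_word hP4.gen x).choose_spec]

theorem lift_wA (s : alternatingGroup (Fin n)) :
    FreeGroup.lift (glueGens m hF hn x4 xA) (wA hPA s) = pmA hF s := by
  have : (FreeGroup.lift (glueGens m hF hn x4 xA)).comp (FreeGroup.map Sum.inr) =
      (pmA hF).comp (FreeGroup.lift xA) := by ext k; simp [glueGens]
  rw [wA, ← MonoidHom.comp_apply, this, MonoidHom.comp_apply, (exists_word hPA.gen s).choose_spec]

theorem glue_holds (C : GlueChoice hF hn) :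
    ∀ r ∈ glueRels hP4 hPA C, FreeGroup.lift (glueGens m hF hn x4 xA) r = 1 := by
  classical
  intro r hr
  simp only [glueRels, Finset.mem_union, Finset.mem_image, Finset.mem_insert, Finset.mem_singleton] at hr
  rcases hr with ((((⟨s, hs, rfl⟩ | ⟨s, hs, rfl⟩) | hr) | hr) | ⟨i, -, rfl⟩) | hr
  · have : (FreeGroup.lift (glueGens m hF hn x4 xA)).comp (FreeGroup.map Sum.inl) =
        (E4 hF hn).comp (FreeGroup.lift x4) := by ext k; simp [glueGens]
    rw [← MonoidHom.comp_apply, this, MonoidHom.comp_apply, hP4.holds s hs, map_one]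
  · have : (FreeGroup.lift (glueGens m hF hn x4 xA)).comp (FreeGroup.map Sum.inr) =
        (pmA hF).comp (FreeGroup.lift xA) := by ext k; simp [glueGens]
    rw [← MonoidHom.comp_apply, this, MonoidHom.comp_apply, hPA.holds s hs, map_one]
  · rcases hr with rfl | rfl
    · rw [map_mul, map_inv, lift_wA, lift_w4, C.hyc, mul_inv_cancel]
    · rw [map_mul, map_inv, lift_wA, lift_w4, C.hyτ, mul_inv_cancel]
  · unfold stabRels at hr
    split_ifs at hr with h5
    · simp at hr
    · obtain ⟨i, -, rfl⟩ := Finset.mem_image.1 hr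
      rw [map_cmm, lift_wA, lift_w4, cmm_eq_one]
      exact supp_commute disjoint_compl_left hF
        (pmA_mem_supp hF _ fun j hj => gS_fix hn (by simpa using hj)) (C.hu i)
  · simp only [map_mul, map_inv, lift_wA, lift_w4, C.hud, mul_inv_cancel]
  · unfold twoRels at hr
    split_ifs at hr with hq h6
    · rcases Finset.mem_union.1 hr with hr | hr
      · obtain ⟨i, -, rfl⟩ := Finset.mem_image.1 hr
        rw [map_cmm, map_mul, map_mul, map_inv, lift_wA, lift_w4, lift_w4, cmm_eq_one]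
        exact supp_commute GlueData.disjoint_σ1 hF (C.hu i) (img_supp hF _ ((C.hy hq).1))
      · obtain ⟨p, -, rfl⟩ := Finset.mem_image.1 hr
        rw [map_cmm, map_mul, map_mul, map_inv, lift_wA, lift_w4, lift_w4, cmm_eq_one]
        exact supp_commute (GlueData.disjoint_σ2 h6) hF (C.hu _) (img_supp hF _ (C.hu _))
    · rcases Finset.mem_union.1 hr with hr | hr
      · obtain ⟨i, -, rfl⟩ := Finset.mem_image.1 hr
        rw [map_cmm, map_mul, map_mul, map_inv, lift_wA, lift_w4, lift_w4, cmm_eq_one]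
        exact supp_commute GlueData.disjoint_σ1 hF (C.hu i) (img_supp hF _ ((C.hy hq).1))
      · simp at hr
    · simp at hr

include hF hn in
open scoped Classical in
theorem exists_glue_presentation (hP4 : Presents rels4 x4) (hPA : Presents relsA xA) :
    ∃ rels : Finset (FreeGroup (Fin 5 ⊕ Fin m)),
      rels.card ≤ rels4.card + relsA.card + 2 + (if n = 5 then 0 else 2) + 2 +
        (if q = 2 then (if n = 5 then 2 else 5) else 0) ∧
      Presents rels (glueGens m hF hn x4 xA) := by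
  obtain ⟨C⟩ := exists_choice hF hn
  refine ⟨glueRels hP4 hPA C, card_glueRels hP4 hPA C, ?_⟩
  let P := PresentedGroup (↑(glueRels hP4 hPA C) : Set (FreeGroup (Fin 5 ⊕ Fin m)))
  let mk : FreeGroup (Fin 5 ⊕ Fin m) →* P := PresentedGroup.mk _
  have rel : ∀ r ∈ glueRels hP4 hPA C, mk r = 1 := fun r hr => PresentedGroup.one_of_mem (Finset.mem_coe.2 hr)
  have mem1 : ∀ r ∈ rels4, FreeGroup.map Sum.inl r ∈ glueRels hP4 hPA C := fun r hr => by
    unfold glueRels
    simp only [Finset.mem_union, Finset.mem_image]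
    exact Or.inl (Or.inl (Or.inl (Or.inl (Or.inl ⟨r, hr, rfl⟩))))
  have mem2 : ∀ r ∈ relsA, FreeGroup.map Sum.inr r ∈ glueRels hP4 hPA C := fun r hr => by
    unfold glueRels
    simp only [Finset.mem_union, Finset.mem_image]
    exact Or.inl (Or.inl (Or.inl (Or.inl (Or.inr ⟨r, hr, rfl⟩))))
  have hl : FreeGroup.lift (fun k => (PresentedGroup.of (Sum.inl k) : P)) = mk.comp (FreeGroup.map Sum.inl) := by
    ext k; simp only [FreeGroup.lift_apply_of, MonoidHom.comp_apply, FreeGroup.map.of]; rfl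
  have hr' : FreeGroup.lift (fun k => (PresentedGroup.of (Sum.inr k) : P)) = mk.comp (FreeGroup.map Sum.inr) := by
    ext k; simp only [FreeGroup.lift_apply_of, MonoidHom.comp_apply, FreeGroup.map.of]; rfl
  obtain ⟨φ, hφ⟩ := hP4.exists_hom (fun k => (PresentedGroup.of (Sum.inl k) : P)) (fun r hr => by
    rw [hl, MonoidHom.comp_apply]; exact rel _ (mem1 r hr))
  obtain ⟨ρ, hρ⟩ := hPA.exists_hom (fun k => (PresentedGroup.of (Sum.inr k) : P)) (fun r hr => by
    rw [hr', MonoidHom.comp_apply]; exact rel _ (mem2 r hr))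
  have mk4 : ∀ x, mk (w4 hP4 x) = φ x := fun x => by
    have : φ.comp (FreeGroup.lift x4) = mk.comp (FreeGroup.map Sum.inl) := by
      rw [← hl]; ext k; simp [hφ]
    rw [w4, ← MonoidHom.comp_apply, ← this, MonoidHom.comp_apply, (exists_word hP4.gen x).choose_spec]
  have mkA : ∀ s, mk (wA hPA s) = ρ s := fun s => by
    have : ρ.comp (FreeGroup.lift xA) = mk.comp (FreeGroup.map Sum.inr) := by
      rw [← hr']; ext k; simp [hρ]
    rw [wA, ← MonoidHom.comp_apply, ← this, MonoidHom.comp_apply, (exists_word hPA.gen s).choose_spec]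
  let π : P →* Cfsg.SU n F q := PresentedGroup.toGroup (f := glueGens m hF hn x4 xA) (fun r hr => glue_holds hP4 hPA C r hr)
  have hπof : ∀ k, π (PresentedGroup.of k) = glueGens m hF hn x4 xA k := fun k => PresentedGroup.toGroup.of _
  have hπφ : ∀ x, π (φ x) = E4 hF hn x := fun x => by
    rw [← mk4, ← lift_w4 (hF := hF) (hn := hn) (xA := xA) hP4 x]
    exact DFunLike.congr_fun (show π.comp mk = FreeGroup.lift (glueGens m hF hn x4 xA) from FreeGroup.ext_hom _ _ fun k => by
      simp only [MonoidHom.comp_apply, FreeGroup.lift_apply_of]; exact hπof k) _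
  have hπρ : ∀ s, π (ρ s) = pmA hF s := fun s => by
    rw [← mkA, ← lift_wA (hF := hF) (hn := hn) (x4 := x4) hPA s]
    exact DFunLike.congr_fun (show π.comp mk = FreeGroup.lift (glueGens m hF hn x4 xA) from FreeGroup.ext_hom _ _ fun k => by
      simp only [MonoidHom.comp_apply, FreeGroup.lift_apply_of]; exact hπof k) _
  have hgen : Subgroup.closure (Set.range φ ∪ Set.range ρ) = ⊤ := by
    rw [eq_top_iff, ← PresentedGroup.closure_range_of, Subgroup.closure_le]
    rintro _ ⟨k | k, rfl⟩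
    · exact Subgroup.subset_closure (Or.inl ⟨_, hφ k⟩)
    · exact Subgroup.subset_closure (Or.inr ⟨_, hρ k⟩)
  have idc : ρ (cA hn) = φ C.yc := by
    have := rel _ (show wA hPA (cA hn) * (w4 hP4 C.yc)⁻¹ ∈ glueRels hP4 hPA C by simp [glueRels])
    rwa [map_mul, map_inv, mkA, mk4, mul_inv_eq_one] at this
  have idτ : ρ (τA hn) = φ C.yτ := by
    have := rel _ (show wA hPA (τA hn) * (w4 hP4 C.yτ)⁻¹ ∈ glueRels hP4 hPA C by simp [glueRels])
    rwa [map_mul, map_inv, mkA, mk4, mul_inv_eq_one] at this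
  have hA4 : ∀ s : alternatingGroup (Fin n),
      (∀ j, j ∉ (Low 4 : Finset (Fin n)) → (s : Perm (Fin n)) j = j) → ρ s ∈ φ.range := by
    intro s hs
    have hsub : altOn ((Low 4 : Finset (Fin n)) : Set (Fin n)) ≤
        ((φ.range).comap ρ).map (alternatingGroup (Fin n)).subtype := by
      refine (CfsgLib.ShortPres.altOn_le_closure (a := p5 hn 0) (b := p5 hn 1) (by simp [mem_Low, p5_val])
        (by simp [mem_Low, p5_val]) (p5_ne hn (by decide))).trans ((Subgroup.closure_le _).2 ?_)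
      rintro _ ⟨j, hj, hj0, hj1, rfl⟩
      have hc : cA hn ∈ (φ.range).comap ρ := ⟨C.yc, idc.symm⟩
      have ht : τA hn ∈ (φ.range).comap ρ := ⟨C.yτ, idτ.symm⟩
      have hj' : j = p5 hn 2 ∨ j = p5 hn 3 := by
        simp [mem_Low] at hj
        simp [Fin.ext_iff, p5_val] at hj0 hj1 ⊢
        omega
      rcases hj' with rfl | rfl
      · exact ⟨cA hn, hc, rfl⟩
      · refine ⟨(τA hn * cA hn * (τA hn)⁻¹)⁻¹, inv_mem (mul_mem (mul_mem ht hc) (inv_mem ht)), ?_⟩
        rw [map_inv, map_mul, map_mul, map_inv]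
        show ((τA hn : Perm (Fin n)) * cyc3 (p5 hn 0) (p5 hn 1) (p5 hn 2) * (τA hn : Perm (Fin n))⁻¹)⁻¹ = _
        rw [CfsgLib.ShortPres.conj_cyc3]
        have e : ∀ i : Fin 5, (τA hn : Perm (Fin n)) (p5 hn i) = p5 hn ((swap 0 1 * swap 2 3 : Perm (Fin 5)) i) := by
          intro i
          simp only [τA, p5, Perm.mul_apply]
          rw [(Fin.castLE_injective hn).swap_apply, (Fin.castLE_injective hn).swap_apply]
        rw [e, e, e, CfsgLib.ShortPres.cyc3_swap (p5_ne hn (by decide)) (p5_ne hn (by decide)) (p5_ne hn (by decide)),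
          show (swap 0 1 * swap 2 3 : Perm (Fin 5)) 0 = 1 from by decide,
          show (swap 0 1 * swap 2 3 : Perm (Fin 5)) 1 = 0 from by decide,
          show (swap 0 1 * swap 2 3 : Perm (Fin 5)) 2 = 3 from by decide, inv_inv]
    obtain ⟨t, ht, hts⟩ := hsub (mem_altOn.2 ⟨fun c hc => hs c (by simpa using hc), mem_alternatingGroup.1 s.2⟩)
    obtain rfl : t = s := Subtype.ext hts
    exact ht
  -- the rule for the double transposition, on the generators and hence everywhere
  have hδgen : ∀ i, ρ (δA hn) * φ (C.u i) * (ρ (δA hn))⁻¹ = φ (C.ud i) := fun i => by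
    have := rel _ (show wA hPA (δA hn) * w4 hP4 (C.u i) * (wA hPA (δA hn))⁻¹ * (w4 hP4 (C.ud i))⁻¹ ∈
      glueRels hP4 hPA C by
        unfold glueRels
        simp only [Finset.mem_union, Finset.mem_image]
        exact Or.inl (Or.inr ⟨i, Finset.mem_univ _, rfl⟩))
    rwa [map_mul, map_mul, map_mul, map_inv, map_inv, mkA, mk4, mk4, mul_inv_eq_one] at this
  have hδ : ∀ x y, E4 hF hn x ∈ Supp (Low 3) →
      E4 hF hn y = pmA hF (δA hn) * E4 hF hn x * (pmA hF (δA hn))⁻¹ → ρ (δA hn) * φ x * (ρ (δA hn))⁻¹ = φ y := by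
    let Z : Subgroup (Cfsg.SU 4 F q) :=
      { carrier := {x | x ∈ Sk hF hn 3 ∧ ∀ y, E4 hF hn y = pmA hF (δA hn) * E4 hF hn x * (pmA hF (δA hn))⁻¹ →
          ρ (δA hn) * φ x * (ρ (δA hn))⁻¹ = φ y}
        one_mem' := ⟨one_mem _, fun y hy => by
          rw [map_one, mul_one, mul_inv_cancel] at hy
          rw [map_one, mul_one, mul_inv_cancel, E4_injective hF hn (hy.trans (map_one _).symm), map_one]⟩
        mul_mem' := fun {a b} ha hb => ⟨mul_mem ha.1 hb.1, fun y hy => by
          obtain ⟨ya, hya⟩ := exists_E4 hF hn (supp_mono (low_mono (show 3 ≤ 4 by norm_num))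
            (conj_δ_mem hF hn (Or.inr rfl) ha.1))
          obtain ⟨yb, hyb⟩ := exists_E4 hF hn (supp_mono (low_mono (show 3 ≤ 4 by norm_num))
            (conj_δ_mem hF hn (Or.inr rfl) hb.1))
          have e : y = ya * yb := E4_injective hF hn (by rw [hy, map_mul, map_mul, hya, hyb]; group)
          rw [e, map_mul, map_mul, ← ha.2 ya hya, ← hb.2 yb hyb]; group⟩
        inv_mem' := fun {a} ha => ⟨inv_mem ha.1, fun y hy => by
          obtain ⟨ya, hya⟩ := exists_E4 hF hn (supp_mono (low_mono (show 3 ≤ 4 by norm_num))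
            (conj_δ_mem hF hn (Or.inr rfl) ha.1))
          have e : y = ya⁻¹ := E4_injective hF hn (by rw [hy, map_inv, map_inv, hya]; group)
          rw [e, map_inv, map_inv, ← ha.2 ya hya]; group⟩ }
    have hZ : Sk hF hn 3 ≤ Z := C.hgen.trans ((Subgroup.closure_le _).2 (by
      rintro _ ⟨i, rfl⟩
      exact ⟨C.hu i, fun y hy => by rw [E4_injective hF hn (hy.trans (C.hud i).symm)]; exact hδgen i⟩))
    exact fun x y hx hy => (hZ hx).2 y hy
  -- the stabilizer
  have hstab : ∀ s : alternatingGroup (Fin n), (∀ j ∈ (Low 3 : Finset (Fin n)), (s : Perm (Fin n)) j = j) →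
      ∀ x, E4 hF hn x ∈ Supp (Low 3) → Commute (ρ s) (φ x) := by
    intro s hs x hx
    rcases eq_or_lt_of_le hn with h5 | h6
    · have hs1 : s = 1 := by
        refine Subtype.ext ?_
        have : (s : Perm (Fin n)) ∈ altOn ((↑(Low 3 : Finset (Fin n)) : Set (Fin n))ᶜ) :=
          mem_altOn.2 ⟨fun c hc => hs c (by simpa using hc), mem_alternatingGroup.1 s.2⟩
        have hle : altOn ((↑(Low 3 : Finset (Fin n)) : Set (Fin n))ᶜ) ≤ ⊥ := by
          refine (CfsgLib.ShortPres.altOn_le_closure (a := p5 hn 3) (b := p5 hn 4) (by simp [mem_Low, p5_val])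
            (by simp [mem_Low, p5_val]) (p5_ne hn (by decide))).trans ((Subgroup.closure_le _).2 ?_)
          rintro _ ⟨j, hj, hj3, hj4, rfl⟩
          simp [mem_Low] at hj
          simp [Fin.ext_iff, p5_val] at hj3 hj4
          have := j.2
          omega
        exact hle this
      rw [hs1, map_one]
      exact Commute.one_left _
    · let Cent : Subgroup (alternatingGroup (Fin n)) :=
        (Subgroup.centralizer ((Sk hF hn 3).map φ : Set P)).comap ρ
      have hcent : ∀ t, (∀ i, Commute (ρ t) (φ (C.u i))) → t ∈ Cent := by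
        intro t ht
        show ρ t ∈ Subgroup.centralizer _
        intro z hz
        obtain ⟨w, hw, rfl⟩ := hz
        have : Subgroup.closure (Set.range C.u) ≤ (Subgroup.centralizer {ρ t}).comap φ := by
          rw [Subgroup.closure_le]
          rintro _ ⟨i, rfl⟩
          exact Subgroup.mem_centralizer_singleton_iff.2 (ht i).symm.eq
        exact Subgroup.mem_centralizer_singleton_iff.1 (this (C.hgen hw))
      have hg : gS hn ∈ Cent := hcent _ fun i => by
        have := rel _ (show cmm (wA hPA (gS hn)) (w4 hP4 (C.u i)) ∈ glueRels hP4 hPA C by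
          unfold glueRels stabRels
          simp only [Finset.mem_union, Finset.mem_image]
          exact Or.inl (Or.inl (Or.inr (by
            rw [if_neg (by omega)]
            exact Finset.mem_image_of_mem _ (Finset.mem_univ i)))))
        rwa [map_cmm, mkA, mk4, cmm_eq_one] at this
      have hg' : δA hn * gS hn * (δA hn)⁻¹ ∈ Cent := hcent _ fun i => by
        obtain ⟨w, hw⟩ := exists_E4 hF hn (supp_mono (low_mono (show 3 ≤ 4 by norm_num))
          (show (pmA hF (δA hn))⁻¹ * E4 hF hn (C.u i) * pmA hF (δA hn) ∈ Supp (Low 3 : Finset (Fin n)) by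
            have h := img_supp hF (δA hn)⁻¹ (C.hu i)
            rw [← (img_δA hn).1, img_inv_self] at h
            simpa using h))
        have hwS : w ∈ Sk hF hn 3 := by
          rw [mem_Sk, hw]
          have h := img_supp hF (δA hn)⁻¹ (C.hu i)
          rw [← (img_δA hn).1, img_inv_self] at h
          simpa using h
        have e := hδ w (C.u i) hwS (by rw [hw]; group)
        have hc : Commute (ρ (gS hn)) (φ w) := ((hg : ρ (gS hn) ∈ Subgroup.centralizer _) _ ⟨w, hwS, rfl⟩).symm
        rw [map_mul, map_mul, map_inv, ← e]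
        exact hc.map (MulAut.conj (ρ (δA hn))).toMonoidHom
      have hle := stab_gen hn h6 (Cent.map (alternatingGroup (Fin n)).subtype) ⟨_, hg, rfl⟩ ⟨_, hg', rfl⟩
      obtain ⟨t, ht, hts⟩ := hle (mem_altOn.2 ⟨fun c hc => hs c (by simpa using hc), mem_alternatingGroup.1 s.2⟩)
      obtain rfl : t = s := Subtype.ext hts
      exact ((ht : ρ t ∈ Subgroup.centralizer _) _ ⟨x, hx, rfl⟩).symm
  let D : GlueData hF hn P := ⟨φ, ρ, π, hπφ, hπρ, hgen, hA4, hstab, hδ⟩
  have hC : D.Comm := by
    by_cases hq : q = 2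
    swap
    · exact D.comm_of_three_le (by have := (UnitaryBasic.frob_exists hF).1; omega)
    have hrel : ∀ r ∈ twoRels hP4 hPA C, mk r = 1 := fun r hr => rel r (by
      unfold glueRels; exact Finset.mem_union_right _ hr)
    obtain ⟨hy2, hygen⟩ := C.hy hq
    have h5 : ∀ x y, E4 hF hn x ∈ Supp (Low 3) → E4 hF hn y ∈ Supp (Low 2) →
        Commute (D.φ x) (D.cj (σ1A hn) y) := by
      have base : ∀ x, x ∈ Sk hF hn 3 → Commute (φ x) (D.cj (σ1A hn) C.y) := fun x hx => by
        have : Subgroup.closure (Set.range C.u) ≤ (Subgroup.centralizer {D.cj (σ1A hn) C.y}).comap φ := by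
          rw [Subgroup.closure_le]
          rintro _ ⟨i, rfl⟩
          refine Subgroup.mem_centralizer_singleton_iff.2 ?_
          have h := hrel (cmm (w4 hP4 (C.u i)) (wA hPA (σ1A hn) * w4 hP4 C.y * (wA hPA (σ1A hn))⁻¹)) (by
            unfold twoRels
            rw [if_pos hq]
            exact Finset.mem_union_left _ (Finset.mem_image_of_mem _ (Finset.mem_univ i)))
          rw [map_cmm, map_mul, map_mul, map_inv, mkA, mk4, mk4, cmm_eq_one] at h
          exact h.eq
        exact Subgroup.mem_centralizer_singleton_iff.1 (this (C.hgen hx))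
      obtain ⟨y', hy'⟩ := exists_E4 hF hn (supp_mono (low_mono (show 2 ≤ 4 by norm_num))
        (conj_δ_mem hF hn (Or.inl rfl) hy2))
      have hy'c : ∀ x, x ∈ Sk hF hn 3 → Commute (φ x) (D.cj (σ1A hn) y') := fun x hx => by
        have hxw : (pmA hF (δA hn))⁻¹ * E4 hF hn x * pmA hF (δA hn) ∈ Supp (Low 3 : Finset (Fin n)) := by
          have h := img_supp hF (δA hn)⁻¹ hx
          rw [← (img_δA hn).1, img_inv_self] at h
          simpa using h
        obtain ⟨w, hw⟩ := exists_E4 hF hn (supp_mono (low_mono (show 3 ≤ 4 by norm_num)) hxw)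
        have hwS : w ∈ Sk hF hn 3 := by rw [mem_Sk, hw]; exact hxw
        have ey := hδ C.y y' (supp_mono (low_mono (by norm_num)) hy2) hy'
        have ex := hδ w x hwS (by rw [hw]; group)
        have h := (base w hwS).map (MulAut.conj (ρ (δA hn))).toMonoidHom
        simp only [MulEquiv.coe_toMonoidHom, MulAut.conj_apply, ex] at h
        rwa [show ρ (δA hn) * D.cj (σ1A hn) C.y * (ρ (δA hn))⁻¹ = D.cj (σ1A hn) y' by
          show D.ρ (δA hn) * D.cj (σ1A hn) C.y * (D.ρ (δA hn))⁻¹ = _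
          rw [← D.cj_mul, δ_σ1, D.cj_mul, show D.cj (δA hn) C.y = φ y' from ey]
          rfl] at h
      intro x y hx hy
      have hle : Subgroup.closure {C.y, y'} ≤
          (Subgroup.centralizer {φ x}).comap ((MulAut.conj (ρ (σ1A hn))).toMonoidHom.comp φ) := by
        rw [Subgroup.closure_le]
        rintro _ (rfl | rfl)
        · exact Subgroup.mem_centralizer_singleton_iff.2 (base x hx).symm.eq
        · exact Subgroup.mem_centralizer_singleton_iff.2 (hy'c x hx).symm.eq
      exact (show Commute (D.cj (σ1A hn) y) (φ x) from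
        Subgroup.mem_centralizer_singleton_iff.1 (hle (hygen y' hy' hy))).symm
    refine D.comm_of_two h5 fun h6 => ?_
    -- triples
    let T : Cfsg.SU 4 F q → Cfsg.SU 4 F q → Prop := fun x x' => Commute (φ x) (D.cj (σ2A h6) x')
    have hTrel : ∀ p ∈ ({((0 : Fin 2), (0 : Fin 2)), (0, 1), (1, 1)} : Finset (Fin 2 × Fin 2)),
        T (C.u p.1) (C.u p.2) := fun p hp => by
      have h := hrel (cmm (w4 hP4 (C.u p.1)) (wA hPA (σ2A h6) * w4 hP4 (C.u p.2) * (wA hPA (σ2A h6))⁻¹)) (by
        unfold twoRels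
        rw [if_pos hq, dif_pos h6]
        exact Finset.mem_union_right _ (Finset.mem_image_of_mem (fun p : Fin 2 × Fin 2 =>
          cmm (w4 hP4 (C.u p.1)) (wA hPA (σ2A h6) * w4 hP4 (C.u p.2) * (wA hPA (σ2A h6))⁻¹)) hp))
      rw [map_cmm, map_mul, map_mul, map_inv, mkA, mk4, mk4, cmm_eq_one] at h
      exact h
    -- the pairs inside the first triple
    have hpair : ∀ z, z ∈ Sk hF hn 2 → ∀ x', x' ∈ Sk hF hn 3 → T z x' := fun z hz x' hx' =>
      (D.comm_three_two h5 (S := img (σ2A h6) (Low 3)) (T := Low 2) (by rw [card_img, card_low (by omega)])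
        (card_low (by omega)) ((GlueData.disjoint_σ2 h6).mono_left (low_mono (by norm_num))).symm
        _ (D.cj_mem (Or.inr rfl) subset_rfl hx') _ (D.φ_mem (Or.inl rfl) hz)).symm
    let CT : Cfsg.SU 4 F q → Subgroup (Cfsg.SU 4 F q) := fun x' => (Subgroup.centralizer {D.cj (σ2A h6) x'}).comap φ
    have hCT : ∀ {x x'}, x ∈ CT x' ↔ T x x' := fun {x x'} => by
      simp only [CT, Subgroup.mem_comap, Subgroup.mem_centralizer_singleton_iff, T]
      exact Iff.rfl
    -- the swap inside the first pair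
    obtain ⟨z, hz, hzδ⟩ : ∃ z ∈ Sk hF hn 2, ∀ x, x ∈ Sk hF hn 3 →
        pmA hF (δA hn) * E4 hF hn x * (pmA hF (δA hn))⁻¹ = E4 hF hn z * E4 hF hn x * (E4 hF hn z)⁻¹ := by
      have h2 : (2 : F) = 0 := by
        have h := Nat.cast_card_eq_zero F
        rw [hF, hq, Nat.cast_pow, sq] at h
        exact mul_self_eq_zero.1 (by simpa using h)
      have hneg : (-1 : F) = 1 := by linear_combination -h2
      let S : Cfsg.SU n F q := permSU hF (swap (p5 hn 0) (p5 hn 1))
        (by rw [sign_swap (p5_ne hn (by decide))]; simpa using hneg)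
      have hS : ∀ j, mat S *ᵥ (ev1 j : Fin n → F) = ev1 (swap (p5 hn 0) (p5 hn 1) j) := fun j => by
        funext i
        rw [mat_permSU, ev1, Matrix.mulVec_single_one, Matrix.col_apply, Matrix.submatrix_apply, id_eq,
          Matrix.one_apply, ev1, Pi.single_apply]
        simp [Equiv.apply_eq_iff_eq_symm_apply]
      have hSm : S ∈ Supp (Low 2 : Finset (Fin n)) := fun j hj => by
        rw [hS, swap_apply_of_ne_of_ne] <;> rintro rfl <;> simp [mem_Low, p5_val] at hj
      obtain ⟨z, hz⟩ := exists_E4 hF hn (supp_mono (low_mono (show 2 ≤ 4 by norm_num)) hSm)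
      refine ⟨z, by rw [mem_Sk, hz]; exact hSm, fun x hx => ?_⟩
      rw [hz]
      have hp : pmA hF (δA hn) * S⁻¹ ∈ Supp ((Low 3 : Finset (Fin n))ᶜ) := fun j hj => by
        have hjL : j ∈ (Low 3 : Finset (Fin n)) := by simpa using hj
        have hinv : mat S⁻¹ *ᵥ (ev1 j : Fin n → F) = ev1 (swap (p5 hn 0) (p5 hn 1) j) := by
          conv_lhs => rw [← swap_apply_self (p5 hn 0) (p5 hn 1) j, ← hS, mat_inv_mulVec']
        rw [mat_mul, ← mulVec_mulVec, hinv, pmA_ev1]
        congr 1
        rw [mem_Low] at hjL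
        show (swap (p5 hn 0) (p5 hn 1) * swap (p5 hn 3) (p5 hn 4)) (swap (p5 hn 0) (p5 hn 1) j) = j
        have e := swap_apply_of_ne_of_ne (a := p5 hn 3) (b := p5 hn 4) (x := swap (p5 hn 0) (p5 hn 1) j)
        rw [Perm.mul_apply, e, swap_apply_self] <;>
          · intro e'
            have := congrArg Fin.val e'
            rw [swap_apply_def] at this
            split_ifs at this <;> simp [p5_val] at this <;> omega
      have hd : Disjoint ((Low 3 : Finset (Fin n))ᶜ) (Low 3) := disjoint_compl_left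
      have hc := supp_commute hd hF hp
        (mul_mem (mul_mem (supp_mono (low_mono (show 2 ≤ 3 by norm_num)) hSm) hx)
          (inv_mem (supp_mono (low_mono (show 2 ≤ 3 by norm_num)) hSm)))
      calc pmA hF (δA hn) * E4 hF hn x * (pmA hF (δA hn))⁻¹
          = (pmA hF (δA hn) * S⁻¹) * (S * E4 hF hn x * S⁻¹) * (pmA hF (δA hn) * S⁻¹)⁻¹ := by group
        _ = _ := by rw [hc.eq, mul_inv_cancel_right]
    -- the missing relation
    have hT10 : T (C.u 1) (C.u 0) := by
      have h := (hTrel (0, 1) (by simp)).map (MulAut.conj (ρ (σ2A h6))).toMonoidHom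
      obtain ⟨w, hw⟩ := exists_E4 hF hn (supp_mono (low_mono (show 3 ≤ 4 by norm_num))
        (conj_δ_mem hF hn (Or.inr rfl) (C.hu 1)))
      simp only [MulEquiv.coe_toMonoidHom, MulAut.conj_apply] at h
      rw [show ρ (σ2A h6) * D.cj (σ2A h6) (C.u 1) * (ρ (σ2A h6))⁻¹ = φ w by
        show D.ρ (σ2A h6) * D.cj (σ2A h6) (C.u 1) * (D.ρ (σ2A h6))⁻¹ = _
        rw [← D.cj_mul, σ2_sq hn]
        exact hδ _ _ (C.hu 1) hw] at h
      have hw1 : T w (C.u 0) := h.symm
      have e : w = z * C.u 1 * z⁻¹ := E4_injective hF hn (by rw [hw, hzδ _ (C.hu 1), map_mul, map_mul, map_inv])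
      have hzc : z ∈ CT (C.u 0) := hCT.2 (hpair z hz _ (C.hu 0))
      have := mul_mem (mul_mem (inv_mem hzc) (hCT.2 hw1)) hzc
      rw [e, show z⁻¹ * (z * C.u 1 * z⁻¹) * z = C.u 1 by group] at this
      exact hCT.1 this
    have hTall : ∀ i j, T (C.u i) (C.u j) := by
      intro i j
      fin_cases i <;> fin_cases j
      · exact hTrel (0, 0) (by simp)
      · exact hTrel (0, 1) (by simp)
      · exact hT10
      · exact hTrel (1, 1) (by simp)
    intro x x' hx hx'
    have h1 : ∀ j, Sk hF hn 3 ≤ CT (C.u j) := fun j => C.hgen.trans ((Subgroup.closure_le _).2 (by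
      rintro _ ⟨i, rfl⟩
      exact hCT.2 (hTall i j)))
    have h2 : Sk hF hn 3 ≤ (Subgroup.centralizer {φ x}).comap ((MulAut.conj (ρ (σ2A h6))).toMonoidHom.comp φ) :=
      C.hgen.trans ((Subgroup.closure_le _).2 (by
        rintro _ ⟨j, rfl⟩
        exact Subgroup.mem_centralizer_singleton_iff.2 (hCT.1 (h1 j hx)).symm.eq))
    exact (show Commute (D.cj (σ2A h6) x') (φ x) from Subgroup.mem_centralizer_singleton_iff.1 (h2 hx')).symm
  exact Presents.of_iso (MulEquiv.ofBijective π ⟨D.π_injective hC, D.π_surjective⟩) hπof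

end Build

end CfsgLib.SUShort
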