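import Cfsg.Agent.Lib.SUShort.FourBound
import Cfsg.Agent.Lib.SUShort.GlueRels
import Cfsg.Agent.Lib.SUShort.Counts
import Cfsg.Agent.Lib.ShortPres.Final

/-!
# Presentations of `SU_n(q)` and `PSU_n(q)` on six generators
-/

set_option autoImplicit false
set_option linter.unusedSectionVars false

namespace CfsgLib.SUShort

open Matrix CfsgLib.UnitaryTransvection CfsgLib.UnitarySimple CfsgLib.SUCover
open CfsgLib.ShortPres (Presents exists_word)

/-- A subfamily that generates has a presentation with no more relations. -/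
theorem restrict {T : Type} [Group T] {κ ν : Type} {rels : Finset (FreeGroup κ)} {x : κ → T}
    (h : Presents rels x) (ι : ν → κ) (hι : Function.Injective ι)
    (hgen : Subgroup.closure (Set.range (x ∘ ι)) = ⊤) :
    ∃ rels' : Finset (FreeGroup ν), rels'.card ≤ rels.card ∧ Presents rels' (x ∘ ι) := by
  classical
  choose w hw using fun k : κ => exists_word hgen (x k)
  let u : κ → FreeGroup ν := Function.extend ι FreeGroup.of w
  have hu : ∀ i, u (ι i) = FreeGroup.of i := fun i => hι.extend_apply _ _ i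
  have hux : ∀ k, FreeGroup.lift (x ∘ ι) (u k) = x k := fun k => by
    by_cases hk : k ∈ Set.range ι
    · obtain ⟨i, rfl⟩ := hk
      rw [hu, FreeGroup.lift_apply_of]; rfl
    · rw [show u k = w k from Function.extend_apply' _ _ _ (by simpa using hk), hw]
  refine ⟨rels.image (FreeGroup.lift u), Finset.card_image_le, hgen, ?_, ?_⟩
  · intro r hr
    obtain ⟨s, hs, rfl⟩ := Finset.mem_image.1 hr
    have e : (FreeGroup.lift (x ∘ ι)).comp (FreeGroup.lift u) = FreeGroup.lift x := by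
      ext k; simpa using hux k
    exact (DFunLike.congr_fun e s).trans (h.holds s hs)
  · intro G _ f hf
    let g : κ → G := fun k => FreeGroup.lift f (u k)
    have e : (FreeGroup.lift f).comp (FreeGroup.lift u) = FreeGroup.lift g := by
      ext k; simp [g]
    obtain ⟨hfin, hcard⟩ := h.bound G g fun r hr =>
      (DFunLike.congr_fun e r).symm.trans (hf _ (Finset.mem_image_of_mem _ hr))
    have hsub : Subgroup.closure (Set.range f) ≤ Subgroup.closure (Set.range g) := by
      rw [Subgroup.closure_le]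
      rintro _ ⟨i, rfl⟩
      exact Subgroup.subset_closure ⟨ι i, by simp [g, hu]⟩
    exact ⟨hfin.subset hsub, (Set.ncard_le_ncard hsub hfin).trans hcard⟩

namespace Four

variable {F : Type} [Field F] [Fintype F] {q : ℕ} {M : Four F q} (W : FourData M)

theorem lo_BM (y : F) (c : M.K0) (hc : (c : F) = -(y + frob M.hF y)) :
    M.AM (lo 1) * M.BM y = M.Z1M c * M.BM y * M.AM (lo 1) := by
  refine M.ext4 ?_ ?_ ?_ ?_ <;> simp only [mat_mul, ← mulVec_mulVec]
  · rw [M.BM_E0, M.AM_E0]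
    simp only [lo, Matrix.of_apply, Matrix.cons_val', Matrix.cons_val_zero, Matrix.cons_val_one,
      Matrix.cons_val_fin_one, mulVec_add, mulVec_smul, M.BM_E0, M.BM_E1, M.Z1M_E0, M.Z1M_E1]
  · rw [M.BM_E1, M.AM_E1]
    simp only [lo, Matrix.of_apply, Matrix.cons_val', Matrix.cons_val_zero, Matrix.cons_val_one,
      Matrix.cons_val_fin_one, mulVec_add, mulVec_smul, M.BM_E0, M.BM_E1, M.Z1M_E0, M.Z1M_E1]
  · simp only [M.BM_G0, mulVec_add, mulVec_smul, M.AM_G0, M.AM_E1, M.BM_G1, M.Z1M_G0, M.Z1M_G1, M.BM_E0, M.BM_E1,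
      M.Z1M_E0, M.Z1M_E1]
    simp only [lo, Matrix.of_apply, Matrix.cons_val', Matrix.cons_val_zero, Matrix.cons_val_one,
      Matrix.cons_val_fin_one, map_zero, map_one]
    match_scalars <;> ring
  · simp only [M.BM_G1, mulVec_add, mulVec_smul, M.AM_G1, M.AM_E0, M.BM_G0, M.Z1M_G0, M.Z1M_G1, M.BM_E0, M.BM_E1,
      M.Z1M_E0, M.Z1M_E1]
    simp only [lo, Matrix.of_apply, Matrix.cons_val', Matrix.cons_val_zero, Matrix.cons_val_one,
      Matrix.cons_val_fin_one, map_zero, map_one, hc]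
    match_scalars <;> ring

/-- Four of the five generators suffice. -/
theorem gen_four : Subgroup.closure (Set.range (gens W ∘ ![Sum.inl 0, Sum.inl 1, Sum.inl 2, Sum.inr 1])) = ⊤ := by
  set H := Subgroup.closure (Set.range (gens W ∘ ![Sum.inl 0, Sum.inl 1, Sum.inl 2, Sum.inr 1]))
  have hnn : M.nn ∈ H := Subgroup.subset_closure ⟨3, rfl⟩
  have hA : ∀ s, M.AM s ∈ H := by
    intro s
    have : (⊤ : Subgroup (Matrix.SpecialLinearGroup (Fin 2) F)) ≤ H.comap M.AM := by
      rw [← W.hP2.gen, Subgroup.closure_le]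
      rintro _ ⟨k, rfl⟩
      fin_cases k
      · exact Subgroup.subset_closure ⟨0, rfl⟩
      · exact Subgroup.subset_closure ⟨1, rfl⟩
      · exact Subgroup.subset_closure ⟨2, rfl⟩
    exact this (Subgroup.mem_top s)
  obtain ⟨t, ht⟩ := exists_trace M.hF (c := (1 : F)) (map_one _)
  have h1 := lo_BM (M := M) t 1 (by push_cast; linear_combination ht)
  have hB : M.BM t ∈ H := mul_mem (mul_mem hnn (hA _)) (inv_mem hnn)
  have hZ1 : M.Z1M 1 ∈ H := by
    rw [show M.Z1M 1 = M.AM (lo 1) * M.BM t * (M.AM (lo 1))⁻¹ * (M.BM t)⁻¹ by rw [h1]; group]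
    exact mul_mem (mul_mem (mul_mem (hA _) hB) (inv_mem (hA _))) (inv_mem hB)
  have hZ : M.ZM (Multiplicative.ofAdd 1) ∈ H := by
    rw [show M.ZM (Multiplicative.ofAdd 1) = (M.AM we)⁻¹ * M.Z1M 1 * M.AM we by rw [Z1M]; group]
    exact mul_mem (mul_mem (inv_mem (hA _)) hZ1) (hA _)
  obtain ⟨e, he⟩ := exists_iso W
  haveI : Finite (Cfsg.SU 4 F q) := inferInstance
  rw [eq_top_iff]
  intro g _
  obtain ⟨p, rfl⟩ := e.surjective g
  have : (⊤ : Subgroup _) ≤ H.comap e.toMonoidHom := by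
    rw [← PresentedGroup.closure_range_of, Subgroup.closure_le]
    rintro _ ⟨k, rfl⟩
    show e (PresentedGroup.of k) ∈ H
    rw [he]
    rcases k with k | k
    · exact hA _
    · fin_cases k
      · exact hZ
      · exact hnn
  exact this (Subgroup.mem_top p)

end Four

/-- The presentation of `SU₄` with a generating subfamily. -/
theorem exists_su4_presentation' {K : Type} [Field K] [Fintype K] {q : ℕ} (hK : Fintype.card K = q ^ 2) :
    ∃ (x : Fin 5 → Cfsg.SU 4 K q) (rels : Finset (FreeGroup (Fin 5))),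
      rels.card ≤ 26 ∧ (q = 2 → rels.card ≤ 20) ∧ Presents rels x ∧
      Subgroup.closure (Set.range (x ∘ ![0, 1, 2, 4])) = ⊤ := by
  classical
  obtain ⟨M⟩ := exists_four hK
  obtain ⟨W⟩ := exists_fourData M
  have hex : ∃ e : PresentedGroup (↑(Four.rels W).toFinset : Set (FreeGroup L4)) ≃* Cfsg.SU 4 K q,
      ∀ k, e (PresentedGroup.of k) = Four.gens W k := by
    rw [List.coe_toFinset]; exact Four.exists_iso W
  obtain ⟨e, he⟩ := hex
  have hP := Presents.of_iso e he
  let σ : L4 ≃ Fin 5 := finSumFinEquiv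
  obtain ⟨rels, hc, hP'⟩ := restrict hP σ.symm σ.symm.injective (by
    rw [Set.range_comp, σ.symm.surjective.range_eq, Set.image_univ]; exact hP.gen)
  have hc' := hc.trans (List.toFinset_card_le _)
  refine ⟨_, rels, hc'.trans (Four.length_rels W).1, fun hq => hc'.trans ((Four.length_rels W).2 ?_), hP', ?_⟩
  · exact charP_of_card_eq_prime_pow (p := 2) (f := 2) (by rw [hK, hq])
  · have : (Four.gens W ∘ σ.symm) ∘ ![0, 1, 2, 4] = Four.gens W ∘ ![Sum.inl 0, Sum.inl 1, Sum.inl 2, Sum.inr 1] := by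
      funext i
      fin_cases i <;> rfl
    rw [this]
    exact Four.gen_four W

/-- Six letters generate. -/
theorem six_gen {F : Type} [Field F] [Fintype F] {q n m : ℕ} {hF : Fintype.card F = q ^ 2} {hn : 5 ≤ n}
    {x4 : Fin 5 → Cfsg.SU 4 F q} {xA : Fin m → alternatingGroup (Fin n)}
    (h4 : Subgroup.closure (Set.range (x4 ∘ ![0, 1, 2, 4])) = ⊤) {i j : Fin m}
    (hA : Subgroup.closure ({xA i, xA j} : Set (alternatingGroup (Fin n))) = ⊤)
    (hgen : Subgroup.closure (Set.range (glueGens m hF hn x4 xA)) = ⊤) :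
    Subgroup.closure (Set.range (glueGens m hF hn x4 xA ∘
      ![Sum.inl 0, Sum.inl 1, Sum.inl 2, Sum.inl 4, Sum.inr i, Sum.inr j])) = ⊤ := by
  set H := Subgroup.closure (Set.range (glueGens m hF hn x4 xA ∘
      ![Sum.inl 0, Sum.inl 1, Sum.inl 2, Sum.inl 4, Sum.inr i, Sum.inr j]))
  have h1 : (⊤ : Subgroup (Cfsg.SU 4 F q)) ≤ H.comap (E4 hF hn) := by
    rw [← h4, Subgroup.closure_le]
    rintro _ ⟨k, rfl⟩
    fin_cases k
    · exact Subgroup.subset_closure ⟨0, rfl⟩
    · exact Subgroup.subset_closure ⟨1, rfl⟩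
    · exact Subgroup.subset_closure ⟨2, rfl⟩
    · exact Subgroup.subset_closure ⟨3, rfl⟩
  have h2 : (⊤ : Subgroup (alternatingGroup (Fin n))) ≤ H.comap (pmA hF) := by
    rw [← hA, Subgroup.closure_le]
    rintro _ (rfl | rfl)
    · exact Subgroup.subset_closure ⟨4, rfl⟩
    · exact Subgroup.subset_closure ⟨5, rfl⟩
  rw [eq_top_iff, ← hgen, Subgroup.closure_le]
  rintro _ ⟨k | k, rfl⟩
  · exact h1 (Subgroup.mem_top _)
  · exact h2 (Subgroup.mem_top _)

theorem six_inj {m : ℕ} {i j : Fin m} (hij : i ≠ j) :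
    Function.Injective (![Sum.inl 0, Sum.inl 1, Sum.inl 2, Sum.inl 4, Sum.inr i, Sum.inr j] : Fin 6 → Fin 5 ⊕ Fin m) := by
  intro a b h
  fin_cases a <;> fin_cases b <;> simp [hij, hij.symm] at h ⊢

/-- The six-generator presentation of `SU_n(q)` for `n ≥ 5`. -/
theorem exists_sun_six {F : Type} [Field F] [Fintype F] {q : ℕ} (hF : Fintype.card F = q ^ 2) {n : ℕ} (hn : 5 ≤ n) :
    ∃ (x : Fin 6 → Cfsg.SU n F q) (rels : Finset (FreeGroup (Fin 6))),
      rels.card ≤ (if n = 5 then 34 else 39) ∧ Presents rels x := by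
  obtain ⟨x4, rels4, h26, h20, hP4, hgen4⟩ := exists_su4_presentation' hF
  obtain ⟨m, xA, relsA, i, j, hij, hcA, hPA, hA⟩ : ∃ (m : ℕ) (xA : Fin m → alternatingGroup (Fin n))
      (relsA : Finset (FreeGroup (Fin m))) (i j : Fin m), i ≠ j ∧ relsA.card ≤ (if n = 5 then 4 else 7) ∧
        Presents relsA xA ∧ Subgroup.closure ({xA i, xA j} : Set (alternatingGroup (Fin n))) = ⊤ := by
    rcases le_or_gt n 6 with h | h
    · obtain ⟨x, rels, hc, hP⟩ := CfsgLib.ShortPres.presents_alt_small' h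
      refine ⟨2, x, rels, 0, 1, by decide, hc.trans (by split_ifs <;> omega), hP, ?_⟩
      rw [eq_top_iff, ← hP.gen]
      refine Subgroup.closure_mono ?_
      rintro _ ⟨k, rfl⟩
      fin_cases k
      · exact Or.inl rfl
      · exact Or.inr rfl
    · obtain ⟨P, rfl⟩ := CfsgLib.ShortPres.exists_par (n := n) h
      obtain ⟨-, x, rels, hc, hP, hgen⟩ := P.presents
      exact ⟨3, x, rels, 0, 2, by decide, hc.trans (by rw [if_neg (by omega)]), hP, hgen⟩
  obtain ⟨rels, hc, hP⟩ := exists_glue_presentation (hF := hF) (hn := hn) hP4 hPA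
  obtain ⟨rels', hc', hP'⟩ := restrict hP _ (six_inj hij) (six_gen hgen4 hA hP.gen)
  refine ⟨_, rels', (hc'.trans hc).trans ?_, hP'⟩
  by_cases hq : q = 2
  · have := h20 hq
    simp only [hq, if_true]
    split_ifs at hcA ⊢ <;> omega
  · simp only [hq, if_false]
    split_ifs at hcA ⊢ <;> omega

theorem exists_su4_six {F : Type} [Field F] [Fintype F] {q : ℕ} (hF : Fintype.card F = q ^ 2) :
    ∃ (x : Fin 6 → Cfsg.SU 4 F q) (rels : Finset (FreeGroup (Fin 6))), rels.card ≤ 28 ∧ Presents rels x := by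
  obtain ⟨x, rels, h26, -, hP, hgen⟩ := exists_su4_presentation' hF
  obtain ⟨rels', hc, hP'⟩ := restrict hP ![0, 1, 2, 4] (by decide) hgen
  obtain ⟨y, rels'', hc', hP''⟩ := hP'.extend (Fin.castLE (show 4 ≤ 6 by norm_num)) (Fin.castLE_injective _)
  rw [Fintype.card_fin, Fintype.card_fin] at hc'
  exact ⟨y, rels'', by omega, hP''⟩

end CfsgLib.SUShort

namespace CfsgLib.SUShort

open CfsgLib.ShortPres (Presents)

/-- Six generators for every `n ≥ 4`. -/
theorem exists_sun_six' {F : Type} [Field F] [Fintype F] {q : ℕ} (hF : Fintype.card F = q ^ 2) {n : ℕ} (hn : 4 ≤ n) :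
    ∃ (x : Fin 6 → Cfsg.SU n F q) (rels : Finset (FreeGroup (Fin 6))),
      rels.card ≤ (if n ≤ 5 then 34 else 39) ∧ Presents rels x := by
  rcases eq_or_lt_of_le hn with rfl | h
  · obtain ⟨x, rels, hc, hP⟩ := exists_su4_six hF
    exact ⟨x, rels, by simp only [le_refl, show 4 ≤ 5 from by norm_num, if_true]; omega, hP⟩
  · obtain ⟨x, rels, hc, hP⟩ := exists_sun_six hF h
    exact ⟨x, rels, hc.trans (by split_ifs <;> omega), hP⟩

end CfsgLib.SUShort
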