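import Cfsg.Agent.Lib.SL2Pres.Words
import Cfsg.Agent.Lib.UnitaryTransvection

/-!
# The field constants used for short presentations of unitary groups
-/

set_option autoImplicit false
set_option linter.unusedSectionVars false

namespace CfsgLib.SUShort

open Polynomial CfsgLib.UnitaryTransvection

universe u

variable {F : Type u} [Field F] [Fintype F] {q : ℕ}

/-- The fixed field of the involution. -/
noncomputable def F0 (hF : Fintype.card F = q ^ 2) : Subfield F := (frob hF).eqLocusField (RingHom.id F)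

theorem mem_F0 (hF : Fintype.card F = q ^ 2) {x : F} : x ∈ F0 hF ↔ frob hF x = x := Iff.rfl

/-- The integral span of the powers of an element. -/
def ints (y : F) : Set F := Set.range fun P : ℤ[X] => aeval y P

theorem ints_cast (p : ℕ) [Fact p.Prime] [CharP F p] [Algebra (ZMod p) F] (y a : F) :
    a ∈ ints y ↔ a ∈ Algebra.adjoin (ZMod p) ({y} : Set F) := by
  rw [Algebra.adjoin_singleton_eq_range_aeval]
  constructor
  · rintro ⟨P, rfl⟩
    exact ⟨P.map (Int.castRingHom (ZMod p)), by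
      rw [AlgHom.toRingHom_eq_coe, RingHom.coe_coe, ← algebraMap_int_eq, aeval_map_algebraMap]⟩
  · rintro ⟨P, rfl⟩
    obtain ⟨P', rfl⟩ := Polynomial.map_surjective (Int.castRingHom (ZMod p)) ZMod.intCast_surjective P
    exact ⟨P', by rw [AlgHom.toRingHom_eq_coe, RingHom.coe_coe, ← algebraMap_int_eq, aeval_map_algebraMap]⟩

/-- If the powers of `y` span a subfield whose cube has at least the size of `F`, then together with the
first powers of a generator `ν` they span everything. -/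
theorem span_three {p : ℕ} [Fact p.Prime] [CharP F p] (y ν : F) (o : ℕ) (ho : y ≠ 0 → o ≤ orderOf y)
    (hy : y ≠ 0) (hbig : Fintype.card F ≤ (o + 1) ^ 3) (hν : ∀ a : F, ∃ P : ℤ[X], aeval ν P = a) (a : F) :
    ∃ A B C : ℤ[X], a = aeval y A + ν * aeval y B + ν ^ 2 * aeval y C := by
  classical
  let _ : Algebra (ZMod p) F := ZMod.algebra F p
  haveI : Module.Finite (ZMod p) F := Module.Finite.of_finite
  set K := IntermediateField.adjoin (ZMod p) ({y} : Set F) with hK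
  have hKmem : ∀ x : F, x ∈ K → x ∈ ints y := fun x hx => by
    rw [ints_cast p, ← IntermediateField.adjoin_simple_toSubalgebra_of_isAlgebraic
      (Algebra.IsAlgebraic.isAlgebraic y), IntermediateField.mem_toSubalgebra]
    exact hx
  haveI := Fintype.ofFinite K
  have hcard : o + 1 ≤ Fintype.card K := by
    have h1 : orderOf (⟨y, IntermediateField.mem_adjoin_simple_self _ y⟩ : K) = orderOf y :=
      (orderOf_injective K.val.toMonoidHom Subtype.val_injective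
        (⟨y, IntermediateField.mem_adjoin_simple_self _ y⟩ : K)).symm
    have h2 : orderOf y ∣ Fintype.card K - 1 := by
      rw [← h1]
      exact orderOf_dvd_of_pow_eq_one (FiniteField.pow_card_sub_one_eq_one _ fun e => hy (congrArg Subtype.val e))
    have h3 := Nat.le_of_dvd (by have := Fintype.one_lt_card (α := K); omega) h2
    have := ho hy
    have := Fintype.one_lt_card (α := K)
    omega
  have hdim : Module.finrank K F ≤ 3 := by
    by_contra hlt
    have h1 := Module.natCard_eq_pow_finrank (K := K) (V := F)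
    rw [Nat.card_eq_fintype_card, Nat.card_eq_fintype_card] at h1
    have h2 : (o + 1) ^ 4 ≤ Fintype.card K ^ Module.finrank K F :=
      (Nat.pow_le_pow_left hcard 4).trans (Nat.pow_le_pow_right (by omega) (by omega))
    have h3 : (o + 1) ^ 3 < (o + 1) ^ 4 := Nat.pow_lt_pow_right (by
      by_contra h0
      have : o = 0 := by omega
      subst this
      simp at hbig
      have := Fintype.one_lt_card (α := F)
      omega) (by omega)
    omega
  -- the span of `1, ν, ν²` is stable under `ν`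
  let V : Submodule K F := Submodule.span K ({1, ν, ν ^ 2} : Set F)
  have h1 : (1 : F) ∈ V := Submodule.subset_span (by simp)
  have hc : ν ^ 3 ∈ V := by
    have hi : IsIntegral K ν := Algebra.IsIntegral.isIntegral ν
    have hd : (minpoly K ν).natDegree ≤ 3 := (minpoly.natDegree_le ν).trans hdim
    have hm := minpoly.monic hi
    set m := minpoly K ν * X ^ (3 - (minpoly K ν).natDegree) with hmdef
    have hmm : m.Monic := hm.mul (monic_X_pow _)
    have hmd : m.natDegree = 3 := by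
      rw [hmdef, hm.natDegree_mul (monic_X_pow _), natDegree_X_pow]; omega
    have hm0 : aeval ν m = 0 := by rw [hmdef, map_mul, minpoly.aeval, zero_mul]
    rw [aeval_eq_sum_range, hmd, Finset.sum_range_succ, show m.coeff 3 = 1 by rw [← hmd]; exact hmm.coeff_natDegree,
      one_smul, add_comm, add_eq_zero_iff_eq_neg] at hm0
    rw [hm0]
    refine V.neg_mem (V.sum_mem fun i hi => V.smul_mem _ (Submodule.subset_span ?_))
    have := Finset.mem_range.1 hi
    interval_cases i <;> simp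
  have hstab : ∀ x ∈ V, ν * x ∈ V := by
    intro x hx
    induction hx using Submodule.span_induction with
    | mem x hx =>
      simp only [Set.mem_insert_iff, Set.mem_singleton_iff] at hx
      rcases hx with rfl | rfl | rfl
      · exact Submodule.subset_span (by simp)
      · exact Submodule.subset_span (by simp [sq])
      · rw [← pow_succ']; exact hc
    | zero => simp
    | add x y _ _ hx hy => rw [mul_add]; exact V.add_mem hx hy
    | smul c x _ hx => rw [mul_smul_comm]; exact V.smul_mem c hx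
  have hpow : ∀ i : ℕ, ν ^ i ∈ V := by
    intro i
    induction i with
    | zero => rw [pow_zero]; exact h1
    | succ i ih => rw [pow_succ']; exact hstab _ ih
  have hall : a ∈ V := by
    obtain ⟨P, rfl⟩ := hν a
    rw [aeval_eq_sum_range]
    exact V.sum_mem fun i _ => V.toAddSubgroup.zsmul_mem (hpow i) _
  obtain ⟨c, d, hd, e1⟩ := Submodule.mem_span_insert.1 hall
  obtain ⟨e, g, hg, e2⟩ := Submodule.mem_span_insert.1 hd
  obtain ⟨k, e3⟩ := Submodule.mem_span_singleton.1 hg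
  obtain ⟨A, hA⟩ := hKmem _ c.2
  obtain ⟨B, hB⟩ := hKmem _ e.2
  obtain ⟨C, hC⟩ := hKmem _ k.2
  refine ⟨A, B, C, ?_⟩
  rw [e1, e2, ← e3, show c • (1 : F) = (c : F) * 1 from rfl, show e • ν = (e : F) * ν from rfl,
    show k • ν ^ 2 = (k : F) * ν ^ 2 from rfl, ← hA, ← hB, ← hC]
  ring

/-- The constants. -/
structure Con (F : Type u) [Field F] [Fintype F] (q : ℕ) where
  hF : Fintype.card F = q ^ 2
  hq : 3 ≤ q
  ω : Fˣ
  hω : ∀ x : Fˣ, ∃ i : ℕ, ω ^ i = x
  p : ℕ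
  hp : p.Prime
  hc : CharP F p

variable (q) in
theorem exists_con (hF : Fintype.card F = q ^ 2) (hq : 3 ≤ q) : Nonempty (Con F q) := by
  obtain ⟨ω, hω⟩ := IsCyclic.exists_generator (α := Fˣ)
  obtain ⟨p, hpc⟩ := CharP.exists F
  exact ⟨⟨hF, hq, ω, fun x => mem_powers_iff_mem_zpowers.mpr (hω x), p, CharP.char_is_prime F p, hpc⟩⟩

namespace Con

variable (Cn : Con F q)

/-- The involution. -/
noncomputable def τ : F →+* F := frob Cn.hF

theorem τ_τ (x : F) : Cn.τ (Cn.τ x) = x := frob_frob Cn.hF x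

theorem τ_pow (x : F) : Cn.τ x = x ^ q := frob_apply Cn.hF x

/-- The multiplier on the quotient of the unipotent radical. -/
def ν : F := (Cn.ω : F) ^ (2 * q - 1)

/-- The multiplier on the centre of the radical. -/
def ρ : F := (Cn.ω : F) ^ (q + 1)

/-- An element of norm one. -/
def μ : F := (Cn.ω : F) ^ (q - 1)

theorem ω_ne : (Cn.ω : F) ≠ 0 := Cn.ω.ne_zero

theorem pow_ω {a b : ℕ} (h : a % (q ^ 2 - 1) = b % (q ^ 2 - 1)) : (Cn.ω : F) ^ a = (Cn.ω : F) ^ b := by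
  have h1 : (Cn.ω : F) ^ (q ^ 2 - 1) = 1 := by
    rw [← Cn.hF]; exact FiniteField.pow_card_sub_one_eq_one _ Cn.ω_ne
  rw [← Nat.div_add_mod a (q ^ 2 - 1), ← Nat.div_add_mod b (q ^ 2 - 1), pow_add, pow_add, pow_mul, pow_mul, h1,
    one_pow, one_pow, h]

theorem order_ω : orderOf (Cn.ω : F) = q ^ 2 - 1 := by
  classical
  rw [orderOf_units, ← Cn.hF, ← Fintype.card_units, ← Nat.card_eq_fintype_card]
  exact orderOf_eq_card_of_forall_mem_zpowers fun x => by
    obtain ⟨i, rfl⟩ := Cn.hω x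
    exact Subgroup.npow_mem_zpowers _ i

theorem pow_eq_one_iff (a : ℕ) : (Cn.ω : F) ^ a = 1 ↔ q ^ 2 - 1 ∣ a := by
  rw [← orderOf_dvd_iff_pow_eq_one, Cn.order_ω]

theorem exists_pow (x : F) (hx : x ≠ 0) : ∃ i : ℕ, (Cn.ω : F) ^ i = x := by
  obtain ⟨i, hi⟩ := Cn.hω (Units.mk0 x hx)
  exact ⟨i, by simpa using congrArg Units.val hi⟩

theorem sq_sub (Cn : Con F q) : q ^ 2 - 1 = (q + 1) * (q - 1) := by
  obtain ⟨r, rfl⟩ := Nat.exists_eq_add_of_le Cn.hq
  simp only [show 3 + r - 1 = 2 + r by omega]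
  ring_nf
  omega

theorem ρ_fix : Cn.τ Cn.ρ = Cn.ρ := by
  rw [τ_pow, ρ, ← pow_mul]
  refine Cn.pow_ω ?_
  have e : (q + 1) * q = (q + 1) + (q ^ 2 - 1) * 1 := by
    rw [Cn.sq_sub, mul_one]
    obtain ⟨r, rfl⟩ := Nat.exists_eq_add_of_le Cn.hq
    simp only [show 3 + r - 1 = 2 + r by omega]
    ring
  rw [e, Nat.add_mul_mod_self_left]

theorem norm_ω : (Cn.ω : F) * Cn.τ Cn.ω = Cn.ρ := by rw [τ_pow, ρ, pow_succ', ]

theorem exists_fix (a : F) (ha : Cn.τ a = a) (ha0 : a ≠ 0) : ∃ i : ℕ, a = Cn.ρ ^ i := by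
  obtain ⟨i, rfl⟩ := Cn.exists_pow a ha0
  rw [τ_pow, ← pow_mul] at ha
  have h1 : (Cn.ω : F) ^ (i * (q - 1)) = 1 := by
    have h2 : (Cn.ω : F) ^ i * (Cn.ω : F) ^ (i * (q - 1)) = (Cn.ω : F) ^ i * 1 := by
      rw [← pow_add, mul_one, show i + i * (q - 1) = i * q by
        obtain ⟨r, rfl⟩ := Nat.exists_eq_add_of_le Cn.hq
        simp only [show 3 + r - 1 = 2 + r by omega]
        ring]
      exact ha
    exact mul_left_cancel₀ (pow_ne_zero _ Cn.ω_ne) h2
  rw [Cn.pow_eq_one_iff, Cn.sq_sub] at h1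
  have hq := Cn.hq
  obtain ⟨j, rfl⟩ := Nat.dvd_of_mul_dvd_mul_right (by omega) h1
  exact ⟨j, by rw [ρ, ← pow_mul]⟩

theorem μ_norm : Cn.μ * Cn.τ Cn.μ = 1 := by
  rw [τ_pow, μ, ← pow_mul, ← pow_add, Cn.pow_eq_one_iff, Cn.sq_sub]
  refine Dvd.intro 1 ?_
  obtain ⟨r, rfl⟩ := Nat.exists_eq_add_of_le Cn.hq
  simp only [show 3 + r - 1 = 2 + r by omega]
  ring

theorem exists_norm_one (a : F) (ha : a * Cn.τ a = 1) : ∃ i : ℕ, a = Cn.μ ^ i := by
  have ha0 : a ≠ 0 := fun e => by simp [e] at ha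
  obtain ⟨i, rfl⟩ := Cn.exists_pow a ha0
  rw [τ_pow, ← pow_mul, ← pow_add, show i + i * q = i * (q + 1) by ring, Cn.pow_eq_one_iff, Cn.sq_sub,
    mul_comm (q + 1), mul_comm i] at ha
  have hq := Cn.hq
  have h3 : (q + 1) * (q - 1) ∣ (q + 1) * i := by convert ha using 1 <;> ring
  obtain ⟨j, rfl⟩ := Nat.dvd_of_mul_dvd_mul_left (show 0 < q + 1 by omega) h3
  exact ⟨j, by rw [μ, ← pow_mul]⟩

theorem ν_eq : Cn.ν = Cn.ω ^ (2 * q - 1) := rfl

theorem ν_ne : Cn.ν ≠ 0 := pow_ne_zero _ Cn.ω_ne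

theorem ν_norm : Cn.ν * Cn.τ Cn.ν = Cn.ρ := by
  rw [ν, ρ, τ_pow, ← pow_mul, ← pow_add]
  refine Cn.pow_ω ?_
  have e : (2 * q - 1) + (2 * q - 1) * q = (q + 1) + (q ^ 2 - 1) * 2 := by
    rw [Cn.sq_sub]
    obtain ⟨r, rfl⟩ := Nat.exists_eq_add_of_le Cn.hq
    simp only [show 3 + r - 1 = 2 + r by omega, show 2 * (3 + r) - 1 = 5 + 2 * r by omega]
    ring
  rw [e, Nat.add_mul_mod_self_left]

theorem ν_pow_succ : Cn.ν ^ (q + 1) = Cn.ρ := by rw [pow_succ', ← Cn.τ_pow, Cn.ν_norm]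

theorem ν_pow_pred : Cn.ν ^ (q - 1) * Cn.μ ^ 3 = 1 := by
  rw [ν, μ, ← pow_mul, ← pow_mul, ← pow_add, Cn.pow_eq_one_iff, Cn.sq_sub]
  refine Dvd.intro 2 ?_
  obtain ⟨r, rfl⟩ := Nat.exists_eq_add_of_le Cn.hq
  simp only [show 3 + r - 1 = 2 + r by omega, show 2 * (3 + r) - 1 = 5 + 2 * r by omega]
  ring

theorem μ_pow_succ : Cn.μ ^ (q + 1) = 1 := by rw [pow_succ', ← Cn.τ_pow, Cn.μ_norm]

theorem ν_moved : Cn.τ Cn.ν ≠ Cn.ν := by
  intro h
  have h1 : Cn.ν ^ (q - 1) = 1 := by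
    refine mul_left_cancel₀ Cn.ν_ne ?_
    rw [mul_one, ← pow_succ', show q - 1 + 1 = q by have := Cn.hq; omega, ← Cn.τ_pow, h]
  have h2 := Cn.ν_pow_pred
  rw [h1, one_mul, μ, ← pow_mul, Cn.pow_eq_one_iff, Cn.sq_sub] at h2
  have hq := Cn.hq
  rw [mul_comm (q - 1) 3] at h2
  have := Nat.le_of_dvd (by omega) (Nat.dvd_of_mul_dvd_mul_right (show 0 < q - 1 by omega) h2)
  omega

theorem exists_step : ∃ j : ℕ, 0 < j ∧ Cn.ρ ^ j + 1 ≠ 0 ∧
    ∀ a : F, Cn.τ a = a → ∃ P : ℤ[X], aeval (Cn.ρ ^ j) P = a := by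
  haveI := Cn.hc
  haveI : Fact Cn.p.Prime := ⟨Cn.hp⟩
  have hgen : ∀ a : F, Cn.τ a = a → ∃ P : ℤ[X], aeval Cn.ρ P = a := by
    intro a ha
    rcases eq_or_ne a 0 with rfl | h0
    · exact ⟨0, map_zero _⟩
    · obtain ⟨i, rfl⟩ := Cn.exists_fix a ha h0
      exact ⟨X ^ i, by rw [map_pow, aeval_X]⟩
  by_cases h : Cn.ρ + 1 = 0
  · refine ⟨2, by omega, fun h2 => ?_, fun a ha => ?_⟩
    · -- then `q = 3`
      have e : Cn.ρ = -1 := eq_neg_of_add_eq_zero_left h
      have h4 : Cn.ρ ^ 2 = 1 := by rw [e]; ring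
      rw [ρ, ← pow_mul, Cn.pow_eq_one_iff, Cn.sq_sub] at h4
      have hq := Cn.hq
      have := Nat.le_of_dvd (by omega) (Nat.dvd_of_mul_dvd_mul_left (show 0 < q + 1 by omega) h4)
      obtain rfl : q = 3 := by omega
      rw [e] at h2
      have hp : Cn.p = 2 := by
        have h5 : ((2 : ℕ) : F) = 0 := by push_cast; linear_combination h2
        rw [CharP.cast_eq_zero_iff F Cn.p] at h5
        exact (Nat.prime_dvd_prime_iff_eq Cn.hp Nat.prime_two).1 h5
      obtain ⟨d, -, hd⟩ := FiniteField.card F Cn.p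
      rw [hp, Cn.hF] at hd
      have := congrArg (fun x => x % 2) hd
      simp [Nat.pow_mod, d.ne_zero] at this
    · obtain ⟨P, rfl⟩ := hgen a ha
      refine ⟨C (P.eval (-1)), ?_⟩
      rw [aeval_C, eq_neg_of_add_eq_zero_left h, show (-1 : F) = algebraMap ℤ F (-1) by simp,
        aeval_algebraMap_apply_eq_algebraMap_eval]
  · exact ⟨1, one_pos, by rwa [pow_one], fun a ha => by simpa using hgen a ha⟩

theorem span_two (a : F) : ∃ c d : F, Cn.τ c = c ∧ Cn.τ d = d ∧ a = c + Cn.ν * d := by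
  have hne : Cn.ν - Cn.τ Cn.ν ≠ 0 := sub_ne_zero.2 (Ne.symm Cn.ν_moved)
  refine ⟨(Cn.ν * Cn.τ a - Cn.τ Cn.ν * a) / (Cn.ν - Cn.τ Cn.ν), (a - Cn.τ a) / (Cn.ν - Cn.τ Cn.ν), ?_, ?_, ?_⟩
  · rw [map_div₀, map_sub, map_mul, map_mul, map_sub, Cn.τ_τ, Cn.τ_τ, ← neg_sub Cn.ν, ← neg_sub (Cn.ν * Cn.τ a),
      neg_div_neg_eq]
  · rw [map_div₀, map_sub, map_sub, Cn.τ_τ, Cn.τ_τ, ← neg_sub Cn.ν, ← neg_sub a, neg_div_neg_eq]
  · field_simp
    ring

theorem ν_gen (a : F) : ∃ P : ℤ[X], aeval Cn.ν P = a := by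
  obtain ⟨c, d, hc, hd, rfl⟩ := Cn.span_two a
  have key : ∀ x : F, Cn.τ x = x → ∃ P : ℤ[X], aeval Cn.ν P = x := by
    intro x hx
    rcases eq_or_ne x 0 with rfl | h0
    · exact ⟨0, map_zero _⟩
    · obtain ⟨i, rfl⟩ := Cn.exists_fix x hx h0
      exact ⟨X ^ ((q + 1) * i), by rw [map_pow, aeval_X, pow_mul, Cn.ν_pow_succ]⟩
  obtain ⟨A, hA⟩ := key c hc
  obtain ⟨B, hB⟩ := key d hd
  exact ⟨A + X * B, by rw [map_add, map_mul, aeval_X, hA, hB]⟩

theorem span_powers (a : F) : ∃ A B D : ℤ[X], a = aeval (Cn.ν ^ (q - 1)) A + Cn.ν * aeval (Cn.ν ^ (q - 1)) B +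
    Cn.ν ^ 2 * aeval (Cn.ν ^ (q - 1)) D := by
  haveI := Cn.hc
  haveI : Fact Cn.p.Prime := ⟨Cn.hp⟩
  have hq := Cn.hq
  refine span_three (p := Cn.p) (Cn.ν ^ (q - 1)) Cn.ν ((q + 1) / Nat.gcd (q + 1) 3) (fun _ => le_of_eq ?_)
    (pow_ne_zero _ Cn.ν_ne) ?_ Cn.ν_gen a
  · have e : Cn.ν ^ (q - 1) = (Cn.μ ^ 3)⁻¹ := eq_inv_of_mul_eq_one_left Cn.ν_pow_pred
    have hm : orderOf Cn.μ = q + 1 := by
      rw [μ, orderOf_pow' _ (by omega), Cn.order_ω, Cn.sq_sub, Nat.gcd_mul_left_left,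
        Nat.mul_div_cancel _ (by omega)]
    rw [e, ← inv_pow, orderOf_pow' _ (by norm_num)]
    congr 2 <;>
    · rw [← hm]
      exact (orderOf_eq_orderOf_iff.2 fun n => by rw [inv_pow, inv_eq_one])
  · rw [Cn.hF]
    have h3 : q + 4 ≤ 3 * ((q + 1) / Nat.gcd (q + 1) 3 + 1) := by
      have hd := Nat.gcd_dvd_left (q + 1) 3
      rcases (Nat.dvd_prime Nat.prime_three).1 (Nat.gcd_dvd_right (q + 1) 3) with h | h <;> rw [h] at hd ⊢ <;> omega
    have h4 : 27 * q ^ 2 ≤ (q + 4) ^ 3 := by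
      have h5 : (27 : ℤ) * (q : ℤ) ^ 2 ≤ ((q : ℤ) + 4) ^ 3 := by
        nlinarith [mul_nonneg (sq_nonneg ((q : ℤ) - 8)) (show (0 : ℤ) ≤ (q : ℤ) + 1 by positivity)]
      exact_mod_cast h5
    have h6 := h4.trans (Nat.pow_le_pow_left h3 3)
    rw [Nat.mul_pow] at h6
    omega

end Con

end CfsgLib.SUShort
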