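import Cfsg.Agent.Lib.SUShort.FourDerive

/-!
# The relators present `SU₄(q)`
-/

set_option autoImplicit false
set_option linter.unusedSectionVars false

namespace CfsgLib.SUShort

open Matrix Polynomial CfsgLib.UnitaryTransvection CfsgLib.UnitarySimple CfsgLib.TwoGenCl.Unit
open CfsgLib.SL2Pres (powers_relations half_power)
open CfsgLib.ShortPres (Presents exists_word)

variable {F : Type} [Field F] [Fintype F] {q : ℕ}

namespace Four

variable {M : Four F q} (W : FourData M)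

local notation "σ" => frob M.hF
local notation "SL2" => Matrix.SpecialLinearGroup (Fin 2) F
local notation "h₄" => Cfsg.hermForm 4 F q

/-! ### The torus -/

noncomputable local instance instFintypeK0 (M : Four F q) : Fintype M.K0 := Fintype.ofFinite _

theorem hφ (a : M.K0) : th W * ψ W (Multiplicative.ofAdd a) * (th W)⁻¹ = ψ W (Multiplicative.ofAdd (M.ρ₀ * M.ρ₀ * a)) :=
  th_z W a

theorem powers (j : ℕ) :
    z W (M.ρ₀ ^ j) * (n W * z W (M.ρ₀ ^ j)⁻¹ * (n W)⁻¹) * z W (M.ρ₀ ^ j) = th W ^ j * n W :=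
  powers_relations M.ρ₀ M.ρ₀_ne (n W) (th W) (ψ W) (hφ W) (n_th W) (hB W) (hD W) j

theorem th_pow_eq_one {j : ℕ} (h : M.ρ₀ ^ j = 1) : th W ^ j = 1 := by
  have e := powers W j
  rw [h, inv_one, hB] at e
  exact mul_eq_right.mp e.symm

theorem exists_nn : ∃ N : ℕ, n W * n W = th W ^ N := by
  obtain ⟨N, hN⟩ := M.exists_ρ_pow (-1) (neg_ne_zero.2 one_ne_zero)
  exact ⟨N, (half_power M.ρ₀ M.ρ₀_ne (n W) (th W) (ψ W) (hφ W) (n_th W) (hB W) (hD W) N hN.symm).1⟩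

theorem exists_period : ∃ e : ℕ, 0 < e ∧ th W ^ e = 1 := by
  obtain ⟨i, hi⟩ := M.exists_ρ_pow M.ρ₀⁻¹ (inv_ne_zero M.ρ₀_ne)
  exact ⟨i + 1, Nat.succ_pos _, th_pow_eq_one W (by rw [pow_succ, ← hi, inv_mul_cancel₀ M.ρ₀_ne])⟩

theorem th_pow_di (j : ℕ) (r : Fˣ) : Commute (th W ^ j) (A W (di r)) := (th_di W r).pow_left j

/-- The torus. -/
noncomputable def Tor : Subgroup (P W) where
  carrier := {g | ∃ (r : Fˣ) (j : ℕ), g = A W (di r) * th W ^ j}
  one_mem' := ⟨1, 0, by simp [di_one]⟩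
  mul_mem' := by
    rintro _ _ ⟨r, j, rfl⟩ ⟨r', j', rfl⟩
    refine ⟨r * r', j + j', ?_⟩
    rw [di_mul, map_mul, pow_add]
    calc A W (di r) * th W ^ j * (A W (di r') * th W ^ j')
        = A W (di r) * (th W ^ j * A W (di r')) * th W ^ j' := by group
      _ = _ := by rw [(th_pow_di W j r').eq]; group
  inv_mem' := by
    rintro _ ⟨r, j, rfl⟩
    obtain ⟨e, he, he1⟩ := exists_period W
    refine ⟨r⁻¹, (e - 1) * j, ?_⟩
    rw [di_inv, map_inv, _root_.mul_inv_rev, ← ((th_pow_di W j r).inv_inv).symm.eq]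
    congr 1
    rw [inv_eq_iff_mul_eq_one, ← pow_add, show j + (e - 1) * j = e * j by
      obtain ⟨d, rfl⟩ := Nat.exists_eq_add_of_le he
      simp only [Nat.succ_eq_add_one, zero_add, add_tsub_cancel_left]
      ring, pow_mul, he1, one_pow]

theorem di_mem_Tor (r : Fˣ) : A W (di r) ∈ Tor W := ⟨r, 0, by simp⟩

theorem th_pow_mem_Tor (j : ℕ) : th W ^ j ∈ Tor W := ⟨1, j, by simp [di_one]⟩

theorem th_mem_Tor : th W ∈ Tor W := by simpa using th_pow_mem_Tor W 1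

theorem Tor_M' {τ : P W} (hτ : τ ∈ Tor W) : ∀ x ∈ M' W, τ * x * τ⁻¹ ∈ M' W := by
  obtain ⟨r, j, rfl⟩ := hτ
  exact conj_chain (di_M' W r) (conj_chain_pow (th_M' W) j)

theorem Tor_lo {τ : P W} (hτ : τ ∈ Tor W) (x : F) : ∃ x', τ * A W (lo x) * τ⁻¹ = A W (lo x') := by
  obtain ⟨r, j, rfl⟩ := hτ
  refine ⟨x / M.ρ ^ j / ((r : F) * r), ?_⟩
  calc A W (di r) * th W ^ j * A W (lo x) * (A W (di r) * th W ^ j)⁻¹
      = A W (di r) * (th W ^ j * A W (lo x) * (th W ^ j)⁻¹) * (A W (di r))⁻¹ := by group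
    _ = _ := by rw [th_pow_lo, A_di_lo]

theorem lo_mul (x y : F) : A W (lo x) * A W (lo y) = A W (lo (x + y)) := by rw [← map_mul, lo_add]

/-- The Borel subgroup. -/
noncomputable def Bor : Subgroup (P W) where
  carrier := {g | ∃ m ∈ M' W, ∃ (x : F), ∃ τ ∈ Tor W, g = m * A W (lo x) * τ}
  one_mem' := ⟨1, one_mem _, 0, 1, one_mem _, by simp [lo_zero]⟩
  mul_mem' := by
    rintro _ _ ⟨m, hm, x, τ, hτ, rfl⟩ ⟨m', hm', x', τ', hτ', rfl⟩
    obtain ⟨x'', hx''⟩ := Tor_lo W hτ x'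
    refine ⟨m * (A W (lo x) * (τ * m' * τ⁻¹) * (A W (lo x))⁻¹), mul_mem hm (lo_M' W x _ (Tor_M' W hτ m' hm')),
      x + x'', τ * τ', mul_mem hτ hτ', ?_⟩
    rw [← lo_mul, ← hx'']
    group
  inv_mem' := by
    rintro _ ⟨m, hm, x, τ, hτ, rfl⟩
    obtain ⟨x', hx'⟩ := Tor_lo W (inv_mem hτ) (-x)
    refine ⟨τ⁻¹ * (A W (lo (-x)) * m⁻¹ * (A W (lo (-x)))⁻¹) * τ⁻¹⁻¹,
      Tor_M' W (inv_mem hτ) _ (lo_M' W _ _ (inv_mem hm)), x', τ⁻¹, inv_mem hτ, ?_⟩
    rw [← hx', lo_neg, map_inv]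
    group

theorem M'_le {x : P W} (hx : x ∈ M' W) : x ∈ Bor W := ⟨x, hx, 0, 1, one_mem _, by simp [lo_zero]⟩

theorem lo_mem (x : F) : A W (lo x) ∈ Bor W := ⟨1, one_mem _, x, 1, one_mem _, by simp⟩

theorem Tor_le {τ : P W} (hτ : τ ∈ Tor W) : τ ∈ Bor W := ⟨1, one_mem _, 0, τ, hτ, by simp [lo_zero]⟩

theorem AM_di_E (r : Fˣ) : mat (M.AM (di r)) *ᵥ M.E0 = (r : F) • M.E0 ∧
    mat (M.AM (di r)) *ᵥ M.E1 = (r : F)⁻¹ • M.E1 := by
  refine ⟨?_, ?_⟩
  · rw [M.AM_E0]; simp [di, Cfsg.Agent.S2286.dEl]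
  · rw [M.AM_E1]; simp [di, Cfsg.Agent.S2286.dEl]

theorem hat_pow_E (j : ℕ) : mat (M.hat ^ j) *ᵥ M.E0 = M.ρ ^ j • M.E0 ∧ mat (M.hat ^ j) *ᵥ M.E1 = M.E1 := by
  induction j with
  | zero => simp [mat_one]
  | succ j ih =>
    rw [pow_succ, mat_mul, ← mulVec_mulVec, ← mulVec_mulVec, M.hat_E0, M.hat_E1, mulVec_smul, ih.1, ih.2, smul_smul,
      pow_succ, mul_comm]
    exact ⟨rfl, rfl⟩

theorem M'_E {m : P W} (hm : m ∈ M' W) : mat (π W m) *ᵥ M.E0 = M.E0 ∧ mat (π W m) *ᵥ M.E1 = M.E1 := by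
  obtain ⟨a, b, y, rfl⟩ := hm
  simp [map_mul, π_z, π_Z1, π_B, mat_mul, ← mulVec_mulVec, M.BM_E0, M.BM_E1, M.Z1M_E0, M.Z1M_E1, M.ZM_E0, M.ZM_E1]

theorem Bor_E {g : P W} (hg : g ∈ Bor W) : (∃ c : F, mat (π W g) *ᵥ M.E1 = c • M.E1) ∧
    ∃ a b : F, mat (π W g) *ᵥ M.E0 = a • M.E0 + b • M.E1 := by
  obtain ⟨m, hm, x, τ, ⟨r, j, rfl⟩, rfl⟩ := hg
  obtain ⟨m0, m1⟩ := M'_E W hm
  obtain ⟨d0, d1⟩ := AM_di_E (M := M) r
  obtain ⟨h0, h1⟩ := hat_pow_E (M := M) j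
  simp only [map_mul, map_pow, π_A, π_th, mat_mul, ← mulVec_mulVec, h0, h1, d0, d1, mulVec_smul]
  refine ⟨⟨(r : F)⁻¹, ?_⟩, M.ρ ^ j * r, M.ρ ^ j * r * x, ?_⟩
  · rw [M.AM_E1]; simp [lo, mulVec_smul, m1]
  · rw [M.AM_E0]; simp [lo, mulVec_smul, mulVec_add, m0, m1, smul_smul, mul_assoc]

theorem inj_Bor {g : P W} (hg : g ∈ Bor W) (e : π W g = 1) : g = 1 := by
  obtain ⟨m, hm, x, τ, ⟨r, j, rfl⟩, rfl⟩ := hg
  obtain ⟨m0, m1⟩ := M'_E W hm
  obtain ⟨d0, d1⟩ := AM_di_E (M := M) r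
  obtain ⟨h0, h1⟩ := hat_pow_E (M := M) j
  have e1 := congrArg (fun g => mat g *ᵥ M.E1) e
  have e0 := congrArg (fun g => mat g *ᵥ M.E0) e
  simp only [map_mul, map_pow, π_A, π_th, mat_mul, ← mulVec_mulVec, h0, h1, d0, d1, mulVec_smul, mat_one,
    one_mulVec] at e0 e1
  rw [M.AM_E1] at e1
  rw [M.AM_E0] at e0
  simp only [lo, Matrix.of_apply, Matrix.cons_val', Matrix.cons_val_zero, Matrix.cons_val_one,
    Matrix.cons_val_fin_one, one_smul, zero_smul, zero_add, mulVec_add, mulVec_smul, m0, m1] at e0 e1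
  have c1 := congrArg (fun v => h₄ v M.G1) e1
  have c0 := congrArg (fun v => h₄ v M.G0) e0
  have cx := congrArg (fun v => h₄ v M.G1) e0
  obtain ⟨r1, r2, r3, r4, r5, r6, r7, r8⟩ := M.h01
  simp only [h_add_left, h_smul_left, r1, r2, r3, r4, mul_one, mul_zero, add_zero, zero_add] at c0 c1 cx
  have hr : r = 1 := Units.ext (by rw [Units.val_one]; exact inv_eq_one.1 c1)
  subst hr
  simp only [Units.val_one, one_mul, mul_one] at c0
  have hj : M.ρ₀ ^ j = 1 := Subtype.ext (by rw [SubmonoidClass.coe_pow, ρ₀_val]; simpa using c0)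
  have hx : x = 0 := by
    simpa [c0] using cx
  subst hx
  rw [th_pow_eq_one W hj, di_one, map_one, lo_zero, map_one, mul_one, mul_one, mul_one] at e ⊢
  exact π_inj_M' W hm (one_mem _) (by rw [e, map_one])

/-! ### The cells -/

/-- A double coset. -/
def cell (w : P W) : Set (P W) := {g | ∃ b ∈ Bor W, ∃ b' ∈ Bor W, g = b * w * b'}

theorem cell_right {w g β : P W} (hg : g ∈ cell W w) (hβ : β ∈ Bor W) : g * β ∈ cell W w := by
  obtain ⟨b, hb, b', hb', rfl⟩ := hg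
  exact ⟨b, hb, b' * β, mul_mem hb' hβ, by group⟩

theorem cell_mul {w τ g : P W} (hτ : τ ∈ Bor W) (hg : g ∈ cell W (w * τ)) : g ∈ cell W w := by
  obtain ⟨b, hb, b', hb', rfl⟩ := hg
  exact ⟨b, hb, τ * b', mul_mem hτ hb', by group⟩

theorem n_conj_Tor {τ : P W} (hτ : τ ∈ Tor W) : (n W)⁻¹ * τ * n W ∈ Tor W := by
  obtain ⟨r, j, rfl⟩ := hτ
  obtain ⟨i, rfl⟩ := M.hω r
  rw [show (n W)⁻¹ * (A W (di (M.ω ^ i)) * th W ^ j) * n W =
    ((n W)⁻¹ * A W (di (M.ω ^ i)) * n W) * ((n W)⁻¹ * th W ^ j * n W) by group]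
  have hp : ∀ (x : P W) (k : ℕ), (n W)⁻¹ * x ^ k * n W = ((n W)⁻¹ * x * n W) ^ k := fun x k => by
    induction k with
    | zero => simp
    | succ k ih => rw [pow_succ, pow_succ, ← ih]; group
  rw [di_pow, map_pow, hp, hp, ni_th_n, show (n W)⁻¹ * A W (di M.ω) * n W = (th W)⁻¹ * h W from ni_h_n W]
  exact mul_mem (pow_mem (mul_mem (inv_mem (th_mem_Tor W)) (di_mem_Tor W M.ω)) i)
    (pow_mem (inv_mem (th_mem_Tor W)) j)

theorem tt_th : (tt W)⁻¹ * th W * tt W = A W (di (ρu M)⁻¹) * th W := by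
  have h1 : th W * tt W = A W (di (ρu M)) * tt W * th W := mul_inv_eq_iff_eq_mul.1 (th_tt W)
  rw [di_tt] at h1
  rw [mul_assoc, h1]
  group

theorem tt_conj_Tor {τ : P W} (hτ : τ ∈ Tor W) : (tt W)⁻¹ * τ * tt W ∈ Tor W := by
  obtain ⟨r, j, rfl⟩ := hτ
  rw [show (tt W)⁻¹ * (A W (di r) * th W ^ j) * tt W =
    ((tt W)⁻¹ * (A W (di r) * tt W)) * ((tt W)⁻¹ * th W ^ j * tt W) by group, di_tt, inv_mul_cancel_left]
  refine mul_mem (di_mem_Tor W _) ?_
  induction j with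
  | zero => simp [one_mem]
  | succ j ih =>
    rw [pow_succ, show (tt W)⁻¹ * (th W ^ j * th W) * tt W =
      ((tt W)⁻¹ * th W ^ j * tt W) * ((tt W)⁻¹ * th W * tt W) by group, tt_th]
    exact mul_mem ih (mul_mem (di_mem_Tor W _) (th_mem_Tor W))

/-- The inverse of the first reflection up to the torus. -/
noncomputable def τ0 : P W := A W (di (-1))

theorem τ0_mem : τ0 W ∈ Tor W := di_mem_Tor W _

theorem tt_inv : (tt W)⁻¹ = tt W * τ0 W := by
  rw [inv_eq_iff_mul_eq_one, ← mul_assoc, tt_tt, τ0, ← map_mul, ← di_mul, neg_one_mul, neg_neg, di_one, map_one]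

theorem decomp_a {β : P W} (hβ : β ∈ Bor W) :
    ∃ x : F, ∃ r ∈ Bor W, (tt W)⁻¹ * r * tt W ∈ Bor W ∧ β = A W (lo x) * r := by
  obtain ⟨m, hm, x, τ, hτ, rfl⟩ := hβ
  refine ⟨x, (A W (lo x))⁻¹ * m * A W (lo x) * τ, ?_, ?_, by group⟩
  · rw [← map_inv, ← lo_neg]
    have := lo_M' W (-x) m hm
    rw [show (A W (lo (-x)))⁻¹ = A W (lo x) by rw [lo_neg, map_inv, inv_inv]] at this
    exact mul_mem (M'_le W this) (Tor_le W hτ)
  · have h1 : (tt W)⁻¹ * ((A W (lo x))⁻¹ * m * A W (lo x)) * tt W ∈ Bor W := by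
      rw [← map_inv, ← lo_neg]
      have := lo_M' W (-x) m hm
      rw [show (A W (lo (-x)))⁻¹ = A W (lo x) by rw [lo_neg, map_inv, inv_inv]] at this
      have h2 := tt_M' W _ (Tor_M' W (τ0_mem W) _ this)
      rw [show tt W * (τ0 W * (A W (lo (-x)) * m * A W (lo x)) * (τ0 W)⁻¹) * (tt W)⁻¹ =
        (tt W * τ0 W) * (A W (lo (-x)) * m * A W (lo x)) * (tt W * τ0 W)⁻¹ by group, ← tt_inv, inv_inv] at h2
      exact M'_le W h2
    rw [show (tt W)⁻¹ * ((A W (lo x))⁻¹ * m * A W (lo x) * τ) * tt W =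
      ((tt W)⁻¹ * ((A W (lo x))⁻¹ * m * A W (lo x)) * tt W) * ((tt W)⁻¹ * τ * tt W) by group]
    exact mul_mem h1 (Tor_le W (tt_conj_Tor W hτ))

theorem decomp_b {β : P W} (hβ : β ∈ Bor W) :
    ∃ c : M.K0, ∃ r ∈ Bor W, (n W)⁻¹ * r * n W ∈ Bor W ∧ β = z W c * r := by
  obtain ⟨_, ⟨a, b, y, rfl⟩, x, τ, hτ, rfl⟩ := hβ
  refine ⟨a, Z1 W b * B W y * A W (lo x) * τ,
    mul_mem (mul_mem (mul_mem (M'_le W (Z1_mem W b)) (M'_le W (B_mem W y))) (lo_mem W x)) (Tor_le W hτ), ?_,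
    by group⟩
  obtain ⟨N, hN⟩ := exists_nn W
  have h1 : (n W)⁻¹ * Z1 W b * n W = Z1 W b := by rw [mul_assoc, ← (n_Z1 W b).eq, inv_mul_cancel_left]
  have h2 : (n W)⁻¹ * B W y * n W = A W (lo y) := by rw [B]; group
  have h3 : (n W)⁻¹ * A W (lo x) * n W = (th W ^ N)⁻¹ * B W x * th W ^ N := by rw [← hN, B]; group
  rw [show (n W)⁻¹ * (Z1 W b * B W y * A W (lo x) * τ) * n W =
    ((n W)⁻¹ * Z1 W b * n W) * ((n W)⁻¹ * B W y * n W) * ((n W)⁻¹ * A W (lo x) * n W) * ((n W)⁻¹ * τ * n W)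
    by group, h1, h2, h3]
  exact mul_mem (mul_mem (mul_mem (M'_le W (Z1_mem W b)) (lo_mem W y))
    (mul_mem (mul_mem (inv_mem (Tor_le W (th_pow_mem_Tor W N))) (M'_le W (B_mem W x)))
      (Tor_le W (th_pow_mem_Tor W N)))) (Tor_le W (n_conj_Tor W hτ))

theorem asc_a {w : P W} (hw : ∀ x, w * A W (lo x) * w⁻¹ ∈ Bor W) {g : P W} (hg : g ∈ cell W w) :
    g * tt W ∈ cell W (w * tt W) := by
  obtain ⟨b, hb, b', hb', rfl⟩ := hg
  obtain ⟨x, r, -, hr', rfl⟩ := decomp_a W hb'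
  exact ⟨b * (w * A W (lo x) * w⁻¹), mul_mem hb (hw x), (tt W)⁻¹ * r * tt W, hr', by group⟩

theorem asc_b {w : P W} (hw : ∀ c, w * z W c * w⁻¹ ∈ Bor W) {g : P W} (hg : g ∈ cell W w) :
    g * n W ∈ cell W (w * n W) := by
  obtain ⟨b, hb, b', hb', rfl⟩ := hg
  obtain ⟨x, r, -, hr', rfl⟩ := decomp_b W hb'
  exact ⟨b * (w * z W x * w⁻¹), mul_mem hb (hw x), (n W)⁻¹ * r * n W, hr', by group⟩

theorem rank_a (x : F) : tt W * A W (lo x) * tt W ∈ Bor W ∨ tt W * A W (lo x) * tt W ∈ cell W (tt W) := by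
  rcases eq_or_ne x 0 with rfl | hx
  · refine Or.inl ?_
    rw [lo_zero, map_one, mul_one, tt_tt]
    exact Tor_le W (di_mem_Tor W _)
  · refine Or.inr ⟨A W (lo (-x⁻¹)) * A W (di (Units.mk0 x hx)),
      mul_mem (lo_mem W _) (Tor_le W (di_mem_Tor W _)), A W (lo (-x⁻¹)), lo_mem W _, ?_⟩
    have key : (we : SL2) * lo x * we = lo (-x⁻¹) * di (Units.mk0 x hx) * we * lo (-x⁻¹) := by
      refine Subtype.ext ?_
      show !![(0 : F), 1; -1, 0] * !![1, 0; x, 1] * !![0, 1; -1, 0] =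
        !![1, 0; (-x⁻¹), 1] * !![x, 0; 0, x⁻¹] * !![0, 1; -1, 0] * !![1, 0; (-x⁻¹), 1]
      simp only [Matrix.mul_fin_two]
      ext i j
      fin_cases i <;> fin_cases j <;> simp [hx]
    rw [tt, ← map_mul, ← map_mul, ← map_mul, ← map_mul, ← map_mul, key]

theorem rank_b (c : M.K0) : n W * z W c * n W ∈ Bor W ∨ n W * z W c * n W ∈ cell W (n W) := by
  obtain ⟨N, hN⟩ := exists_nn W
  rcases eq_or_ne c 0 with rfl | hc
  · refine Or.inl ?_
    rw [z_zero, mul_one, hN]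
    exact Tor_le W (th_pow_mem_Tor W N)
  · obtain ⟨j, hj⟩ := M.exists_ρ_pow c⁻¹ (inv_ne_zero hc)
    have e := powers W j
    rw [← hj, inv_inv] at e
    refine Or.inr ⟨(z W c⁻¹)⁻¹ * th W ^ j, mul_mem (inv_mem (M'_le W (z_mem W _)))
      (Tor_le W (th_pow_mem_Tor W j)), (z W c⁻¹)⁻¹ * (n W * n W), ?_, ?_⟩
    · exact mul_mem (inv_mem (M'_le W (z_mem W _))) (by rw [hN]; exact Tor_le W (th_pow_mem_Tor W N))
    · rw [show (z W c⁻¹)⁻¹ * th W ^ j * n W * ((z W c⁻¹)⁻¹ * (n W * n W)) =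
        (z W c⁻¹)⁻¹ * (th W ^ j * n W) * (z W c⁻¹)⁻¹ * (n W * n W) by group, ← e]
      group

theorem desc_a {w : P W} (hw : ∀ x, w * A W (lo x) * w⁻¹ ∈ Bor W) {g : P W} (hg : g ∈ cell W (w * tt W)) :
    g * tt W ∈ cell W w ∨ g * tt W ∈ cell W (w * tt W) := by
  obtain ⟨b, hb, b', hb', rfl⟩ := hg
  obtain ⟨x, r, -, hr', rfl⟩ := decomp_a W hb'
  have e : b * (w * tt W) * (A W (lo x) * r) * tt W =
      b * w * (tt W * A W (lo x) * tt W) * ((tt W)⁻¹ * r * tt W) := by group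
  rw [e]
  rcases rank_a W x with h | ⟨b1, hb1, b2, hb2, h⟩
  · exact Or.inl (cell_right W ⟨b, hb, _, h, rfl⟩ hr')
  · right
    rw [h, show b * w * (b1 * tt W * b2) * ((tt W)⁻¹ * r * tt W) =
      (b * w * b1) * tt W * (b2 * ((tt W)⁻¹ * r * tt W)) by group]
    exact cell_right W (asc_a W hw ⟨b, hb, b1, hb1, rfl⟩) (mul_mem hb2 hr')

theorem desc_b {w : P W} (hw : ∀ c, w * z W c * w⁻¹ ∈ Bor W) {g : P W} (hg : g ∈ cell W (w * n W)) :
    g * n W ∈ cell W w ∨ g * n W ∈ cell W (w * n W) := by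
  obtain ⟨b, hb, b', hb', rfl⟩ := hg
  obtain ⟨x, r, -, hr', rfl⟩ := decomp_b W hb'
  have e : b * (w * n W) * (z W x * r) * n W =
      b * w * (n W * z W x * n W) * ((n W)⁻¹ * r * n W) := by group
  rw [e]
  rcases rank_b W x with h | ⟨b1, hb1, b2, hb2, h⟩
  · exact Or.inl (cell_right W ⟨b, hb, _, h, rfl⟩ hr')
  · right
    rw [h, show b * w * (b1 * n W * b2) * ((n W)⁻¹ * r * n W) =
      (b * w * b1) * n W * (b2 * ((n W)⁻¹ * r * n W)) by group]
    exact cell_right W (asc_b W hw ⟨b, hb, b1, hb1, rfl⟩) (mul_mem hb2 hr')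

/-- The representatives. -/
noncomputable def rep : Fin 8 → P W :=
  ![1, tt W, n W, tt W * n W, n W * tt W, tt W * n W * tt W, n W * tt W * n W, tt W * n W * tt W * n W]

/-- The union of the cells. -/
def S : Set (P W) := {g | ∃ i, g ∈ cell W (rep W i)}

theorem S_right {g β : P W} (hg : g ∈ S W) (hβ : β ∈ Bor W) : g * β ∈ S W :=
  hg.imp fun _ hi => cell_right W hi hβ

theorem braid : ∃ τ ∈ Bor W, n W * tt W * n W * tt W = tt W * n W * tt W * n W * τ := by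
  have hrel : Commute (n W) (tt W * n W * (tt W)⁻¹) := by
    have := pmk_single W (r := cmw nL (tw W * nL * (tw W)⁻¹)) (by simp [single])
    rwa [map_cmw, cmw_eq_one, map_mul, map_mul, map_inv, tw, pmk_aw] at this
  refine ⟨((n W)⁻¹ * τ0 W * n W) * (τ0 W)⁻¹,
    mul_mem (Tor_le W (n_conj_Tor W (τ0_mem W))) (inv_mem (Tor_le W (τ0_mem W))), ?_⟩
  have e := hrel.eq
  rw [tt_inv] at e
  calc n W * tt W * n W * tt W = n W * (tt W * n W * (tt W * τ0 W)) * (τ0 W)⁻¹ := by group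
    _ = tt W * n W * (tt W * τ0 W) * n W * (τ0 W)⁻¹ := by rw [e]
    _ = _ := by group

theorem asc_a_facts (x : F) : (1 : P W) * A W (lo x) * 1⁻¹ ∈ Bor W ∧ n W * A W (lo x) * (n W)⁻¹ ∈ Bor W ∧
    tt W * n W * A W (lo x) * (tt W * n W)⁻¹ ∈ Bor W ∧
    n W * tt W * n W * A W (lo x) * (n W * tt W * n W)⁻¹ ∈ Bor W := by
  obtain ⟨N, hN⟩ := exists_nn W
  have hnn : ∀ y, n W * B W y * (n W)⁻¹ ∈ Bor W := fun y => by
    rw [B, show n W * (n W * A W (lo y) * (n W)⁻¹) * (n W)⁻¹ = (n W * n W) * A W (lo y) * (n W * n W)⁻¹ by group, hN]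
    exact mul_mem (mul_mem (Tor_le W (th_pow_mem_Tor W N)) (lo_mem W y)) (inv_mem (Tor_le W (th_pow_mem_Tor W N)))
  refine ⟨by simpa using lo_mem W x, M'_le W (B_mem W x), ?_, ?_⟩
  · rw [show tt W * n W * A W (lo x) * (tt W * n W)⁻¹ = tt W * (n W * A W (lo x) * (n W)⁻¹) * (tt W)⁻¹ by group,
      ← B, tt_B]
    exact M'_le W (B_mem W _)
  · rw [show n W * tt W * n W * A W (lo x) * (n W * tt W * n W)⁻¹ =
      n W * (tt W * (n W * A W (lo x) * (n W)⁻¹) * (tt W)⁻¹) * (n W)⁻¹ by group, ← B, tt_B]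
    exact hnn _

theorem asc_b_facts (c : M.K0) : (1 : P W) * z W c * 1⁻¹ ∈ Bor W ∧ tt W * z W c * (tt W)⁻¹ ∈ Bor W ∧
    n W * tt W * z W c * (n W * tt W)⁻¹ ∈ Bor W ∧
    tt W * n W * tt W * z W c * (tt W * n W * tt W)⁻¹ ∈ Bor W := by
  have e1 : n W * tt W * z W c * (n W * tt W)⁻¹ = Z1 W c := by
    rw [show n W * tt W * z W c * (n W * tt W)⁻¹ = n W * Z1 W c * (n W)⁻¹ by rw [Z1]; group,
      (n_Z1 W c).eq, mul_inv_cancel_right]
  refine ⟨by simpa using M'_le W (z_mem W c), M'_le W (Z1_mem W c), by rw [e1]; exact M'_le W (Z1_mem W c), ?_⟩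
  rw [show tt W * n W * tt W * z W c * (tt W * n W * tt W)⁻¹ =
    tt W * (n W * tt W * z W c * (n W * tt W)⁻¹) * (tt W)⁻¹ by group, e1, tt_Z1]
  exact M'_le W (z_mem W c)

theorem S_tt {g : P W} (hg : g ∈ S W) : g * tt W ∈ S W := by
  obtain ⟨τ, hτ, hbr⟩ := braid W
  have f0 := fun x => (asc_a_facts W x).1
  have f2 := fun x => (asc_a_facts W x).2.1
  have f3 := fun x => (asc_a_facts W x).2.2.1
  have f6 := fun x => (asc_a_facts W x).2.2.2
  have to7 : ∀ g : P W, g ∈ cell W (n W * tt W * n W * tt W) → g ∈ cell W (tt W * n W * tt W * n W) :=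
    fun g hg => cell_mul W hτ (by rwa [← hbr])
  have from7 : ∀ g : P W, g ∈ cell W (tt W * n W * tt W * n W) → g ∈ cell W (n W * tt W * n W * tt W) :=
    fun g hg => cell_mul W (inv_mem hτ) (by rwa [hbr, mul_inv_cancel_right])
  obtain ⟨i, hi⟩ := hg
  fin_cases i
  · exact ⟨1, by simpa [rep] using asc_a W f0 hi⟩
  · rcases desc_a W f0 (show g ∈ cell W (1 * tt W) by simpa [rep] using hi) with h | h
    · exact ⟨0, by simpa [rep] using h⟩
    · exact ⟨1, by simpa [rep] using h⟩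
  · exact ⟨4, by simpa [rep] using asc_a W f2 hi⟩
  · exact ⟨5, by simpa [rep] using asc_a W f3 hi⟩
  · rcases desc_a W f2 (show g ∈ cell W (n W * tt W) by simpa [rep] using hi) with h | h
    · exact ⟨2, by simpa [rep] using h⟩
    · exact ⟨4, by simpa [rep] using h⟩
  · rcases desc_a W f3 (show g ∈ cell W (tt W * n W * tt W) by simpa [rep] using hi) with h | h
    · exact ⟨3, by simpa [rep] using h⟩
    · exact ⟨5, by simpa [rep] using h⟩
  · exact ⟨7, by simpa [rep] using to7 _ (asc_a W f6 (show g ∈ cell W (n W * tt W * n W) by simpa [rep] using hi))⟩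
  · rcases desc_a W f6 (from7 g (by simpa [rep] using hi)) with h | h
    · exact ⟨6, by simpa [rep] using h⟩
    · exact ⟨7, by simpa [rep] using to7 _ h⟩

theorem S_n {g : P W} (hg : g ∈ S W) : g * n W ∈ S W := by
  have f0 := fun x => (asc_b_facts W x).1
  have f1 := fun x => (asc_b_facts W x).2.1
  have f4 := fun x => (asc_b_facts W x).2.2.1
  have f5 := fun x => (asc_b_facts W x).2.2.2
  obtain ⟨i, hi⟩ := hg
  fin_cases i
  · exact ⟨2, by simpa [rep] using asc_b W f0 hi⟩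
  · exact ⟨3, by simpa [rep] using asc_b W f1 hi⟩
  · rcases desc_b W f0 (show g ∈ cell W (1 * n W) by simpa [rep] using hi) with h | h
    · exact ⟨0, by simpa [rep] using h⟩
    · exact ⟨2, by simpa [rep] using h⟩
  · rcases desc_b W f1 (show g ∈ cell W (tt W * n W) by simpa [rep] using hi) with h | h
    · exact ⟨1, by simpa [rep] using h⟩
    · exact ⟨3, by simpa [rep] using h⟩
  · exact ⟨6, by simpa [rep] using asc_b W f4 hi⟩
  · exact ⟨7, by simpa [rep] using asc_b W f5 hi⟩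
  · rcases desc_b W f4 (show g ∈ cell W (n W * tt W * n W) by simpa [rep] using hi) with h | h
    · exact ⟨4, by simpa [rep] using h⟩
    · exact ⟨6, by simpa [rep] using h⟩
  · rcases desc_b W f5 (show g ∈ cell W (tt W * n W * tt W * n W) by simpa [rep] using hi) with h | h
    · exact ⟨5, by simpa [rep] using h⟩
    · exact ⟨7, by simpa [rep] using h⟩

theorem A_mem_closure (s : SL2) : A W s ∈ Subgroup.closure ((Bor W : Set (P W)) ∪ {tt W, n W}) := by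
  set K := Subgroup.closure ((Bor W : Set (P W)) ∪ {tt W, n W}) with hK
  have ht : tt W ∈ K := Subgroup.subset_closure (Or.inr (Or.inl rfl))
  have hlo : ∀ a, A W (lo a) ∈ K := fun a => Subgroup.subset_closure (Or.inl (lo_mem W a))
  have hup : ∀ a, A W (up a) ∈ K := fun a => by
    have e : A W (up a) = (tt W)⁻¹ * A W (lo (-a)) * tt W := by
      rw [tt, ← we_up, map_mul, map_mul, map_inv]; group
    rw [e]
    exact mul_mem (mul_mem (inv_mem ht) (hlo _)) ht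
  have : K.comap (A W) = ⊤ := Cfsg.Agent.S2286.closure_eq_top _ hup ht
  exact this.ge (Subgroup.mem_top s)

theorem S_all (g : P W) : g ∈ S W := by
  have hgen : Subgroup.closure ((Bor W : Set (P W)) ∪ {tt W, n W}) = ⊤ := by
    rw [eq_top_iff, ← PresentedGroup.closure_range_of, Subgroup.closure_le]
    rintro _ ⟨k, rfl⟩
    rcases k with k | k
    · have : PresentedGroup.of (rels := {r | r ∈ rels W}) (Sum.inl k) = A W (W.x2 k) := ((exists_A W).choose_spec k).symm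
      rw [this]
      exact A_mem_closure W _
    · fin_cases k
      · show pmk W zL ∈ _
        rw [← z_one]
        exact Subgroup.subset_closure (Or.inl (M'_le W (z_mem W 1)))
      · exact Subgroup.subset_closure (Or.inr (Or.inr rfl))
  have hg : g ∈ Subgroup.closure ((Bor W : Set (P W)) ∪ {tt W, n W}) := hgen ▸ Subgroup.mem_top g
  obtain ⟨N, hN⟩ := exists_nn W
  induction hg using Subgroup.closure_induction_right with
  | one => exact ⟨0, 1, one_mem _, 1, one_mem _, by simp [rep]⟩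
  | mul_right x _ y hy ih =>
    rcases hy with hy | rfl | rfl
    · exact S_right W ih hy
    · exact S_tt W ih
    · exact S_n W ih
  | mul_inv_cancel x _ y hy ih =>
    rcases hy with hy | rfl | rfl
    · exact S_right W ih (inv_mem hy)
    · rw [tt_inv, ← mul_assoc]
      exact S_right W (S_tt W ih) (Tor_le W (τ0_mem W))
    · rw [show (n W)⁻¹ = n W * (th W ^ N)⁻¹ by rw [← hN]; group, ← mul_assoc]
      exact S_right W (S_n W ih) (inv_mem (Tor_le W (th_pow_mem_Tor W N)))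

theorem π_injective : Function.Injective (π W) := by
  refine (injective_iff_map_eq_one _).2 fun g hg => ?_
  obtain ⟨i, b, hb, b', hb', rfl⟩ := S_all W g
  have hw : π W (rep W i) = π W (b⁻¹ * b'⁻¹) := by
    rw [map_mul, map_mul] at hg
    rw [map_mul, map_inv, map_inv]
    calc π W (rep W i) = (π W b)⁻¹ * (π W b * π W (rep W i) * π W b') * (π W b')⁻¹ := by group
      _ = _ := by rw [hg, mul_one]
  obtain ⟨⟨c, hc⟩, a, d, ha⟩ := Bor_E W (mul_mem (inv_mem hb) (inv_mem hb'))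
  rw [← hw] at hc ha
  obtain ⟨p1, p2, p3, p4, p5, p6, p7, p8⟩ := M.h00
  obtain ⟨r1, r2, r3, r4, r5, r6, r7, r8⟩ := M.h01
  have hδ := M.hδ0
  fin_cases i
  · refine inj_Bor W ?_ hg
    exact mul_mem (mul_mem hb (by simp [rep, one_mem])) hb'
  all_goals exfalso
  · simp [rep, tt, π_A, M.we_E1] at hc
    have := congrArg (fun v => h₄ v M.G0) hc
    simp [h_smul_left, r1, r3] at this
  · simp [rep, π_n, M.nn_E0] at ha
    have := congrArg (fun v => h₄ v M.E0) ha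
    simp [h_add_left, h_smul_left, r5, p1, p3, hδ] at this
    simp [← neg_smul, h_smul_left, r5, hδ] at this
  · simp [rep, tt, π_A, π_n, mat_mul, ← mulVec_mulVec, M.nn_E1, M.we_E1] at hc
    have := congrArg (fun v => h₄ v M.G0) hc
    simp [h_smul_left, r1, r3] at this
  · simp [rep, tt, π_A, π_n, mat_mul, ← mulVec_mulVec, M.we_E1, M.nn_E0] at hc
    rw [← neg_smul] at hc
    have := congrArg (fun v => h₄ v M.E0) hc
    simp only [h_smul_left, r5, p3, mul_one, mul_zero] at this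
    simp [hδ] at this
  · simp [rep, tt, π_A, π_n, mat_mul, ← mulVec_mulVec, M.we_E1, M.nn_E0, mulVec_smul, mulVec_neg, M.we_G0] at hc
    have := congrArg (fun v => h₄ v M.E1) hc
    simp [h_smul_left, r8, p4, hδ] at this
  · simp [rep, tt, π_A, π_n, mat_mul, ← mulVec_mulVec, M.nn_E1, M.we_E1, M.nn_E0] at hc
    rw [← neg_smul] at hc
    have := congrArg (fun v => h₄ v M.E0) hc
    simp only [h_smul_left, r5, p3, mul_one, mul_zero] at this
    simp [hδ] at this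
  · simp [rep, tt, π_A, π_n, mat_mul, ← mulVec_mulVec, M.nn_E1, M.we_E1, M.nn_E0, mulVec_smul, mulVec_neg,
      M.we_G0] at hc
    have := congrArg (fun v => h₄ v M.E1) hc
    simp [h_smul_left, r8, p4, hδ] at this

theorem AM_mem_range (s : SL2) : M.AM s ∈ (π W).range := ⟨_, π_A W s⟩

theorem move_isotropic {v : Fin 4 → F} (hv0 : v ≠ 0) (hv : h₄ v v = 0) :
    ∃ g ∈ (π W).range, ∃ c : F, mat g *ᵥ v = c • M.E0 := by
  have hSL : ∀ a b : F, (a ≠ 0 ∨ b ≠ 0) → ∃ s : SL2, s.1 0 0 = a ∧ s.1 1 0 = b := by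
    intro a b hab
    by_cases ha : a = 0
    · have hb : b ≠ 0 := hab.resolve_left (fun h => h ha)
      exact ⟨⟨!![a, -b⁻¹; b, 0], by simp [Matrix.det_fin_two, hb]⟩, rfl, rfl⟩
    · exact ⟨⟨!![a, 0; b, a⁻¹], by simp [Matrix.det_fin_two, ha]⟩, rfl, rfl⟩
  set a0 := h₄ v M.G0 with ha0
  set a1 := h₄ v M.G1 with ha1
  set b0 := h₄ v M.E0 with hb0
  set b1 := h₄ v M.E1 with hb1
  have hv' : v = a0 • M.E0 + a1 • M.E1 + b0 • M.G0 + b1 • M.G1 := M.expand4 v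
  by_cases hb : b0 = 0 ∧ b1 = 0
  · have hab : a0 ≠ 0 ∨ a1 ≠ 0 := by
      by_contra hcon
      push Not at hcon
      exact hv0 (by rw [hv', hcon.1, hcon.2, hb.1, hb.2]; simp)
    obtain ⟨s, hs0, hs1⟩ := hSL a0 a1 hab
    refine ⟨(M.AM s)⁻¹, inv_mem (AM_mem_range W s), 1, ?_⟩
    have e : v = mat (M.AM s) *ᵥ M.E0 := by rw [M.AM_E0, hs0, hs1, hv', hb.1, hb.2]; simp
    rw [e, mat_inv_mulVec', one_smul]
  · -- straighten the second half
    have hb' : b0 ≠ 0 ∨ b1 ≠ 0 := by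
      by_contra hcon
      push Not at hcon
      exact hb hcon
    obtain ⟨t, ht0, ht1⟩ := hSL (σ b0) (σ b1) (hb'.imp (fun h => by simpa using h) (fun h => by simpa using h))
    let s : SL2 := ⟨!![t.1 1 1, -t.1 1 0; -t.1 0 1, t.1 0 0], by
      have := t.2
      rw [Matrix.det_fin_two] at this
      simp [Matrix.det_fin_two]
      linear_combination this⟩
    have hs : mat (M.AM s) *ᵥ M.G0 = b0 • M.G0 + b1 • M.G1 := by
      rw [M.AM_G0]
      simp [s, ht0, ht1, frob_frob]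
    set v' := mat (M.AM s)⁻¹ *ᵥ v with hv'def
    obtain ⟨α0, α1, hα⟩ : ∃ α0 α1 : F, v' = M.G0 + α0 • M.E0 + α1 • M.E1 := by
      have hinv : ∀ a b : F, ∃ x y : F, mat (M.AM s)⁻¹ *ᵥ (a • M.E0 + b • M.E1) = x • M.E0 + y • M.E1 := by
        intro a b
        rw [← map_inv, mulVec_add, mulVec_smul, mulVec_smul, M.AM_E0, M.AM_E1]
        exact ⟨a * (s⁻¹).1 0 0 + b * (s⁻¹).1 0 1, a * (s⁻¹).1 1 0 + b * (s⁻¹).1 1 1, by module⟩
      obtain ⟨x, y, hxy⟩ := hinv a0 a1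
      refine ⟨x, y, ?_⟩
      rw [hv'def, hv', show a0 • M.E0 + a1 • M.E1 + b0 • M.G0 + b1 • M.G1 =
        (a0 • M.E0 + a1 • M.E1) + mat (M.AM s) *ᵥ M.G0 by rw [hs]; abel, mulVec_add, hxy, mat_inv_mulVec']
      abel
    obtain ⟨p1, p2, p3, p4, p5, p6, p7, p8⟩ := M.h00
    obtain ⟨r1, r2, r3, r4, r5, r6, r7, r8⟩ := M.h01
    have hskew : α0 + σ α0 = 0 := by
      have h1 : h₄ v' v' = 0 := by rw [hv'def, su_h]; exact hv
      rw [hα] at h1
      simp [h_add_left, h_add_right M.hF, h_smul_left, h_smul_right M.hF, p1, p2, p3, p4, p5, r1, r3, r5, r6] at h1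
      linear_combination h1
    have hc0 : -α0 / M.δ ∈ F0 M.hF := by
      rw [mem_F0, map_div₀, map_neg, M.hδ, eq_neg_of_add_eq_zero_right hskew, neg_neg, neg_div, div_neg]
    refine ⟨M.nn * M.BM (α1 / M.δ) * M.ZM (Multiplicative.ofAdd (⟨_, hc0⟩ : M.K0)) * (M.AM s)⁻¹,
      mul_mem (mul_mem (mul_mem ⟨_, π_n W⟩ ⟨_, π_B W _⟩) ⟨_, π_z W _⟩) (inv_mem (AM_mem_range W s)), M.δ, ?_⟩
    have hd := M.hδ0
    simp only [mat_mul, ← mulVec_mulVec, ← hv'def, hα, mulVec_add, mulVec_smul, M.ZM_G0, M.ZM_E0, M.ZM_E1,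
      M.BM_G0, M.BM_E0, M.BM_E1, M.nn_G0, M.nn_E0, M.nn_E1]
    match_scalars <;> field_simp <;> ring

theorem π_surjective : Function.Surjective (π W) := by
  rw [← MonoidHom.range_eq_top, eq_top_iff, ← generated M.hF (n := 4) (by norm_num) (by omega), Subgroup.closure_le]
  rintro g ⟨v, c, hv, hg⟩
  by_cases hv0 : v = 0
  · have : g = 1 := su_ext fun x => by rw [hg, hv0, tmat_zero, mat_one, one_mulVec]
    rw [this]; exact one_mem _
  have hc : c + σ c = 0 := skew_of_tmat M.hF hv hv0 fun a b => by rw [← hg]; exact su_h g a b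
  have hg' : g = tv M.hF v hv c hc := su_ext fun x => by rw [hg]; rfl
  obtain ⟨g₀, hg₀, l, hl⟩ := move_isotropic W hv0 hv
  have hcc : σ (c * (l * σ l) / M.δ) = c * (l * σ l) / M.δ := by
    rw [map_div₀, map_mul, map_mul, frob_frob, M.hδ, eq_neg_of_add_eq_zero_right hc]
    ring
  have e : g₀ * g * g₀⁻¹ = M.ZM (Multiplicative.ofAdd (⟨_, hcc⟩ : M.K0)) := by
    rw [hg', conj_tv]
    refine su_ext fun x => ?_
    rw [tv_mulVec, M.ZM_mulVec, hl, h_smul_right M.hF, smul_smul]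
    congr 2
    have := M.hδ0
    field_simp
  have : g = g₀⁻¹ * M.ZM (Multiplicative.ofAdd (⟨_, hcc⟩ : M.K0)) * g₀ := by rw [← e]; group
  rw [this]
  exact mul_mem (mul_mem (inv_mem hg₀) ⟨_, π_z W _⟩) hg₀

theorem exists_iso : ∃ e : P W ≃* Cfsg.SU 4 F q, ∀ k, e (PresentedGroup.of k) = gens W k :=
  ⟨MulEquiv.ofBijective (π W) ⟨π_injective W, π_surjective W⟩, fun _ => PresentedGroup.toGroup.of (holds W)⟩

end Four

theorem exists_su4_presentation {K : Type} [Field K] [Fintype K] {q : ℕ} (hK : Fintype.card K = q ^ 2) :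
    ∃ (x : Fin 5 → Cfsg.SU 4 K q) (rels : Finset (FreeGroup (Fin 5))),
      rels.card ≤ 26 ∧ (CharP K 2 → rels.card ≤ 20) ∧ Presents rels x := by
  obtain ⟨M⟩ := exists_four hK
  obtain ⟨W⟩ := exists_fourData M
  obtain ⟨e, he⟩ := Four.exists_iso W
  obtain ⟨x, rels, hc, hP⟩ := CfsgLib.SLShort.presents_of_list (finSumFinEquiv : L4 ≃ Fin 5) (Four.rels W)
    (Four.gens W) ⟨e, he⟩
  exact ⟨x, rels, hc.trans (Four.length_rels W).1, fun h2 => hc.trans ((Four.length_rels W).2 h2), hP⟩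

end CfsgLib.SUShort
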