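import Cfsg.Agent.Lib.SUShort.FourRels

/-!
# Consequences of the relators for `SU₄(q)`: the abelian unipotent subgroup and its normalisers
-/

set_option autoImplicit false
set_option linter.unusedSectionVars false

namespace CfsgLib.SUShort

open Matrix Polynomial CfsgLib.UnitaryTransvection CfsgLib.UnitarySimple CfsgLib.TwoGenCl.Unit
open CfsgLib.SL2Pres (cj ev map_cj map_ev ev_eq_hom IsModuleRels powers_relations half_power)
open CfsgLib.ShortPres (Presents exists_word)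

variable {F : Type} [Field F] [Fintype F] {q : ℕ}

/-- The elements carried into a subgroup by conjugation form a multiplicative family. -/
theorem conj_chain {G : Type*} [Group G] {K : Subgroup G} {a b : G} (ha : ∀ x ∈ K, a * x * a⁻¹ ∈ K)
    (hb : ∀ x ∈ K, b * x * b⁻¹ ∈ K) : ∀ x ∈ K, a * b * x * (a * b)⁻¹ ∈ K := fun x hx => by
  rw [show a * b * x * (a * b)⁻¹ = a * (b * x * b⁻¹) * a⁻¹ by group]
  exact ha _ (hb x hx)

/-- Powers. -/
theorem conj_chain_pow {G : Type*} [Group G] {K : Subgroup G} {a : G} (ha : ∀ x ∈ K, a * x * a⁻¹ ∈ K) (n : ℕ) :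
    ∀ x ∈ K, a ^ n * x * (a ^ n)⁻¹ ∈ K := by
  induction n with
  | zero => intro x hx; simpa using hx
  | succ n ih => rw [pow_succ]; exact conj_chain ih ha

namespace Four

variable {M : Four F q} (W : FourData M)

local notation "σ" => frob M.hF
local notation "SL2" => Matrix.SpecialLinearGroup (Fin 2) F

/-! ### Facts about the matrices -/

/-- The diagonal matrices as a homomorphism. -/
def diH : Fˣ →* SL2 :=
  MonoidHom.mk' di fun r s => by
    refine Subtype.ext ?_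
    show !![((r * s : Fˣ) : F), 0; 0, ((r * s : Fˣ) : F)⁻¹] =
      !![(r : F), 0; 0, (r : F)⁻¹] * !![(s : F), 0; 0, (s : F)⁻¹]
    simp [Matrix.mul_fin_two, mul_comm]

theorem di_mul (r s : Fˣ) : di (r * s) = di r * di s := map_mul (diH (F := F)) r s

theorem di_one : di (1 : Fˣ) = 1 := map_one (diH (F := F))

theorem di_pow (r : Fˣ) (n : ℕ) : di (r ^ n) = di r ^ n := map_pow (diH (F := F)) r n

theorem di_inv (r : Fˣ) : di r⁻¹ = (di r)⁻¹ := map_inv (diH (F := F)) r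

/-- Lower unitriangular matrices as a homomorphism. -/
def loH : Multiplicative F →* SL2 :=
  MonoidHom.mk' (fun a => lo (Multiplicative.toAdd a)) fun a b => by
    refine Subtype.ext ?_
    show !![1, 0; Multiplicative.toAdd a + Multiplicative.toAdd b, 1] =
      !![1, 0; Multiplicative.toAdd a, 1] * !![1, 0; Multiplicative.toAdd b, 1]
    simp [Matrix.mul_fin_two]

theorem lo_add (a b : F) : lo (a + b) = lo a * lo b :=
  map_mul (loH (F := F)) (Multiplicative.ofAdd a) (Multiplicative.ofAdd b)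

theorem lo_zero : lo (0 : F) = 1 := map_one (loH (F := F))

theorem lo_neg (a : F) : lo (-a) = (lo a)⁻¹ := map_inv (loH (F := F)) (Multiplicative.ofAdd a)

theorem di_up (r : Fˣ) (a : F) : di r * up a * (di r)⁻¹ = up ((r : F) * r * a) :=
  Cfsg.Agent.S2286.conj_xHom _ _ a

theorem we_di (r : Fˣ) : we * di r = di r⁻¹ * we := by
  rw [di_inv]
  exact mul_inv_eq_iff_eq_mul.1 (Cfsg.Agent.S2286.weyl_inverts _ _)

theorem di_we (r : Fˣ) : di r * we = we * di r⁻¹ := by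
  have h := we_di r⁻¹
  rw [inv_inv] at h
  exact h.symm

theorem we_up (a : F) : we * up a * we⁻¹ = lo (-a) := by
  refine Subtype.ext ?_
  simp only [we, up, Matrix.SpecialLinearGroup.coe_mul, Cfsg.Agent.S2286.coe_inv_wEl, Cfsg.Agent.S2286.coe_xHom]
  show !![0, 1; -1, 0] * !![1, a; 0, 1] * !![0, -1; 1, 0] = !![1, 0; -a, 1]
  simp [Matrix.mul_fin_two]

theorem di_lo (r : Fˣ) (a : F) : di r * lo a * (di r)⁻¹ = lo (a / ((r : F) * r)) := by
  have h0 := r.ne_zero
  rw [mul_inv_eq_iff_eq_mul]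
  refine Subtype.ext ?_
  show !![(r : F), 0; 0, (r : F)⁻¹] * !![1, 0; a, 1] = !![1, 0; a / ((r : F) * r), 1] * !![(r : F), 0; 0, (r : F)⁻¹]
  simp only [Matrix.mul_fin_two]
  ext i j
  fin_cases i <;> fin_cases j <;> simp
  field_simp

theorem we_we : we * we = di (-1 : Fˣ) := by
  refine Subtype.ext ?_
  show !![(0 : F), 1; -1, 0] * !![0, 1; -1, 0] = !![((-1 : Fˣ) : F), 0; 0, (((-1 : Fˣ) : F))⁻¹]
  simp [Matrix.mul_fin_two]

theorem θ_di (r : Fˣ) : M.θ (di r) = di r := by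
  refine Subtype.ext ?_
  show !![(r : F), M.ρ * 0; M.ρ⁻¹ * 0, ((r : F))⁻¹] = !![(r : F), 0; 0, ((r : F))⁻¹]
  simp

theorem θ_up (a : F) : M.θ (up a) = up (M.ρ * a) := by
  refine Subtype.ext ?_
  rw [θ_val, up, up, Cfsg.Agent.S2286.coe_xHom, Cfsg.Agent.S2286.coe_xHom]
  simp

theorem θ_lo (a : F) : M.θ (lo a) = lo (M.ρ⁻¹ * a) := by
  refine Subtype.ext ?_
  show !![(1 : F), M.ρ * 0; M.ρ⁻¹ * a, 1] = !![1, 0; M.ρ⁻¹ * a, 1]
  simp

/-- The generator of the fixed field as a unit. -/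
noncomputable def ρu (M : Four F q) : Fˣ := Units.mk0 M.ρ M.ρ_ne

theorem θ_we : M.θ we = di (ρu M) * we := by
  refine Subtype.ext ?_
  show !![(0 : F), M.ρ * 1; M.ρ⁻¹ * -1, 0] = !![M.ρ, 0; 0, M.ρ⁻¹] * !![(0 : F), 1; -1, 0]
  simp [Matrix.mul_fin_two]

theorem nrm_mul (x y : F) : M.nrm (x * y) = M.nrm x * M.nrm y :=
  Subtype.ext (by simp [nrm_val]; ring)

theorem nrm_ρu_pow (m : ℕ) : M.nrm (((ρu M) ^ m : Fˣ) : F) = M.ρ₀ ^ (2 * m) := by
  refine Subtype.ext ?_
  rw [nrm_val, SubmonoidClass.coe_pow, ρ₀_val, Units.val_pow_eq_pow_val, map_pow]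
  show M.ρ ^ m * σ M.ρ ^ m = _
  rw [M.ρ_fix, two_mul, pow_add]

theorem nrm_inv (x : F) : M.nrm x⁻¹ = (M.nrm x)⁻¹ :=
  Subtype.ext (by simp [nrm_val, mul_comm])

/-! ### The abstract group and its elements -/

/-- The group given by the relators. -/
abbrev P : Type := PresentedGroup {r | r ∈ rels W}

/-- The projection from words. -/
noncomputable def pmk : FreeGroup L4 →* P W := PresentedGroup.mk _

theorem pmk_rel {r : FreeGroup L4} (hr : r ∈ rels W) : pmk W r = 1 := PresentedGroup.one_of_mem hr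

theorem pmk_single {r : FreeGroup L4} (hr : r ∈ single W) : pmk W r = 1 :=
  pmk_rel W (List.mem_append_right _ hr)

/-- The standard map. -/
noncomputable def π : P W →* Cfsg.SU 4 F q := PresentedGroup.toGroup (f := gens W) (holds W)

theorem π_mk (w : FreeGroup L4) : π W (pmk W w) = ev4 W w := rfl

theorem exists_A : ∃ ψ : SL2 →* P W, ∀ k, ψ (W.x2 k) = pmk W (FreeGroup.of (Sum.inl k)) := by
  refine W.hP2.exists_hom _ fun r hr => ?_
  have e : FreeGroup.lift (fun k => pmk W (FreeGroup.of (Sum.inl k))) = (pmk W).comp (FreeGroup.map Sum.inl) := by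
    ext k; simp
  rw [e]
  exact pmk_rel W (List.mem_append_left _ (List.mem_append_left _
    (List.mem_map_of_mem (Finset.mem_toList.2 hr))))

/-- The image of `SL₂`. -/
noncomputable def A : SL2 →* P W := (exists_A W).choose

theorem pmk_aw (s : SL2) : pmk W (aw W s) = A W s := by
  have e : (pmk W).comp (FreeGroup.map Sum.inl) = (A W).comp (FreeGroup.lift W.x2) := by
    ext k
    simp [A, (exists_A W).choose_spec k]
  have h := DFunLike.congr_fun e (exists_word W.hP2.gen s).choose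
  rw [MonoidHom.comp_apply, MonoidHom.comp_apply, (exists_word W.hP2.gen s).choose_spec] at h
  exact h

theorem π_A (s : SL2) : π W (A W s) = M.AM s := by rw [← pmk_aw, π_mk, ev4_aw]

/-- The torus element of `SL₂`. -/
noncomputable def h : P W := A W (di M.ω)

/-- The reflection. -/
noncomputable def n : P W := pmk W nL

/-- The Weyl element of `SL₂`. -/
noncomputable def tt : P W := A W we

theorem π_n : π W (n W) = M.nn := by rw [n, π_mk, ev4_nL]

theorem exists_ψ : ∃ φ : Multiplicative M.K0 →* P W, φ (Multiplicative.ofAdd 1) = pmk W zL ∧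
    ∀ a, h W * φ (Multiplicative.ofAdd a) * (h W)⁻¹ = φ (Multiplicative.ofAdd (M.ρ₀ * a)) := by
  obtain ⟨φ, h1, h2⟩ := W.hR₀.1 (P W) ((pmk W).comp (ι4 W)) fun w hw => pmk_rel W
    (List.mem_append_left _ (List.mem_append_right _ (List.mem_map_of_mem hw)))
  rw [MonoidHom.comp_apply, show ι4 W CfsgLib.SL2Pres.U = zL by simp [ι4, CfsgLib.SL2Pres.U]] at h1
  rw [MonoidHom.comp_apply, show ι4 W CfsgLib.SL2Pres.H = hw W by simp [ι4, CfsgLib.SL2Pres.H], hw, pmk_aw] at h2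
  exact ⟨φ, h1, h2⟩

/-- The long root elements. -/
noncomputable def ψ : Multiplicative M.K0 →* P W := (exists_ψ W).choose

/-- The long root element of a scalar. -/
noncomputable def z (c : M.K0) : P W := ψ W (Multiplicative.ofAdd c)

theorem z_one : z W 1 = pmk W zL := (exists_ψ W).choose_spec.1

theorem h_z (c : M.K0) : h W * z W c * (h W)⁻¹ = z W (M.ρ₀ * c) := (exists_ψ W).choose_spec.2 c

theorem z_add (a b : M.K0) : z W (a + b) = z W a * z W b := map_mul (ψ W) _ _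

theorem z_zero : z W 0 = 1 := map_one (ψ W)

theorem z_neg (a : M.K0) : z W (-a) = (z W a)⁻¹ := map_inv (ψ W) _

theorem pmk_zW (c : M.K0) : pmk W (zW W c) = z W c := by
  rw [zW, map_ev, hw, pmk_aw, ← h, ← z_one, z, ev_eq_hom (ψ W) M.ρ₀ _ (h_z W), pow_one,
    (M.exists_ρ_poly c).choose_spec]
  rfl

theorem π_z (c : M.K0) : π W (z W c) = M.ZM (Multiplicative.ofAdd c) := by rw [← pmk_zW, π_mk, ev4_zW]

/-- The second torus element. -/
noncomputable def th : P W := pmk W (thw W)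

theorem π_th : π W (th W) = M.hat := by rw [th, π_mk, ev4_thw]

/-- The other long root elements. -/
noncomputable def Z1 (c : M.K0) : P W := tt W * z W c * (tt W)⁻¹

/-- The short root elements. -/
noncomputable def B (y : F) : P W := n W * A W (lo y) * (n W)⁻¹

theorem pmk_z1W (c : M.K0) : pmk W (z1W W c) = Z1 W c := by
  rw [z1W, map_mul, map_mul, map_inv, tw, pmk_aw, pmk_zW]; rfl

theorem pmk_bW (y : F) : pmk W (bW W y) = B W y := by
  rw [bW, map_mul, map_mul, map_inv, pmk_aw]; rfl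

theorem π_Z1 (c : M.K0) : π W (Z1 W c) = M.Z1M c := by rw [← pmk_z1W, π_mk, ev4_z1W]

theorem π_B (y : F) : π W (B W y) = M.BM y := by rw [← pmk_bW, π_mk, ev4_bW]

/-! ### The relations in the group -/

theorem th_h : Commute (th W) (h W) := by
  have := pmk_single W (r := cmw (thw W) (hw W)) (by simp [single])
  rwa [map_cmw, cmw_eq_one, hw, pmk_aw] at this

theorem th_g : th W * A W (we * up 1) * (th W)⁻¹ = A W (M.θ (we * up 1)) := by
  have := pmk_single W (r := thw W * aw W (we * up 1) * (thw W)⁻¹ * (aw W (M.θ (we * up 1)))⁻¹) (by simp [single])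
  rw [map_mul, map_mul, map_mul, map_inv, map_inv, pmk_aw, pmk_aw, mul_inv_eq_one] at this
  exact this

theorem n_h : n W * h W * (n W)⁻¹ = (th W)⁻¹ * h W := by
  have := pmk_single W (r := nL * hw W * nL⁻¹ * ((thw W)⁻¹ * hw W)⁻¹) (by simp [single])
  rw [map_mul, map_mul, map_mul, map_inv, map_inv, map_mul, map_inv, mul_inv_eq_one, hw, pmk_aw] at this
  exact this

theorem n_th : n W * th W * (n W)⁻¹ = (th W)⁻¹ := by
  have := pmk_single W (r := nL * thw W * nL⁻¹ * thw W) (by simp [single])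
  rw [map_mul, map_mul, map_mul, map_inv, mul_eq_one_iff_eq_inv] at this
  exact this

theorem hB : z W 1 * (n W * z W 1 * (n W)⁻¹) * z W 1 = n W := by
  have := pmk_single W (r := zL * (nL * zL * nL⁻¹) * zL * nL⁻¹) (by simp [single])
  rw [map_mul, map_mul, map_mul, map_mul, map_mul, map_inv, mul_inv_eq_one, ← z_one] at this
  exact this

theorem hD : z W M.ρ₀ * (n W * z W M.ρ₀⁻¹ * (n W)⁻¹) * z W M.ρ₀ = th W * n W := by
  rw [th, thw, map_mul, map_mul, map_mul, map_mul, map_mul, map_inv, pmk_zW, pmk_zW, ← n, inv_mul_cancel_right]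

theorem ni_h_n : (n W)⁻¹ * h W * n W = (th W)⁻¹ * h W := by
  have e : n W * ((th W)⁻¹ * h W) * (n W)⁻¹ = h W := by
    calc n W * ((th W)⁻¹ * h W) * (n W)⁻¹ = (n W * th W * (n W)⁻¹)⁻¹ * (n W * h W * (n W)⁻¹) := by group
      _ = h W := by rw [n_th, n_h, inv_inv, mul_inv_cancel_left]
  conv_lhs => rw [← e]
  group

theorem ni_th_n : (n W)⁻¹ * th W * n W = (th W)⁻¹ := by
  have e : n W * (th W)⁻¹ * (n W)⁻¹ = th W := by
    calc n W * (th W)⁻¹ * (n W)⁻¹ = (n W * th W * (n W)⁻¹)⁻¹ := by group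
      _ = th W := by rw [n_th, inv_inv]
  conv_lhs => rw [← e]
  group

theorem h_n : h W * n W * (h W)⁻¹ = th W * n W := by
  calc h W * n W * (h W)⁻¹ = n W * ((n W)⁻¹ * h W * n W) * (h W)⁻¹ := by group
    _ = n W * ((th W)⁻¹ * h W) * (h W)⁻¹ := by rw [ni_h_n]
    _ = n W * (th W)⁻¹ * (n W)⁻¹ * n W := by group
    _ = th W * n W := by
      rw [show n W * (th W)⁻¹ * (n W)⁻¹ = (n W * th W * (n W)⁻¹)⁻¹ by group, n_th, inv_inv]

theorem th_z (c : M.K0) : th W * z W c * (th W)⁻¹ = z W (M.ρ₀ * M.ρ₀ * c) := by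
  have h1 : h W * (n W * z W 1 * (n W)⁻¹) * (h W)⁻¹ = n W * z W M.ρ₀⁻¹ * (n W)⁻¹ := by
    have e1 : z W M.ρ₀ * (h W * (n W * z W 1 * (n W)⁻¹) * (h W)⁻¹) * z W M.ρ₀ = th W * n W := by
      calc z W M.ρ₀ * (h W * (n W * z W 1 * (n W)⁻¹) * (h W)⁻¹) * z W M.ρ₀
          = (h W * z W 1 * (h W)⁻¹) * (h W * (n W * z W 1 * (n W)⁻¹) * (h W)⁻¹) * (h W * z W 1 * (h W)⁻¹) := by
            rw [h_z, mul_one]
        _ = h W * (z W 1 * (n W * z W 1 * (n W)⁻¹) * z W 1) * (h W)⁻¹ := by group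
        _ = th W * n W := by rw [hB, h_n]
    rw [← hD] at e1
    exact mul_left_cancel (mul_right_cancel e1)
  have h2 : th W * z W M.ρ₀⁻¹ * (th W)⁻¹ = z W M.ρ₀ := by
    calc th W * z W M.ρ₀⁻¹ * (th W)⁻¹
        = th W * ((n W)⁻¹ * (n W * z W M.ρ₀⁻¹ * (n W)⁻¹) * n W) * (th W)⁻¹ := by group
      _ = th W * ((n W)⁻¹ * h W * n W) * z W 1 * ((n W)⁻¹ * h W * n W)⁻¹ * (th W)⁻¹ := by rw [← h1]; group
      _ = h W * z W 1 * (h W)⁻¹ := by rw [ni_h_n]; group
      _ = z W M.ρ₀ := by rw [h_z, mul_one]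
  let S : AddSubgroup M.K0 :=
    { carrier := {c | th W * z W c * (th W)⁻¹ = z W (M.ρ₀ * M.ρ₀ * c)}
      zero_mem' := by simp [z_zero]
      add_mem' := fun {a b} ha hb => by
        show _ = _
        rw [z_add, mul_add, z_add, ← ha, ← hb]
        group
      neg_mem' := fun {a} ha => by
        show _ = _
        rw [z_neg, mul_neg, z_neg, ← ha]
        group }
  suffices hS : c ∈ S from hS
  rcases eq_or_ne c 0 with rfl | hc
  · exact S.zero_mem
  obtain ⟨i, hi⟩ := M.exists_ρ_pow (M.ρ₀ * c) (mul_ne_zero M.ρ₀_ne hc)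
  have hc' : c = M.ρ₀ ^ i * M.ρ₀⁻¹ := by
    rw [← hi, mul_comm M.ρ₀ c, mul_inv_cancel_right₀ M.ρ₀_ne]
  have hpow : ∀ (j : ℕ) (d : M.K0), h W ^ j * z W d * (h W ^ j)⁻¹ = z W (M.ρ₀ ^ j * d) := by
    intro j
    induction j with
    | zero => intro d; simp
    | succ j ih =>
      intro d
      calc h W ^ (j + 1) * z W d * (h W ^ (j + 1))⁻¹
          = h W * (h W ^ j * z W d * (h W ^ j)⁻¹) * (h W)⁻¹ := by rw [pow_succ']; group
        _ = _ := by rw [ih, h_z, ← mul_assoc, ← pow_succ']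
  show th W * z W c * (th W)⁻¹ = _
  rw [hc', ← hpow i]
  have hcomm : Commute (th W) (h W ^ i) := (th_h W).pow_right i
  calc th W * (h W ^ i * z W M.ρ₀⁻¹ * (h W ^ i)⁻¹) * (th W)⁻¹
      = (th W * h W ^ i) * z W M.ρ₀⁻¹ * (th W * h W ^ i)⁻¹ := by group
    _ = (h W ^ i * th W) * z W M.ρ₀⁻¹ * (h W ^ i * th W)⁻¹ := by rw [hcomm.eq]
    _ = h W ^ i * (th W * z W M.ρ₀⁻¹ * (th W)⁻¹) * (h W ^ i)⁻¹ := by group
    _ = _ := by
      rw [h2, hpow]
      congr 1
      rw [mul_comm (M.ρ₀ * M.ρ₀), mul_assoc (M.ρ₀ ^ i), ← mul_assoc M.ρ₀⁻¹, inv_mul_cancel₀ M.ρ₀_ne, one_mul]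

include W in
theorem four_le : 4 ≤ Fintype.card F := by
  rw [M.hF]
  have := M.q_gt
  nlinarith

theorem th_A (s : SL2) : th W * A W s * (th W)⁻¹ = A W (M.θ s) := by
  have e : (MulAut.conj (th W)).toMonoidHom.comp (A W) = (A W).comp M.θ := by
    refine MonoidHom.eq_of_eqOn_top (fun x _ => ?_)
    have htop : MonoidHom.eqLocus ((MulAut.conj (th W)).toMonoidHom.comp (A W)) ((A W).comp M.θ) = ⊤ := by
      refine sl2_pair M.ω M.hω (four_le W) _ ?_ ?_
      · show th W * A W (di M.ω) * (th W)⁻¹ = A W (M.θ (di M.ω))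
        rw [θ_di, mul_inv_eq_iff_eq_mul]
        exact th_h W
      · exact th_g W
    exact htop.ge (Subgroup.mem_top x)
  exact DFunLike.congr_fun e s

theorem th_di (r : Fˣ) : Commute (th W) (A W (di r)) := by
  have := th_A W (di r)
  rw [θ_di, mul_inv_eq_iff_eq_mul] at this
  exact this

theorem A_di_z (r : Fˣ) (c : M.K0) : A W (di r) * z W c * (A W (di r))⁻¹ = z W (M.nrm (r : F) * c) := by
  obtain ⟨i, rfl⟩ := M.hω r
  induction i generalizing c with
  | zero =>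
    rw [pow_zero, di_one, map_one, one_mul, inv_one, mul_one]
    congr 1
    rw [show M.nrm ((1 : Fˣ) : F) = 1 from Subtype.ext (by simp [nrm_val]), one_mul]
  | succ i ih =>
    rw [pow_succ', di_mul, map_mul]
    calc A W (di M.ω) * A W (di (M.ω ^ i)) * z W c * (A W (di M.ω) * A W (di (M.ω ^ i)))⁻¹
        = h W * (A W (di (M.ω ^ i)) * z W c * (A W (di (M.ω ^ i)))⁻¹) * (h W)⁻¹ := by
          rw [h]; group
      _ = _ := by
        rw [ih, h_z, Units.val_mul, nrm_mul, mul_assoc]; rfl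

theorem th_pow_z (m : ℕ) (c : M.K0) : th W ^ m * z W c * (th W ^ m)⁻¹ = z W (M.ρ₀ ^ (2 * m) * c) := by
  induction m generalizing c with
  | zero => simp
  | succ m ih =>
    calc th W ^ (m + 1) * z W c * (th W ^ (m + 1))⁻¹
        = th W * (th W ^ m * z W c * (th W ^ m)⁻¹) * (th W)⁻¹ := by rw [pow_succ']; group
      _ = _ := by rw [ih, th_z]; congr 1; ring

theorem th_pow_up (m : ℕ) (a : F) : th W ^ m * A W (up a) * (th W ^ m)⁻¹ = A W (up (M.ρ ^ m * a)) := by
  induction m generalizing a with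
  | zero => simp
  | succ m ih =>
    calc th W ^ (m + 1) * A W (up a) * (th W ^ (m + 1))⁻¹
        = th W * (th W ^ m * A W (up a) * (th W ^ m)⁻¹) * (th W)⁻¹ := by rw [pow_succ']; group
      _ = _ := by rw [ih, th_A, θ_up, pow_succ, mul_comm (M.ρ ^ m) M.ρ, mul_assoc]

theorem th_pow_lo (m : ℕ) (a : F) : th W ^ m * A W (lo a) * (th W ^ m)⁻¹ = A W (lo (a / M.ρ ^ m)) := by
  induction m generalizing a with
  | zero => simp
  | succ m ih =>
    calc th W ^ (m + 1) * A W (lo a) * (th W ^ (m + 1))⁻¹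
        = th W * (th W ^ m * A W (lo a) * (th W ^ m)⁻¹) * (th W)⁻¹ := by rw [pow_succ']; group
      _ = _ := by rw [ih, th_A, θ_lo, pow_succ]; congr 2; field_simp

theorem A_di_up (r : Fˣ) (a : F) : A W (di r) * A W (up a) * (A W (di r))⁻¹ = A W (up ((r : F) * r * a)) := by
  rw [← map_inv, ← map_mul, ← map_mul, di_up]

theorem A_di_lo (r : Fˣ) (a : F) : A W (di r) * A W (lo a) * (A W (di r))⁻¹ = A W (lo (a / ((r : F) * r))) := by
  rw [← map_inv, ← map_mul, ← map_mul, di_lo]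

/-- Commuting with a fixed long root element, as a subgroup of the field. -/
theorem z_up (c : M.K0) (a : F) : Commute (z W c) (A W (up a)) := by
  have h11 : Commute (z W 1) (A W (up 1)) := by
    have := pmk_single W (r := cmw zL (aw W (up 1))) (by simp [single])
    rwa [map_cmw, cmw_eq_one, pmk_aw, ← z_one] at this
  have hsq : ∀ b : M.K0, Commute (z W (b * b)) (A W (up 1)) := by
    intro b
    rcases eq_or_ne b 0 with rfl | hb
    · rw [mul_zero, z_zero]; exact Commute.one_left _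
    obtain ⟨m, rfl⟩ := M.exists_ρ_pow b hb
    have := h11.map (MulAut.conj (A W (di ((ρu M) ^ m)⁻¹) * th W ^ (2 * m))).toMonoidHom
    simp only [MulEquiv.coe_toMonoidHom, MulAut.conj_apply] at this
    rw [show ∀ x : P W, A W (di ((ρu M) ^ m)⁻¹) * th W ^ (2 * m) * x *
        (A W (di ((ρu M) ^ m)⁻¹) * th W ^ (2 * m))⁻¹ =
        A W (di ((ρu M) ^ m)⁻¹) * (th W ^ (2 * m) * x * (th W ^ (2 * m))⁻¹) * (A W (di ((ρu M) ^ m)⁻¹))⁻¹
        from fun x => by group,
      show ∀ x : P W, A W (di ((ρu M) ^ m)⁻¹) * th W ^ (2 * m) * x *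
        (A W (di ((ρu M) ^ m)⁻¹) * th W ^ (2 * m))⁻¹ =
        A W (di ((ρu M) ^ m)⁻¹) * (th W ^ (2 * m) * x * (th W ^ (2 * m))⁻¹) * (A W (di ((ρu M) ^ m)⁻¹))⁻¹
        from fun x => by group,
      th_pow_z, th_pow_up, A_di_z, A_di_up] at this
    have e1 : M.nrm (((ρu M) ^ m)⁻¹ : Fˣ).val * (M.ρ₀ ^ (2 * (2 * m)) * 1) = M.ρ₀ ^ m * M.ρ₀ ^ m := by
      rw [Units.val_inv_eq_inv_val, nrm_inv, nrm_ρu_pow, mul_one, ← pow_add]
      rw [show 2 * (2 * m) = 2 * m + 2 * m by ring, pow_add, inv_mul_cancel_left₀ (pow_ne_zero _ M.ρ₀_ne), two_mul]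
    have e2 : (((ρu M) ^ m)⁻¹ : Fˣ).val * (((ρu M) ^ m)⁻¹ : Fˣ).val * (M.ρ ^ (2 * m) * 1) = 1 := by
      rw [Units.val_inv_eq_inv_val, Units.val_pow_eq_pow_val, mul_one, two_mul, pow_add]
      show (M.ρ ^ m)⁻¹ * (M.ρ ^ m)⁻¹ * (M.ρ ^ m * M.ρ ^ m) = 1
      have := M.ρ_ne
      field_simp
    rwa [e1, e2] at this
  have h1 : ∀ c : M.K0, Commute (z W c) (A W (up 1)) := fun c =>
    span_squares
      ({ carrier := {c | Commute (z W c) (A W (up 1))}
         zero_mem' := by show Commute _ _; rw [z_zero]; exact Commute.one_left _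
         add_mem' := fun {a b} ha hb => by show Commute _ _; rw [z_add]; exact ha.mul_left hb
         neg_mem' := fun {a} ha => by show Commute _ _; rw [z_neg]; exact ha.inv_left } : AddSubgroup M.K0) hsq c
  refine span_squares
    ({ carrier := {a | ∀ c, Commute (z W c) (A W (up a))}
       zero_mem' := fun c => by rw [show up (0 : F) = 1 from map_one _, map_one]; exact Commute.one_right _
       add_mem' := fun {a b} ha hb c => by
         rw [show up (a + b) = up a * up b from map_mul _ _ _, map_mul]; exact (ha c).mul_right (hb c)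
       neg_mem' := fun {a} ha c => by
         rw [show up (-a) = (up a)⁻¹ from map_inv _ _, map_inv]; exact (ha c).inv_right } : AddSubgroup F)
    (fun b => ?_) a c
  intro c
  rcases eq_or_ne b 0 with rfl | hb
  · rw [mul_zero, show up (0 : F) = 1 from map_one _, map_one]; exact Commute.one_right _
  have := (h1 ((M.nrm b)⁻¹ * c)).map (MulAut.conj (A W (di (Units.mk0 b hb)))).toMonoidHom
  simp only [MulEquiv.coe_toMonoidHom, MulAut.conj_apply, A_di_z, A_di_up, Units.val_mk0, mul_one] at this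
  rwa [← mul_assoc, mul_inv_cancel₀ (fun e => hb (by
    have := congrArg (fun x : M.K0 => (x : F)) e
    simpa [nrm_val] using this)), one_mul] at this

theorem tt_tt : tt W * tt W = A W (di (-1)) := by rw [tt, ← map_mul, we_we]

theorem th_tt : th W * tt W * (th W)⁻¹ = A W (di (ρu M)) * tt W := by
  rw [tt, th_A, θ_we, map_mul]

theorem di_tt (r : Fˣ) : A W (di r) * tt W = tt W * A W (di r⁻¹) := by
  rw [tt, ← map_mul, ← map_mul, di_we]

theorem A_di_Z1 (r : Fˣ) (c : M.K0) : A W (di r) * Z1 W c * (A W (di r))⁻¹ = Z1 W ((M.nrm (r : F))⁻¹ * c) := by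
  rw [Z1]
  calc A W (di r) * (tt W * z W c * (tt W)⁻¹) * (A W (di r))⁻¹
      = (A W (di r) * tt W) * z W c * (A W (di r) * tt W)⁻¹ := by group
    _ = tt W * (A W (di r⁻¹) * z W c * (A W (di r⁻¹))⁻¹) * (tt W)⁻¹ := by rw [di_tt]; group
    _ = _ := by rw [A_di_z, Units.val_inv_eq_inv_val, nrm_inv]; rfl

theorem th_Z1 (c : M.K0) : th W * Z1 W c * (th W)⁻¹ = Z1 W c := by
  rw [Z1]
  calc th W * (tt W * z W c * (tt W)⁻¹) * (th W)⁻¹
      = (th W * tt W * (th W)⁻¹) * (th W * z W c * (th W)⁻¹) * (th W * tt W * (th W)⁻¹)⁻¹ := by group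
    _ = tt W * (A W (di (ρu M)⁻¹) * z W (M.ρ₀ * M.ρ₀ * c) * (A W (di (ρu M)⁻¹))⁻¹) * (tt W)⁻¹ := by
        rw [th_tt, th_z, di_tt]; group
    _ = _ := by
      rw [A_di_z, Units.val_inv_eq_inv_val, nrm_inv]
      congr 3
      have := nrm_ρu_pow (M := M) 1
      rw [pow_one, mul_one] at this
      rw [this, ← mul_assoc, ← sq, inv_mul_cancel₀ (pow_ne_zero _ M.ρ₀_ne), one_mul]

theorem z_Z1 (a b : M.K0) : Commute (z W a) (Z1 W b) := by
  have h11 : Commute (z W 1) (Z1 W 1) := by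
    have := pmk_single W (r := cmw zL (tw W * zL * (tw W)⁻¹)) (by simp [single])
    rwa [map_cmw, cmw_eq_one, map_mul, map_mul, map_inv, tw, pmk_aw, ← z_one] at this
  have h1 : ∀ a : M.K0, Commute (z W a) (Z1 W 1) := fun a =>
    span_squares
      ({ carrier := {a | Commute (z W a) (Z1 W 1)}
         zero_mem' := by show Commute _ _; rw [z_zero]; exact Commute.one_left _
         add_mem' := fun {a b} ha hb => by show Commute _ _; rw [z_add]; exact ha.mul_left hb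
         neg_mem' := fun {a} ha => by show Commute _ _; rw [z_neg]; exact ha.inv_left } : AddSubgroup M.K0)
      (fun b => by
        show Commute _ _
        rcases eq_or_ne b 0 with rfl | hb
        · rw [mul_zero, z_zero]; exact Commute.one_left _
        obtain ⟨m, rfl⟩ := M.exists_ρ_pow b hb
        have := h11.map (MulAut.conj (th W ^ m)).toMonoidHom
        simp only [MulEquiv.coe_toMonoidHom, MulAut.conj_apply, th_pow_z] at this
        rw [show th W ^ m * Z1 W 1 * (th W ^ m)⁻¹ = Z1 W 1 from mul_inv_eq_iff_eq_mul.2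
          ((Commute.pow_left (mul_inv_eq_iff_eq_mul.1 (th_Z1 W 1)) m).eq), mul_one, two_mul, pow_add] at this
        exact this) a
  rcases eq_or_ne b 0 with rfl | hb
  · rw [Z1, z_zero, mul_one, mul_inv_cancel]; exact Commute.one_right _
  obtain ⟨m, hm⟩ := M.exists_ρ_pow b⁻¹ (inv_ne_zero hb)
  have hω : M.nrm (((M.ω ^ m : Fˣ)) : F) = b⁻¹ := by
    rw [hm]
    refine Subtype.ext ?_
    rw [nrm_val, SubmonoidClass.coe_pow, ρ₀_val, Units.val_pow_eq_pow_val, map_pow, ρ, mul_pow]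
  have := (h1 (b * a)).map (MulAut.conj (A W (di (M.ω ^ m)))).toMonoidHom
  simp only [MulEquiv.coe_toMonoidHom, MulAut.conj_apply, A_di_z, A_di_Z1, hω, inv_inv, mul_one] at this
  rwa [← mul_assoc, inv_mul_cancel₀ hb, one_mul] at this

theorem n_Z1 (c : M.K0) : Commute (n W) (Z1 W c) := by
  have h1 : Commute (n W) (Z1 W 1) := by
    have := pmk_single W (r := cmw nL (tw W * zL * (tw W)⁻¹)) (by simp [single])
    rwa [map_cmw, cmw_eq_one, map_mul, map_mul, map_inv, tw, pmk_aw, ← z_one] at this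
  rcases eq_or_ne c 0 with rfl | hc
  · rw [Z1, z_zero, mul_one, mul_inv_cancel]; exact Commute.one_right _
  obtain ⟨i, hi⟩ := M.exists_ρ_pow c⁻¹ (inv_ne_zero hc)
  have hstep : ∀ j : ℕ, Commute (n W) (Z1 W ((M.ρ₀ ^ j)⁻¹)) := by
    intro j
    induction j with
    | zero => simpa using h1
    | succ j ih =>
      have := ih.map (MulAut.conj (h W)).toMonoidHom
      simp only [MulEquiv.coe_toMonoidHom, MulAut.conj_apply] at this
      rw [h_n, h, A_di_Z1] at this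
      have h2 : Commute (th W) (Z1 W ((M.nrm (M.ω : F))⁻¹ * (M.ρ₀ ^ j)⁻¹)) :=
        mul_inv_eq_iff_eq_mul.1 (th_Z1 W _)
      have h3 := h2.inv_left.mul_left this
      rw [inv_mul_cancel_left] at h3
      rwa [show M.nrm (M.ω : F) = M.ρ₀ from rfl, ← mul_inv, ← pow_succ'] at h3
  have := hstep i
  rwa [← hi, inv_inv] at this

theorem tt_Z1 (c : M.K0) : tt W * Z1 W c * (tt W)⁻¹ = z W c := by
  rw [Z1]
  calc tt W * (tt W * z W c * (tt W)⁻¹) * (tt W)⁻¹ = (tt W * tt W) * z W c * (tt W * tt W)⁻¹ := by group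
    _ = z W c := by
      rw [tt_tt, A_di_z]
      congr 1
      rw [show M.nrm ((-1 : Fˣ) : F) = 1 from Subtype.ext (by simp [nrm_val]), one_mul]

theorem lo_Z1 (x : F) (c : M.K0) : Commute (A W (lo x)) (Z1 W c) := by
  have h1 := (z_up W c (-x)).symm.map (MulAut.conj (tt W)).toMonoidHom
  simp only [MulEquiv.coe_toMonoidHom, MulAut.conj_apply] at h1
  rw [show tt W * A W (up (-x)) * (tt W)⁻¹ = A W (lo x) by
    rw [tt, ← map_inv, ← map_mul, ← map_mul, we_up, neg_neg]] at h1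
  exact h1

theorem Z1_B (c : M.K0) (y : F) : Commute (Z1 W c) (B W y) := by
  have h1 := (lo_Z1 W y c).symm.map (MulAut.conj (n W)).toMonoidHom
  simp only [MulEquiv.coe_toMonoidHom, MulAut.conj_apply] at h1
  rw [show n W * Z1 W c * (n W)⁻¹ = Z1 W c by rw [(n_Z1 W c).eq, mul_inv_cancel_right]] at h1
  exact h1

theorem B_add (a b : F) : B W (a + b) = B W a * B W b := by
  rw [B, B, B, lo_add, map_mul]; group

theorem B_zero : B W 0 = 1 := by rw [B, lo_zero, map_one, mul_one, mul_inv_cancel]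

theorem B_neg (a : F) : B W (-a) = (B W a)⁻¹ := by rw [B, B, lo_neg, map_inv]; group

theorem th_B (y : F) : th W * B W y * (th W)⁻¹ = B W (M.ρ * y) := by
  rw [B]
  calc th W * (n W * A W (lo y) * (n W)⁻¹) * (th W)⁻¹
      = n W * (((n W)⁻¹ * th W * n W) * A W (lo y) * ((n W)⁻¹ * th W * n W)⁻¹) * (n W)⁻¹ := by group
    _ = n W * ((th W)⁻¹ * (th W * A W (lo (M.ρ * y)) * (th W)⁻¹) * th W) * (n W)⁻¹ := by
      rw [ni_th_n, inv_inv, th_A, θ_lo, ← mul_assoc M.ρ⁻¹, inv_mul_cancel₀ M.ρ_ne, one_mul]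
    _ = _ := by rw [B]; group

theorem h_B (y : F) : h W * B W y * (h W)⁻¹ = B W (σ (M.ω : F) / (M.ω : F) * y) := by
  rw [B]
  calc h W * (n W * A W (lo y) * (n W)⁻¹) * (h W)⁻¹
      = n W * (((n W)⁻¹ * h W * n W) * A W (lo y) * ((n W)⁻¹ * h W * n W)⁻¹) * (n W)⁻¹ := by group
    _ = n W * ((th W)⁻¹ * (h W * A W (lo y) * (h W)⁻¹) * th W) * (n W)⁻¹ := by rw [ni_h_n]; group
    _ = n W * ((th W)⁻¹ * (th W * A W (lo (M.ρ * (y / ((M.ω : F) * M.ω)))) * (th W)⁻¹) * th W) * (n W)⁻¹ := by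
      rw [h, A_di_lo, th_A, θ_lo, ← mul_assoc M.ρ⁻¹, inv_mul_cancel₀ M.ρ_ne, one_mul]
    _ = n W * A W (lo (M.ρ * (y / ((M.ω : F) * M.ω)))) * (n W)⁻¹ := by group
    _ = _ := by
      rw [B, ρ]
      congr 4
      have := M.ω.ne_zero
      field_simp

theorem A_di_B (r : Fˣ) (y : F) : A W (di r) * B W y * (A W (di r))⁻¹ = B W (σ (r : F) / (r : F) * y) := by
  obtain ⟨i, rfl⟩ := M.hω r
  induction i generalizing y with
  | zero => simp [di_one]
  | succ i ih =>
    rw [pow_succ', di_mul, map_mul]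
    calc A W (di M.ω) * A W (di (M.ω ^ i)) * B W y * (A W (di M.ω) * A W (di (M.ω ^ i)))⁻¹
        = h W * (A W (di (M.ω ^ i)) * B W y * (A W (di (M.ω ^ i)))⁻¹) * (h W)⁻¹ := by rw [h]; group
      _ = _ := by
        rw [ih, h_B, Units.val_mul, map_mul]
        congr 1
        field_simp

theorem tt_B (y : F) : tt W * B W y * (tt W)⁻¹ = B W (-σ y) := by
  let S : AddSubgroup F :=
    { carrier := {y | tt W * B W y * (tt W)⁻¹ = B W (-σ y)}
      zero_mem' := by simp [B_zero]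
      add_mem' := fun {a b} ha hb => by
        show _ = _
        rw [map_add, neg_add, B_add, B_add, ← ha, ← hb]
        group
      neg_mem' := fun {a} ha => by
        show _ = _
        rw [map_neg, B_neg W a, B_neg W (-σ a), ← ha]
        group }
  refine span_squares S (fun b => ?_) y
  show tt W * B W (b * b) * (tt W)⁻¹ = _
  rcases eq_or_ne b 0 with rfl | hb
  · simp [B_zero]
  obtain ⟨e, he⟩ := M.hω (Units.mk0 b hb)
  have hb' : b = (M.ω : F) ^ e := by simpa using (congrArg Units.val he).symm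
  subst hb'
  have hsw : σ (M.ω : F) ≠ 0 := by simp
  have hw := M.ω.ne_zero
  have h11 : tt W * B W 1 * (tt W)⁻¹ = B W (-1) := by
    have := pmk_single W (r := tw W * bW W 1 * (tw W)⁻¹ * (bW W (-1))⁻¹) (by simp [single])
    rw [map_mul, map_mul, map_mul, map_inv, map_inv, mul_inv_eq_one, tw, pmk_aw, pmk_bW, pmk_bW] at this
    exact this
  have step : ∀ (y : F), tt W * B W y * (tt W)⁻¹ = B W (-σ y) →
      tt W * B W ((M.ω : F) * M.ω * y) * (tt W)⁻¹ = B W (-σ ((M.ω : F) * M.ω * y)) := by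
    intro y hy
    have e1 : B W ((M.ω : F) * M.ω * y) =
        A W (di M.ω⁻¹) * (th W * B W y * (th W)⁻¹) * (A W (di M.ω⁻¹))⁻¹ := by
      rw [th_B, A_di_B, Units.val_inv_eq_inv_val, map_inv₀, ρ]
      congr 1
      field_simp
    have e2 : tt W * (A W (di M.ω⁻¹) * th W) = A W (di (M.ω * (ρu M)⁻¹)) * th W * tt W := by
      have h1 : th W * tt W = A W (di (ρu M)) * tt W * th W := mul_inv_eq_iff_eq_mul.1 (th_tt W)
      have h2 : tt W * A W (di M.ω⁻¹) = A W (di M.ω) * tt W := (di_tt W M.ω).symm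
      calc tt W * (A W (di M.ω⁻¹) * th W) = A W (di M.ω) * (tt W * th W) := by rw [← mul_assoc, h2, mul_assoc]
        _ = A W (di M.ω) * (A W (di (ρu M)⁻¹) * th W * tt W) := by
          rw [mul_assoc (A W (di (ρu M)⁻¹)), h1, di_inv, map_inv]; group
        _ = _ := by rw [di_mul, map_mul]; group
    calc tt W * B W ((M.ω : F) * M.ω * y) * (tt W)⁻¹
        = (tt W * (A W (di M.ω⁻¹) * th W)) * B W y * (tt W * (A W (di M.ω⁻¹) * th W))⁻¹ := by rw [e1]; group
      _ = A W (di (M.ω * (ρu M)⁻¹)) * (th W * (tt W * B W y * (tt W)⁻¹) * (th W)⁻¹) *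
          (A W (di (M.ω * (ρu M)⁻¹)))⁻¹ := by rw [e2]; group
      _ = _ := by
        rw [hy, th_B, A_di_B, Units.val_mul, Units.val_inv_eq_inv_val]
        show B W (σ ((M.ω : F) * M.ρ⁻¹) / ((M.ω : F) * M.ρ⁻¹) * (M.ρ * -σ y)) = _
        rw [map_mul, map_mul, map_mul, map_inv₀, M.ρ_fix]
        congr 1
        have := M.ρ_ne
        rw [ρ] at this ⊢
        field_simp
  have hall : ∀ e : ℕ, tt W * B W ((M.ω : F) ^ e * (M.ω : F) ^ e) * (tt W)⁻¹ =
      B W (-σ ((M.ω : F) ^ e * (M.ω : F) ^ e)) := by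
    intro e
    induction e with
    | zero => simpa using h11
    | succ e ih =>
      rw [show (M.ω : F) ^ (e + 1) * (M.ω : F) ^ (e + 1) =
        (M.ω : F) * M.ω * ((M.ω : F) ^ e * (M.ω : F) ^ e) by ring]
      exact step _ ih
  exact hall e

theorem z_B (c : M.K0) (y : F) : Commute (z W c) (B W y) := by
  have h1 := (Z1_B W c (-σ y)).map (MulAut.conj (tt W)).toMonoidHom
  simp only [MulEquiv.coe_toMonoidHom, MulAut.conj_apply] at h1
  rw [tt_Z1, tt_B, map_neg, frob_frob, neg_neg] at h1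
  exact h1

theorem Z1_add (a b : M.K0) : Z1 W (a + b) = Z1 W a * Z1 W b := by rw [Z1, Z1, Z1, z_add]; group

theorem Z1_zero : Z1 W 0 = 1 := by rw [Z1, z_zero, mul_one, mul_inv_cancel]

theorem Z1_neg (a : M.K0) : Z1 W (-a) = (Z1 W a)⁻¹ := by rw [Z1, Z1, z_neg]; group

/-- The abelian unipotent subgroup. -/
noncomputable def M' : Subgroup (P W) where
  carrier := {x | ∃ (a b : M.K0) (y : F), x = z W a * Z1 W b * B W y}
  one_mem' := ⟨0, 0, 0, by simp [z_zero, Z1_zero, B_zero]⟩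
  mul_mem' := by
    rintro _ _ ⟨a, b, y, rfl⟩ ⟨a', b', y', rfl⟩
    refine ⟨a + a', b + b', y + y', ?_⟩
    rw [z_add, Z1_add, B_add]
    calc z W a * Z1 W b * B W y * (z W a' * Z1 W b' * B W y')
        = z W a * Z1 W b * (B W y * z W a') * (Z1 W b' * B W y') := by group
      _ = z W a * (Z1 W b * z W a') * (B W y * Z1 W b') * B W y' := by rw [← (z_B W a' y).eq]; group
      _ = z W a * (z W a' * Z1 W b) * (Z1 W b' * B W y) * B W y' := by rw [(z_Z1 W a' b).eq, (Z1_B W b' y).eq]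
      _ = _ := by group
  inv_mem' := by
    rintro _ ⟨a, b, y, rfl⟩
    refine ⟨-a, -b, -y, ?_⟩
    rw [z_neg, Z1_neg, B_neg, _root_.mul_inv_rev, _root_.mul_inv_rev, ← mul_assoc]
    rw [(Z1_B W b y).inv_inv.symm.eq, mul_assoc, (z_B W a y).inv_inv.symm.eq, ← mul_assoc,
      (z_Z1 W a b).inv_inv.symm.eq]

theorem z_mem (a : M.K0) : z W a ∈ M' W := ⟨a, 0, 0, by simp [Z1_zero, B_zero]⟩

theorem Z1_mem (b : M.K0) : Z1 W b ∈ M' W := ⟨0, b, 0, by simp [z_zero, B_zero]⟩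

theorem B_mem (y : F) : B W y ∈ M' W := ⟨0, 0, y, by simp [z_zero, Z1_zero]⟩

theorem conj_M' {g : P W} (hz : ∀ c, g * z W c * g⁻¹ ∈ M' W) (hz1 : ∀ c, g * Z1 W c * g⁻¹ ∈ M' W)
    (hb : ∀ y, g * B W y * g⁻¹ ∈ M' W) : ∀ x ∈ M' W, g * x * g⁻¹ ∈ M' W := by
  rintro _ ⟨a, b, y, rfl⟩
  rw [show g * (z W a * Z1 W b * B W y) * g⁻¹ =
    (g * z W a * g⁻¹) * (g * Z1 W b * g⁻¹) * (g * B W y * g⁻¹) by group]
  exact mul_mem (mul_mem (hz a) (hz1 b)) (hb y)

theorem th_M' : ∀ x ∈ M' W, th W * x * (th W)⁻¹ ∈ M' W :=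
  conj_M' W (fun c => by rw [th_z]; exact z_mem W _) (fun c => by rw [th_Z1]; exact Z1_mem W _)
    (fun y => by rw [th_B]; exact B_mem W _)

theorem di_M' (r : Fˣ) : ∀ x ∈ M' W, A W (di r) * x * (A W (di r))⁻¹ ∈ M' W :=
  conj_M' W (fun c => by rw [A_di_z]; exact z_mem W _) (fun c => by rw [A_di_Z1]; exact Z1_mem W _)
    (fun y => by rw [A_di_B]; exact B_mem W _)

theorem tt_M' : ∀ x ∈ M' W, tt W * x * (tt W)⁻¹ ∈ M' W :=
  conj_M' W (fun c => Z1_mem W c) (fun c => by rw [tt_Z1]; exact z_mem W _)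
    (fun y => by rw [tt_B]; exact B_mem W _)

theorem π_inj_M' {x x' : P W} (hx : x ∈ M' W) (hx' : x' ∈ M' W) (e : π W x = π W x') : x = x' := by
  obtain ⟨a, b, y, rfl⟩ := hx
  obtain ⟨a', b', y', rfl⟩ := hx'
  simp only [map_mul, π_z, π_Z1, π_B] at e
  have h0 := congrArg (fun g => mat g *ᵥ M.G0) e
  have h1 := congrArg (fun g => mat g *ᵥ M.G1) e
  simp only [mat_mul, ← mulVec_mulVec, M.BM_G0, M.BM_G1, mulVec_add, mulVec_smul, M.Z1M_G0, M.Z1M_G1,
    M.Z1M_E0, M.Z1M_E1, M.ZM_G0, M.ZM_G1, M.ZM_E0, M.ZM_E1] at h0 h1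
  obtain ⟨p1, p2, p3, p4, p5, p6, p7, p8⟩ := M.h00
  obtain ⟨r1, r2, r3, r4, r5, r6, r7, r8⟩ := M.h01
  have ca := congrArg (fun v => Cfsg.hermForm 4 F q v M.G0) h0
  have cy := congrArg (fun v => Cfsg.hermForm 4 F q v M.G1) h0
  have cb := congrArg (fun v => Cfsg.hermForm 4 F q v M.G1) h1
  simp only [h_add_left, h_smul_left, p5, p6, p7, p8, r1, r2, r3, r4, mul_zero, mul_one, add_zero, zero_add]
    at ca cy cb
  have hy : y = y' := mul_left_cancel₀ M.hδ0 (neg_injective cy)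
  have ha : a = a' := Subtype.ext (mul_right_cancel₀ M.hδ0 ca)
  have hb : b = b' := Subtype.ext (mul_right_cancel₀ M.hδ0 cb)
  rw [hy, ha, hb]

theorem lo_z (x : F) (c : M.K0) : A W (lo x) * z W c * (A W (lo x))⁻¹ =
    z W c * Z1 W (c * M.nrm x) * B W (-((c : F) * x)) := by
  refine π_inj_M' W ?_ ⟨_, _, _, rfl⟩ (by simp only [map_mul, map_inv, π_A, π_z, π_Z1, π_B, M.lo_ZM])
  let S : F → AddSubgroup M.K0 := fun x =>
    { carrier := {c | A W (lo x) * z W c * (A W (lo x))⁻¹ ∈ M' W}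
      zero_mem' := by show _ ∈ M' W; rw [z_zero, mul_one, mul_inv_cancel]; exact one_mem _
      add_mem' := fun {a b} ha hb => by
        show _ ∈ M' W
        rw [z_add, show A W (lo x) * (z W a * z W b) * (A W (lo x))⁻¹ =
          (A W (lo x) * z W a * (A W (lo x))⁻¹) * (A W (lo x) * z W b * (A W (lo x))⁻¹) by group]
        exact mul_mem ha hb
      neg_mem' := fun {a} ha => by
        show _ ∈ M' W
        rw [z_neg, show A W (lo x) * (z W a)⁻¹ * (A W (lo x))⁻¹ = (A W (lo x) * z W a * (A W (lo x))⁻¹)⁻¹ by group]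
        exact inv_mem ha }
  show c ∈ S x
  rcases eq_or_ne x 0 with rfl | hx
  · show _ ∈ M' W
    rw [lo_zero, map_one, one_mul, inv_one, mul_one]; exact z_mem W _
  have base : ∀ x₀ : F, (x₀ = 1 ∨ x₀ = (M.ω : F)) → (1 : M.K0) ∈ S x₀ := by
    intro x₀ hx₀
    show _ ∈ M' W
    have hm : r3 W x₀ ∈ single W := by rcases hx₀ with rfl | rfl <;> simp [single]
    have := pmk_single W hm
    rw [r3, map_mul, map_mul, map_mul, map_inv, map_inv, map_mul, map_mul, pmk_aw, pmk_z1W, pmk_bW, ← z_one,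
      mul_inv_eq_one] at this
    rw [this]
    exact ⟨_, _, _, rfl⟩
  obtain ⟨e, he⟩ := M.hω (Units.mk0 x hx)⁻¹
  have hxe : x = ((M.ω : F) ^ e)⁻¹ := by
    have := congrArg Units.val he
    rw [Units.val_pow_eq_pow_val, Units.val_inv_eq_inv_val, Units.val_mk0] at this
    rw [this, inv_inv]
  obtain ⟨l, x₀, hx₀, hxl⟩ : ∃ (l : ℕ) (x₀ : F), (x₀ = 1 ∨ x₀ = (M.ω : F)) ∧
      x = x₀ / ((M.ω : F) ^ l * (M.ω : F) ^ l) := by
    have hw := M.ω.ne_zero
    obtain ⟨l, rfl | rfl⟩ := Nat.even_or_odd' e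
    · exact ⟨l, 1, Or.inl rfl, by rw [hxe, two_mul, pow_add, one_div]⟩
    · refine ⟨l + 1, M.ω, Or.inr rfl, ?_⟩
      rw [hxe]
      field_simp
      ring
  refine span_squares_mul (pow_ne_zero l M.ρ₀_ne) (S x) (fun b => ?_) c
  rcases eq_or_ne b 0 with rfl | hb
  · rw [mul_zero, mul_zero]; exact (S x).zero_mem
  obtain ⟨m, rfl⟩ := M.exists_ρ_pow b hb
  set r : Fˣ := M.ω ^ l * ((ρu M) ^ m)⁻¹ with hr
  have key := conj_chain (di_M' W r) (conj_chain_pow (th_M' W) (2 * m)) _ (base x₀ hx₀)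
  rw [show A W (di r) * th W ^ (2 * m) * (A W (lo x₀) * z W 1 * (A W (lo x₀))⁻¹) *
      (A W (di r) * th W ^ (2 * m))⁻¹ =
      (A W (di r) * (th W ^ (2 * m) * A W (lo x₀) * (th W ^ (2 * m))⁻¹) * (A W (di r))⁻¹) *
      (A W (di r) * (th W ^ (2 * m) * z W 1 * (th W ^ (2 * m))⁻¹) * (A W (di r))⁻¹) *
      (A W (di r) * (th W ^ (2 * m) * A W (lo x₀) * (th W ^ (2 * m))⁻¹) * (A W (di r))⁻¹)⁻¹ by group,
    th_pow_lo, th_pow_z, A_di_lo, A_di_z] at key
  show _ ∈ M' W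
  have hw := M.ω.ne_zero
  have hρ := M.ρ_ne
  have hrv : (r : F) = (M.ω : F) ^ l / M.ρ ^ m := by
    rw [hr, Units.val_mul, Units.val_inv_eq_inv_val, Units.val_pow_eq_pow_val, Units.val_pow_eq_pow_val,
      div_eq_mul_inv]; rfl
  have e1 : x₀ / M.ρ ^ (2 * m) / ((r : F) * r) = x := by
    rw [hrv, hxl, two_mul, pow_add]
    field_simp
  have e2 : M.nrm (r : F) * (M.ρ₀ ^ (2 * (2 * m)) * 1) = M.ρ₀ ^ l * (M.ρ₀ ^ m * M.ρ₀ ^ m) := by
    refine Subtype.ext ?_
    simp only [Subfield.coe_mul, SubmonoidClass.coe_pow, ρ₀_val, nrm_val, OneMemClass.coe_one, hrv, map_div₀,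
      map_pow, M.ρ_fix, mul_one]
    rw [show M.ρ ^ l = (M.ω : F) ^ l * σ (M.ω : F) ^ l by rw [ρ, mul_pow]]
    field_simp
    ring
  rwa [e1, e2] at key

theorem lo_M' (x : F) : ∀ m ∈ M' W, A W (lo x) * m * (A W (lo x))⁻¹ ∈ M' W := by
  have hzm : ∀ x c, A W (lo x) * z W c * (A W (lo x))⁻¹ ∈ M' W := fun x c => by
    rw [lo_z]; exact ⟨_, _, _, rfl⟩
  have hz1 : ∀ c, A W (lo x) * Z1 W c * (A W (lo x))⁻¹ ∈ M' W := fun c => by
    rw [(lo_Z1 W x c).eq, mul_inv_cancel_right]; exact Z1_mem W _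
  refine conj_M' W (hzm x) hz1 fun y => ?_
  have e : B W y =
      (Z1 W (1 * M.nrm (-y)))⁻¹ * (z W 1)⁻¹ * (A W (lo (-y)) * z W 1 * (A W (lo (-y)))⁻¹) := by
    rw [lo_z]
    simp [mul_assoc]
  rw [e, show A W (lo x) * ((Z1 W (1 * M.nrm (-y)))⁻¹ * (z W 1)⁻¹ *
      (A W (lo (-y)) * z W 1 * (A W (lo (-y)))⁻¹)) * (A W (lo x))⁻¹ =
      (A W (lo x) * Z1 W (1 * M.nrm (-y)) * (A W (lo x))⁻¹)⁻¹ * (A W (lo x) * z W 1 * (A W (lo x))⁻¹)⁻¹ *
        ((A W (lo x) * A W (lo (-y))) * z W 1 * (A W (lo x) * A W (lo (-y)))⁻¹) by group,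
    ← map_mul, ← lo_add]
  exact mul_mem (mul_mem (inv_mem (hz1 _)) (inv_mem (hzm x 1))) (hzm _ _)

end Four

end CfsgLib.SUShort
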