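import Cfsg.Agent.Lib.SUShort.Field
import Cfsg.Agent.Lib.TwoGenClassical.UnitTools
import Cfsg.Agent.S2286

/-!
# Constants and small facts used for the presentation of `SU₄(q)`
-/

set_option autoImplicit false
set_option linter.unusedSectionVars false

namespace CfsgLib.SUShort

open Matrix Polynomial CfsgLib.UnitaryTransvection CfsgLib.UnitarySimple CfsgLib.TwoGenCl.Unit

universe u

/-- The squares span a finite field. -/
theorem span_squares {K : Type u} [Field K] [Finite K] (A : AddSubgroup K) (hA : ∀ a : K, a * a ∈ A) (a : K) :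
    a ∈ A := by
  haveI := Fintype.ofFinite K
  by_cases h2 : (2 : K) = 0
  · haveI : CharP K 2 := CharTwo.of_one_ne_zero_of_two_eq_zero one_ne_zero h2
    obtain ⟨b, rfl⟩ := FiniteField.isSquare_of_char_two (ringChar.eq K 2) a
    exact hA b
  · have e : a = (a + 1) / 2 * ((a + 1) / 2) - (a - 1) / 2 * ((a - 1) / 2) := by
      field_simp
      ring
    rw [e]
    exact A.sub_mem (hA _) (hA _)

/-- The multiples of squares by a fixed non-zero element span as well. -/
theorem span_squares_mul {K : Type u} [Field K] [Finite K] {k : K} (hk : k ≠ 0) (A : AddSubgroup K)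
    (hA : ∀ b : K, k * (b * b) ∈ A) (a : K) : a ∈ A := by
  have h := span_squares (A.comap (AddMonoidHom.mulLeft k)) (fun b => hA b) (a / k)
  simpa [mul_div_cancel₀ _ hk] using h

/-- Two elements generating `SL₂`. -/
theorem sl2_pair {F : Type u} [Field F] [Fintype F] (ω : Fˣ) (hω : ∀ x : Fˣ, ∃ i : ℕ, ω ^ i = x)
    (h3 : 4 ≤ Fintype.card F) (S : Subgroup (Matrix.SpecialLinearGroup (Fin 2) F))
    (hh : Cfsg.Agent.S2286.dEl (ω : F) ω.ne_zero ∈ S)
    (hg : Cfsg.Agent.S2286.wEl * Cfsg.Agent.S2286.xHom (Multiplicative.ofAdd 1) ∈ S) : S = ⊤ := by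
  classical
  have hw2 : (ω : F) * ω ≠ 1 := by
    intro e
    have h1 : ω ^ 2 = 1 := Units.ext (by rw [sq]; exact e)
    have hsub : Fintype.card Fˣ ≤ 2 := by
      refine le_trans (Finset.card_le_card (t := {1, ω}) (s := Finset.univ) fun x _ => ?_) Finset.card_le_two
      obtain ⟨i, rfl⟩ := hω x
      rw [← Nat.mod_add_div i 2, pow_add, pow_mul, h1, one_pow, mul_one]
      rcases Nat.mod_two_eq_zero_or_one i with h | h <;> simp [h]
    rw [Fintype.card_units] at hsub
    omega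
  set k : F := (ω : F) * ω * (1 - (ω : F) * ω) with hk
  have hk0 : k ≠ 0 := mul_ne_zero (mul_ne_zero ω.ne_zero ω.ne_zero) (sub_ne_zero.2 (Ne.symm hw2))
  set h := Cfsg.Agent.S2286.dEl (ω : F) ω.ne_zero with hhdef
  set g := Cfsg.Agent.S2286.wEl * Cfsg.Agent.S2286.xHom (Multiplicative.ofAdd (1 : F)) with hgdef
  have hu : h * h * (g⁻¹ * (h * g * h⁻¹)) = Cfsg.Agent.S2286.xHom (Multiplicative.ofAdd k) := by
    have e1 : h * g * h⁻¹ =
        (h * Cfsg.Agent.S2286.wEl * h⁻¹) * (h * Cfsg.Agent.S2286.xHom (Multiplicative.ofAdd 1) * h⁻¹) := by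
      rw [hgdef]; group
    have e2 : h * Cfsg.Agent.S2286.wEl * h⁻¹ = Cfsg.Agent.S2286.wEl * (h⁻¹ * h⁻¹) := by
      have hw : Cfsg.Agent.S2286.wEl * h * Cfsg.Agent.S2286.wEl⁻¹ = h⁻¹ :=
        Cfsg.Agent.S2286.weyl_inverts _ _
      have h1 : h * Cfsg.Agent.S2286.wEl = Cfsg.Agent.S2286.wEl * h⁻¹ := by
        rw [eq_mul_inv_iff_mul_eq, mul_assoc,
          show Cfsg.Agent.S2286.wEl * h = h⁻¹ * Cfsg.Agent.S2286.wEl from mul_inv_eq_iff_eq_mul.1 hw,
          mul_inv_cancel_left]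
      rw [h1, mul_assoc]
    have key : ∀ a : F, h * h * Cfsg.Agent.S2286.xHom (Multiplicative.ofAdd a) * (h * h)⁻¹ =
        Cfsg.Agent.S2286.xHom (Multiplicative.ofAdd ((ω : F) * ω * ((ω : F) * ω) * a)) := fun a => by
      calc h * h * Cfsg.Agent.S2286.xHom (Multiplicative.ofAdd a) * (h * h)⁻¹
          = h * (h * Cfsg.Agent.S2286.xHom (Multiplicative.ofAdd a) * h⁻¹) * h⁻¹ := by group
        _ = _ := by rw [Cfsg.Agent.S2286.conj_xHom, Cfsg.Agent.S2286.conj_xHom]; congr 2; ring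
    rw [e1, e2, Cfsg.Agent.S2286.conj_xHom, hgdef]
    calc _ = h * h * (Cfsg.Agent.S2286.xHom (Multiplicative.ofAdd (1 : F)))⁻¹ * (h * h)⁻¹ *
          Cfsg.Agent.S2286.xHom (Multiplicative.ofAdd ((ω : F) * ω * 1)) := by group
      _ = _ := by
        rw [← map_inv, ← ofAdd_neg, key, ← map_mul, ← ofAdd_add, hk]
        congr 2
        ring
  have hkm : Cfsg.Agent.S2286.xHom (Multiplicative.ofAdd k) ∈ S := by
    rw [← hu]; exact mul_mem (mul_mem hh hh) (mul_mem (inv_mem hg) (mul_mem (mul_mem hh hg) (inv_mem hh)))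
  have hx : ∀ a : F, Cfsg.Agent.S2286.xHom (Multiplicative.ofAdd a) ∈ S := by
    let A : AddSubgroup F :=
      (S.comap (Cfsg.Agent.S2286.xHom (F := F))).toAddSubgroup'
    intro a
    refine span_squares_mul hk0 A (fun b => ?_) a
    show Cfsg.Agent.S2286.xHom (Multiplicative.ofAdd (k * (b * b))) ∈ S
    rcases eq_or_ne b 0 with rfl | hb
    · simp
    · obtain ⟨i, hi⟩ := hω (Units.mk0 b hb)
      have hb' : (ω : F) ^ i = b := by simpa using congrArg Units.val hi
      have hpow : ∀ j : ℕ, h ^ j * Cfsg.Agent.S2286.xHom (Multiplicative.ofAdd k) * (h ^ j)⁻¹ =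
          Cfsg.Agent.S2286.xHom (Multiplicative.ofAdd ((ω : F) ^ j * (ω : F) ^ j * k)) := by
        intro j
        induction j with
        | zero => simp
        | succ j ih =>
          rw [pow_succ', _root_.mul_inv_rev]
          calc h * h ^ j * Cfsg.Agent.S2286.xHom (Multiplicative.ofAdd k) * ((h ^ j)⁻¹ * h⁻¹)
              = h * (h ^ j * Cfsg.Agent.S2286.xHom (Multiplicative.ofAdd k) * (h ^ j)⁻¹) * h⁻¹ := by group
            _ = _ := by rw [ih, Cfsg.Agent.S2286.conj_xHom]; congr 2; ring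
      have := hpow i
      rw [hb', mul_comm (b * b) k] at this
      rw [← this]
      exact mul_mem (mul_mem (pow_mem hh i) hkm) (inv_mem (pow_mem hh i))
  refine Cfsg.Agent.S2286.closure_eq_top S hx ?_
  have h1 := mul_mem hg (inv_mem (hx 1))
  rwa [hgdef, mul_inv_cancel_right] at h1

end CfsgLib.SUShort
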