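import Cfsg.Agent.Lib.SUShort.FourField
import Cfsg.Agent.Lib.TwoGenClassical.UnitDiag

/-!
# The root elements of `SU₄(q)` in a hyperbolic frame
-/

set_option autoImplicit false
set_option linter.unusedSectionVars false

namespace CfsgLib.SUShort

open Matrix Polynomial CfsgLib.UnitaryTransvection CfsgLib.UnitarySimple CfsgLib.TwoGenCl.Unit

/-- The constants and a frame. -/
structure Four (F : Type) [Field F] [Fintype F] (q : ℕ) where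
  hF : Fintype.card F = q ^ 2
  ω : Fˣ
  hω : ∀ x : Fˣ, ∃ i : ℕ, ω ^ i = x
  δ : F
  hδ0 : δ ≠ 0
  hδ : frob hF δ = -δ
  fr : Frame F q 4 2 0

variable {F : Type} [Field F] [Fintype F] {q : ℕ}

theorem exists_four (hF : Fintype.card F = q ^ 2) : Nonempty (Four F q) := by
  obtain ⟨ω, -, hω⟩ := exists_gen hF
  obtain ⟨δ, h0, hδ⟩ := exists_skew hF
  obtain ⟨fr⟩ := exists_frame (n := 4) hF 2 0 rfl
  exact ⟨⟨hF, ω, hω, δ, h0, by linear_combination hδ, fr⟩⟩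

namespace Four

variable (M : Four F q)

local notation "σ" => frob M.hF
local notation "h₄" => Cfsg.hermForm 4 F q
local notation "SL2" => Matrix.SpecialLinearGroup (Fin 2) F

/-- First vector. -/
def E0 : Fin 4 → F := M.fr.e 0
/-- Second vector. -/
def E1 : Fin 4 → F := M.fr.e 1
/-- Partner of the first. -/
def G0 : Fin 4 → F := M.fr.f 0
/-- Partner of the second. -/
def G1 : Fin 4 → F := M.fr.f 1

theorem h00 : h₄ M.E0 M.E0 = 0 ∧ h₄ M.E0 M.E1 = 0 ∧ h₄ M.E1 M.E0 = 0 ∧ h₄ M.E1 M.E1 = 0 ∧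
    h₄ M.G0 M.G0 = 0 ∧ h₄ M.G0 M.G1 = 0 ∧ h₄ M.G1 M.G0 = 0 ∧ h₄ M.G1 M.G1 = 0 := by
  simp [E0, E1, G0, G1, M.fr.ee, M.fr.ff]

theorem h01 : h₄ M.E0 M.G0 = 1 ∧ h₄ M.E0 M.G1 = 0 ∧ h₄ M.E1 M.G0 = 0 ∧ h₄ M.E1 M.G1 = 1 ∧
    h₄ M.G0 M.E0 = 1 ∧ h₄ M.G0 M.E1 = 0 ∧ h₄ M.G1 M.E0 = 0 ∧ h₄ M.G1 M.E1 = 1 := by
  simp [E0, E1, G0, G1, M.fr.ef, M.fr.fe]

/-- The coordinates of a combination. -/
theorem coords (a b c d : F) :
    h₄ (a • M.E0 + b • M.E1 + c • M.G0 + d • M.G1) M.G0 = a ∧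
    h₄ (a • M.E0 + b • M.E1 + c • M.G0 + d • M.G1) M.G1 = b ∧
    h₄ (a • M.E0 + b • M.E1 + c • M.G0 + d • M.G1) M.E0 = c ∧
    h₄ (a • M.E0 + b • M.E1 + c • M.G0 + d • M.G1) M.E1 = d := by
  obtain ⟨p1, p2, p3, p4, p5, p6, p7, p8⟩ := M.h00
  obtain ⟨r1, r2, r3, r4, r5, r6, r7, r8⟩ := M.h01
  simp [h_add_left, h_smul_left, p1, p2, p3, p4, p5, p6, p7, p8, r1, r2, r3, r4, r5, r6, r7, r8]

/-- Every vector in the frame. -/
theorem expand4 (v : Fin 4 → F) :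
    v = h₄ v M.G0 • M.E0 + h₄ v M.G1 • M.E1 + h₄ v M.E0 • M.G0 + h₄ v M.E1 • M.G1 := by
  conv_lhs => rw [M.fr.expand v]
  simp [Fintype.sum_sum_type, opp, Fin.sum_univ_two, E0, E1, G0, G1, Frame.e, Frame.f]
  abel

theorem ext4 {g g' : Cfsg.SU 4 F q} (e0 : mat g *ᵥ M.E0 = mat g' *ᵥ M.E0) (e1 : mat g *ᵥ M.E1 = mat g' *ᵥ M.E1)
    (g0 : mat g *ᵥ M.G0 = mat g' *ᵥ M.G0) (g1 : mat g *ᵥ M.G1 = mat g' *ᵥ M.G1) : g = g' := by
  refine M.fr.ext_basis ?_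
  rintro ((i | i) | i)
  · fin_cases i
    · exact e0
    · exact e1
  · fin_cases i
    · exact g0
    · exact g1
  · exact Fin.elim0 i

/-! ### The fixed field -/

/-- The fixed field. -/
abbrev K0 : Type := F0 M.hF

theorem fix (c : M.K0) : σ (c : F) = c := c.2

include M in
theorem q_gt : 1 < q := (UnitaryBasic.frob_exists M.hF).1

/-- The norm. -/
noncomputable def nrm (x : F) : M.K0 := ⟨x * σ x, by rw [mem_F0, map_mul, frob_frob, mul_comm]⟩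

theorem nrm_val (x : F) : ((M.nrm x : M.K0) : F) = x * σ x := rfl

/-- The generator of the fixed field. -/
noncomputable def ρ₀ : M.K0 := M.nrm (M.ω : F)

theorem ρ₀_ne : M.ρ₀ ≠ 0 := fun e => by
  have h := congrArg (fun c : M.K0 => (c : F)) e
  simp [ρ₀, nrm_val] at h

/-- The generator in the field. -/
noncomputable def ρ : F := (M.ω : F) * σ (M.ω : F)

theorem ρ₀_val : ((M.ρ₀ : M.K0) : F) = M.ρ := rfl

theorem ρ_ne : M.ρ ≠ 0 := mul_ne_zero M.ω.ne_zero (by simp)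

theorem ρ_fix : σ M.ρ = M.ρ := M.fix M.ρ₀

theorem exists_ρ_pow (c : M.K0) (hc : c ≠ 0) : ∃ i : ℕ, c = M.ρ₀ ^ i := by
  obtain ⟨t, ht⟩ := exists_norm_eq M.hF (c := (c : F)) c.2
  have ht0 : t ≠ 0 := fun e => hc (Subtype.ext (by simpa [e] using ht.symm))
  obtain ⟨i, hi⟩ := M.hω (Units.mk0 t ht0)
  refine ⟨i, Subtype.ext ?_⟩
  rw [SubmonoidClass.coe_pow, ρ₀_val, ρ, ← ht, mul_pow, ← map_pow]
  have : (M.ω : F) ^ i = t := by simpa using congrArg Units.val hi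
  rw [this]

theorem exists_ρ_poly (c : M.K0) : ∃ P : ℤ[X], aeval M.ρ₀ P = c := by
  rcases eq_or_ne c 0 with rfl | hc
  · exact ⟨0, map_zero _⟩
  · obtain ⟨i, rfl⟩ := M.exists_ρ_pow c hc
    exact ⟨X ^ i, by rw [map_pow, aeval_X]⟩

/-! ### The elements -/

/-- Upper unitriangular matrices. -/
def up (a : F) : SL2 := Cfsg.Agent.S2286.xHom (Multiplicative.ofAdd a)

/-- Lower unitriangular matrices. -/
def lo (a : F) : SL2 := ⟨!![1, 0; a, 1], by simp [Matrix.det_fin_two]⟩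

/-- Diagonal matrices. -/
def di (r : Fˣ) : SL2 := Cfsg.Agent.S2286.dEl (r : F) r.ne_zero

/-- The Weyl element. -/
def we : SL2 := Cfsg.Agent.S2286.wEl

theorem ok_sl (s : SL2) : Frame.Ok (r := 0) M.hF (Matrix.SpecialLinearGroup.toGL s, (1 : Fˣ)) := by
  refine ⟨by simp, ?_⟩
  show ((s : Matrix (Fin 2) (Fin 2) F)).det * _ = σ ((s : Matrix (Fin 2) (Fin 2) F)).det
  simp

/-- The embedded `SL₂`. -/
noncomputable def AM : SL2 →* Cfsg.SU 4 F q :=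
  MonoidHom.mk' (fun s => M.fr.levi M.hF _ (M.ok_sl s)) fun s s' => by
    rw [← M.fr.levi_mul M.hF]
    exact Frame.levi_congr M.hF M.fr _ _ (by rw [map_mul, Prod.mk_mul_mk, one_mul])

theorem AM_E0 (s : SL2) : mat (M.AM s) *ᵥ M.E0 = s.1 0 0 • M.E0 + s.1 1 0 • M.E1 := by
  show mat (M.fr.levi M.hF _ (M.ok_sl s)) *ᵥ M.fr.e 0 = _
  rw [M.fr.levi_e M.hF, Fin.sum_univ_two]
  rfl

theorem AM_E1 (s : SL2) : mat (M.AM s) *ᵥ M.E1 = s.1 0 1 • M.E0 + s.1 1 1 • M.E1 := by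
  show mat (M.fr.levi M.hF _ (M.ok_sl s)) *ᵥ M.fr.e 1 = _
  rw [M.fr.levi_e M.hF, Fin.sum_univ_two]
  rfl

theorem AM_inv_entries (s : SL2) :
    ((Matrix.SpecialLinearGroup.toGL s)⁻¹ : GL (Fin 2) F).1 = !![s.1 1 1, -s.1 0 1; -s.1 1 0, s.1 0 0] := by
  rw [← map_inv]
  show ((s⁻¹ : SL2) : Matrix (Fin 2) (Fin 2) F) = _
  rw [Matrix.SpecialLinearGroup.coe_inv, Matrix.adjugate_fin_two]

theorem AM_G0 (s : SL2) : mat (M.AM s) *ᵥ M.G0 = σ (s.1 1 1) • M.G0 + -σ (s.1 0 1) • M.G1 := by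
  show mat (M.fr.levi M.hF _ (M.ok_sl s)) *ᵥ M.fr.f 0 = _
  rw [M.fr.levi_f M.hF, Fin.sum_univ_two, AM_inv_entries]
  simp [G0, G1]

theorem AM_G1 (s : SL2) : mat (M.AM s) *ᵥ M.G1 = -σ (s.1 1 0) • M.G0 + σ (s.1 0 0) • M.G1 := by
  show mat (M.fr.levi M.hF _ (M.ok_sl s)) *ᵥ M.fr.f 1 = _
  rw [M.fr.levi_f M.hF, Fin.sum_univ_two, AM_inv_entries]
  simp [G0, G1]

theorem ok_hat : Frame.Ok (r := 0) M.hF (dg (F := F) 2 ![Units.mk0 M.ρ M.ρ_ne, 1], (1 : Fˣ)) := by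
  refine ⟨by simp, ?_⟩
  rw [dg_det, Fin.prod_univ_two]
  simp [M.ρ_fix]

/-- The second torus element. -/
noncomputable def hat : Cfsg.SU 4 F q := M.fr.levi M.hF _ M.ok_hat

theorem hat_E0 : mat M.hat *ᵥ M.E0 = M.ρ • M.E0 := by
  have := M.fr.levi_dg_e M.hF _ _ M.ok_hat 0
  exact this.trans (by simp [E0])

theorem hat_E1 : mat M.hat *ᵥ M.E1 = M.E1 := by
  have := M.fr.levi_dg_e M.hF _ _ M.ok_hat 1
  exact this.trans (by simp [E1])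

theorem hat_G0 : mat M.hat *ᵥ M.G0 = M.ρ⁻¹ • M.G0 := by
  have := M.fr.levi_dg_f M.hF _ _ M.ok_hat 0
  exact this.trans (by simp [G0, M.ρ_fix])

theorem hat_G1 : mat M.hat *ᵥ M.G1 = M.G1 := by
  have := M.fr.levi_dg_f M.hF _ _ M.ok_hat 1
  exact this.trans (by simp [G1])

theorem z_cond (c : M.K0) : (c : F) * M.δ + σ ((c : F) * M.δ) = 0 := by
  rw [map_mul, M.fix, M.hδ]; ring

/-- The long root elements. -/
noncomputable def ZM : Multiplicative M.K0 →* Cfsg.SU 4 F q :=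
  MonoidHom.mk' (fun c => tv M.hF M.E0 M.h00.1 ((Multiplicative.toAdd c : M.K0) * M.δ) (M.z_cond _)) fun c d => by
    refine su_ext fun x => ?_
    rw [mat_mul, ← mulVec_mulVec, tv_mulVec, tv_mulVec, tv_mulVec, h_add_left, h_smul_left, M.h00.1]
    simp only [toAdd_mul, Subfield.coe_add]
    module

theorem ZM_mulVec (c : M.K0) (x : Fin 4 → F) :
    mat (M.ZM (Multiplicative.ofAdd c)) *ᵥ x = x + ((c : F) * M.δ * h₄ x M.E0) • M.E0 :=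
  tv_mulVec M.hF M.E0 M.h00.1 ((c : F) * M.δ) (M.z_cond c) x

theorem ZM_E0 (c : M.K0) : mat (M.ZM (Multiplicative.ofAdd c)) *ᵥ M.E0 = M.E0 := by
  rw [ZM_mulVec, M.h00.1]; simp

theorem ZM_E1 (c : M.K0) : mat (M.ZM (Multiplicative.ofAdd c)) *ᵥ M.E1 = M.E1 := by
  rw [ZM_mulVec, M.h00.2.2.1]; simp

theorem ZM_G0 (c : M.K0) :
    mat (M.ZM (Multiplicative.ofAdd c)) *ᵥ M.G0 = M.G0 + ((c : F) * M.δ) • M.E0 := by
  rw [ZM_mulVec, M.h01.2.2.2.2.1, mul_one]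

theorem ZM_G1 (c : M.K0) : mat (M.ZM (Multiplicative.ofAdd c)) *ᵥ M.G1 = M.G1 := by
  rw [ZM_mulVec, M.h01.2.2.2.2.2.2.1]; simp

theorem lower_cond : -M.δ⁻¹ + σ (-M.δ⁻¹) = 0 := by
  rw [map_neg, map_inv₀, M.hδ, inv_neg]; ring

/-- The reflection at the first coordinate. -/
noncomputable def nn : Cfsg.SU 4 F q :=
  M.ZM (Multiplicative.ofAdd 1) * tv M.hF M.G0 M.h00.2.2.2.2.1 _ M.lower_cond * M.ZM (Multiplicative.ofAdd 1)

theorem nn_E0 : mat M.nn *ᵥ M.E0 = -M.δ⁻¹ • M.G0 := by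
  rw [nn, mat_mul, mat_mul, ← mulVec_mulVec, ← mulVec_mulVec, M.ZM_E0, tv_mulVec, M.h01.1, mulVec_add,
    mulVec_smul, M.ZM_E0, M.ZM_G0]
  have := M.hδ0
  simp only [OneMemClass.coe_one, one_mul, mul_one]
  match_scalars <;> field_simp
  ring

theorem nn_E1 : mat M.nn *ᵥ M.E1 = M.E1 := by
  rw [nn, mat_mul, mat_mul, ← mulVec_mulVec, ← mulVec_mulVec, M.ZM_E1, tv_mulVec, M.h01.2.2.1, mul_zero,
    zero_smul, add_zero, M.ZM_E1]

theorem nn_G0 : mat M.nn *ᵥ M.G0 = M.δ • M.E0 := by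
  rw [nn, mat_mul, mat_mul, ← mulVec_mulVec, ← mulVec_mulVec, M.ZM_G0, tv_mulVec, h_add_left, h_smul_left,
    M.h00.2.2.2.2.1, M.h01.1]
  simp only [mulVec_add, mulVec_smul, M.ZM_E0, M.ZM_G0, OneMemClass.coe_one, one_mul, mul_one, zero_add]
  have := M.hδ0
  match_scalars <;> field_simp <;> ring

theorem nn_G1 : mat M.nn *ᵥ M.G1 = M.G1 := by
  rw [nn, mat_mul, mat_mul, ← mulVec_mulVec, ← mulVec_mulVec, M.ZM_G1, tv_mulVec, M.h00.2.2.2.2.2.2.1, mul_zero,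
    zero_smul, add_zero, M.ZM_G1]

theorem nni_E0 : mat M.nn⁻¹ *ᵥ M.E0 = M.δ⁻¹ • M.G0 := by
  have h := mat_inv_mulVec' M.nn M.G0
  rw [M.nn_G0, mulVec_smul] at h
  rw [← h, smul_smul, inv_mul_cancel₀ M.hδ0, one_smul]

theorem nni_G0 : mat M.nn⁻¹ *ᵥ M.G0 = -M.δ • M.E0 := by
  have h := mat_inv_mulVec' M.nn M.E0
  rw [M.nn_E0, mulVec_smul] at h
  rw [← h, smul_smul, neg_mul_neg, mul_inv_cancel₀ M.hδ0, one_smul]

theorem nni_E1 : mat M.nn⁻¹ *ᵥ M.E1 = M.E1 := by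
  conv_lhs => rw [← M.nn_E1]
  exact mat_inv_mulVec' _ _

theorem nni_G1 : mat M.nn⁻¹ *ᵥ M.G1 = M.G1 := by
  conv_lhs => rw [← M.nn_G1]
  exact mat_inv_mulVec' _ _

/-! ### Identities -/

/-- Conjugation by the second torus element on the embedded `SL₂`. -/
noncomputable def θ : SL2 →* SL2 :=
  MonoidHom.mk' (fun s => ⟨!![s.1 0 0, M.ρ * s.1 0 1; M.ρ⁻¹ * s.1 1 0, s.1 1 1], by
    have h := s.2
    have := M.ρ_ne
    rw [Matrix.det_fin_two] at h ⊢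
    simp only [Matrix.of_apply, Matrix.cons_val', Matrix.cons_val_zero, Matrix.cons_val_one,
      Matrix.cons_val_fin_one, Matrix.empty_val']
    field_simp
    linear_combination h⟩) fun s t => by
    have := M.ρ_ne
    apply Subtype.ext
    show !![(s * t).1 0 0, M.ρ * (s * t).1 0 1; M.ρ⁻¹ * (s * t).1 1 0, (s * t).1 1 1] =
      !![s.1 0 0, M.ρ * s.1 0 1; M.ρ⁻¹ * s.1 1 0, s.1 1 1] * !![t.1 0 0, M.ρ * t.1 0 1; M.ρ⁻¹ * t.1 1 0, t.1 1 1]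
    simp only [Matrix.SpecialLinearGroup.coe_mul]
    ext i j
    fin_cases i <;> fin_cases j <;> simp [Matrix.mul_apply, Fin.sum_univ_two] <;> field_simp <;> ring

theorem θ_val (s : SL2) :
    ((M.θ s : SL2) : Matrix (Fin 2) (Fin 2) F) = !![s.1 0 0, M.ρ * s.1 0 1; M.ρ⁻¹ * s.1 1 0, s.1 1 1] := rfl

theorem hat_AM (s : SL2) : M.hat * M.AM s = M.AM (M.θ s) * M.hat := by
  have := M.ρ_ne
  refine M.ext4 ?_ ?_ ?_ ?_ <;> rw [mat_mul, mat_mul, ← mulVec_mulVec, ← mulVec_mulVec]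
  · rw [M.hat_E0, M.AM_E0, mulVec_add, mulVec_smul, mulVec_smul, M.hat_E0, M.hat_E1, mulVec_smul, M.AM_E0, θ_val]
    simp only [Matrix.of_apply, Matrix.cons_val', Matrix.cons_val_zero, Matrix.cons_val_one, Matrix.cons_val_fin_one]
    match_scalars <;> field_simp
  · rw [M.hat_E1, M.AM_E1, mulVec_add, mulVec_smul, mulVec_smul, M.hat_E0, M.hat_E1, M.AM_E1, θ_val]
    simp only [Matrix.of_apply, Matrix.cons_val', Matrix.cons_val_zero, Matrix.cons_val_one, Matrix.cons_val_fin_one]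
    match_scalars <;> field_simp
  · rw [M.hat_G0, M.AM_G0, mulVec_add, mulVec_smul, mulVec_smul, M.hat_G0, M.hat_G1, mulVec_smul, M.AM_G0, θ_val]
    simp only [Matrix.of_apply, Matrix.cons_val', Matrix.cons_val_zero, Matrix.cons_val_one, Matrix.cons_val_fin_one,
      map_mul, M.ρ_fix]
    match_scalars <;> field_simp
  · rw [M.hat_G1, M.AM_G1, mulVec_add, mulVec_smul, mulVec_smul, M.hat_G0, M.hat_G1, M.AM_G1, θ_val]
    simp only [Matrix.of_apply, Matrix.cons_val', Matrix.cons_val_zero, Matrix.cons_val_one, Matrix.cons_val_fin_one,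
      map_mul, map_inv₀, M.ρ_fix]
    match_scalars <;> field_simp

/-- The torus element of `SL₂` scales the long root elements. -/
theorem ZM_conj (c : M.K0) :
    M.AM (di M.ω) * M.ZM (Multiplicative.ofAdd c) * (M.AM (di M.ω))⁻¹ = M.ZM (Multiplicative.ofAdd (M.ρ₀ * c)) := by
  show M.AM (di M.ω) * tv M.hF M.E0 M.h00.1 ((c : F) * M.δ) (M.z_cond c) * (M.AM (di M.ω))⁻¹ = _
  rw [conj_tv]
  refine su_ext fun x => ?_
  rw [tv_mulVec, ZM_mulVec, M.AM_E0]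
  simp [di, Cfsg.Agent.S2286.dEl, h_smul_right M.hF, ρ₀_val, ρ, smul_smul]
  congr 1
  ring

theorem AM_fix_comm {s : SL2} (h0 : s.1 0 0 = 1) (h1 : s.1 1 0 = 0) (c : M.K0) :
    Commute (M.ZM (Multiplicative.ofAdd c)) (M.AM s) := by
  have e : M.AM s * tv M.hF M.E0 M.h00.1 ((c : F) * M.δ) (M.z_cond _) * (M.AM s)⁻¹ =
      tv M.hF M.E0 M.h00.1 ((c : F) * M.δ) (M.z_cond _) := by
    rw [conj_tv]
    refine su_ext fun x => ?_
    rw [tv_mulVec, tv_mulVec, M.AM_E0, h0, h1, one_smul, zero_smul, add_zero]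
  exact (mul_inv_eq_iff_eq_mul.1 e).symm

theorem we_E0 : mat (M.AM we) *ᵥ M.E0 = -M.E1 := by
  rw [M.AM_E0]; simp [we, Cfsg.Agent.S2286.wEl]

theorem we_E1 : mat (M.AM we) *ᵥ M.E1 = M.E0 := by
  rw [M.AM_E1]; simp [we, Cfsg.Agent.S2286.wEl]

theorem we_G0 : mat (M.AM we) *ᵥ M.G0 = -M.G1 := by
  rw [M.AM_G0]; simp [we, Cfsg.Agent.S2286.wEl]

theorem we_G1 : mat (M.AM we) *ᵥ M.G1 = M.G0 := by
  rw [M.AM_G1]; simp [we, Cfsg.Agent.S2286.wEl]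

theorem wei_E0 : mat (M.AM we)⁻¹ *ᵥ M.E0 = M.E1 := by
  conv_lhs => rw [← M.we_E1]
  exact mat_inv_mulVec' _ _

theorem wei_G0 : mat (M.AM we)⁻¹ *ᵥ M.G0 = M.G1 := by
  conv_lhs => rw [← M.we_G1]
  exact mat_inv_mulVec' _ _

theorem wei_E1 : mat (M.AM we)⁻¹ *ᵥ M.E1 = -M.E0 := by
  conv_lhs => rw [show M.E1 = -(mat (M.AM we) *ᵥ M.E0) by rw [M.we_E0, neg_neg], mulVec_neg, mat_inv_mulVec']

theorem wei_G1 : mat (M.AM we)⁻¹ *ᵥ M.G1 = -M.G0 := by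
  conv_lhs => rw [show M.G1 = -(mat (M.AM we) *ᵥ M.G0) by rw [M.we_G0, neg_neg], mulVec_neg, mat_inv_mulVec']

/-- The other long root elements. -/
noncomputable def Z1M (c : M.K0) : Cfsg.SU 4 F q :=
  M.AM we * M.ZM (Multiplicative.ofAdd c) * (M.AM we)⁻¹

theorem Z1M_mulVec (c : M.K0) (x : Fin 4 → F) :
    mat (M.Z1M c) *ᵥ x = x + ((c : F) * M.δ * h₄ x M.E1) • M.E1 := by
  show mat (M.AM we * tv M.hF M.E0 M.h00.1 ((c : F) * M.δ) (M.z_cond _) * (M.AM we)⁻¹) *ᵥ x = _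
  rw [conj_tv, tv_mulVec, M.we_E0, ← neg_one_smul F M.E1, h_smul_right M.hF, map_neg, map_one, smul_smul]
  match_scalars <;> ring

theorem Z1M_E0 (c : M.K0) : mat (M.Z1M c) *ᵥ M.E0 = M.E0 := by rw [Z1M_mulVec, M.h00.2.1]; simp
theorem Z1M_E1 (c : M.K0) : mat (M.Z1M c) *ᵥ M.E1 = M.E1 := by rw [Z1M_mulVec, M.h00.2.2.2.1]; simp
theorem Z1M_G0 (c : M.K0) : mat (M.Z1M c) *ᵥ M.G0 = M.G0 := by rw [Z1M_mulVec, M.h01.2.2.2.2.2.1]; simp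
theorem Z1M_G1 (c : M.K0) : mat (M.Z1M c) *ᵥ M.G1 = M.G1 + ((c : F) * M.δ) • M.E1 := by
  rw [Z1M_mulVec, M.h01.2.2.2.2.2.2.2, mul_one]

theorem ZM_Z1M (a b : M.K0) : Commute (M.ZM (Multiplicative.ofAdd a)) (M.Z1M b) := by
  refine M.ext4 ?_ ?_ ?_ ?_ <;> rw [mat_mul, mat_mul, ← mulVec_mulVec, ← mulVec_mulVec] <;>
    simp [mulVec_add, mulVec_smul, M.ZM_E0, M.ZM_E1, M.ZM_G0, M.ZM_G1, M.Z1M_E0, M.Z1M_E1, M.Z1M_G0, M.Z1M_G1]

/-- The short root elements in the abelian subgroup. -/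
noncomputable def BM (y : F) : Cfsg.SU 4 F q := M.nn * M.AM (lo y) * M.nn⁻¹

theorem BM_E0 (y : F) : mat (M.BM y) *ᵥ M.E0 = M.E0 := by
  have := M.hδ0
  rw [BM, mat_mul, mat_mul, ← mulVec_mulVec, ← mulVec_mulVec, M.nni_E0, mulVec_smul, M.AM_G0, mulVec_smul,
    mulVec_add, mulVec_smul, mulVec_smul, M.nn_G0, M.nn_G1]
  simp only [lo, Matrix.of_apply, Matrix.cons_val', Matrix.cons_val_zero, Matrix.cons_val_one,
    Matrix.cons_val_fin_one, map_zero, map_one]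
  match_scalars <;> field_simp
  all_goals simp

theorem BM_E1 (y : F) : mat (M.BM y) *ᵥ M.E1 = M.E1 := by
  rw [BM, mat_mul, mat_mul, ← mulVec_mulVec, ← mulVec_mulVec, M.nni_E1, M.AM_E1, mulVec_add,
    mulVec_smul, mulVec_smul, M.nn_E0, M.nn_E1]
  simp [lo]

theorem BM_G0 (y : F) : mat (M.BM y) *ᵥ M.G0 = M.G0 + (-(M.δ * y)) • M.E1 := by
  have := M.hδ0
  rw [BM, mat_mul, mat_mul, ← mulVec_mulVec, ← mulVec_mulVec, M.nni_G0, mulVec_smul, M.AM_E0, mulVec_smul,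
    mulVec_add, mulVec_smul, mulVec_smul, M.nn_E0, M.nn_E1]
  simp only [lo, Matrix.of_apply, Matrix.cons_val', Matrix.cons_val_zero, Matrix.cons_val_one,
    Matrix.cons_val_fin_one]
  match_scalars <;> field_simp

theorem BM_G1 (y : F) : mat (M.BM y) *ᵥ M.G1 = M.G1 + (-(M.δ * σ y)) • M.E0 := by
  rw [BM, mat_mul, mat_mul, ← mulVec_mulVec, ← mulVec_mulVec, M.nni_G1, M.AM_G1, mulVec_add,
    mulVec_smul, mulVec_smul, M.nn_G0, M.nn_G1]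
  simp only [lo, Matrix.of_apply, Matrix.cons_val', Matrix.cons_val_zero, Matrix.cons_val_one,
    Matrix.cons_val_fin_one, map_one]
  match_scalars <;> ring

/-- The commutator formula. -/
theorem lo_ZM (x : F) (c : M.K0) :
    M.AM (lo x) * M.ZM (Multiplicative.ofAdd c) * (M.AM (lo x))⁻¹ =
      M.ZM (Multiplicative.ofAdd c) * M.Z1M (c * M.nrm x) * M.BM (-((c : F) * x)) := by
  have e : ∀ v, mat (M.AM (lo x) * M.ZM (Multiplicative.ofAdd c) * (M.AM (lo x))⁻¹) *ᵥ v =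
      v + ((c : F) * M.δ * h₄ v (M.E0 + x • M.E1)) • (M.E0 + x • M.E1) := fun v => by
    show mat (M.AM (lo x) * tv M.hF M.E0 M.h00.1 ((c : F) * M.δ) (M.z_cond _) * (M.AM (lo x))⁻¹) *ᵥ v = _
    rw [conj_tv, tv_mulVec, M.AM_E0]
    simp [lo]
  obtain ⟨p1, p2, p3, p4, p5, p6, p7, p8⟩ := M.h00
  obtain ⟨r1, r2, r3, r4, r5, r6, r7, r8⟩ := M.h01
  refine M.ext4 ?_ ?_ ?_ ?_ <;> rw [e, h_add_right M.hF, h_smul_right M.hF, mat_mul, mat_mul,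
    ← mulVec_mulVec, ← mulVec_mulVec]
  · rw [M.BM_E0, M.Z1M_E0, M.ZM_E0, p1, p2]; simp
  · rw [M.BM_E1, M.Z1M_E1, M.ZM_E1, p3, p4]; simp
  · rw [M.BM_G0, mulVec_add, mulVec_smul, M.Z1M_G0, M.Z1M_E1, mulVec_add, mulVec_smul, M.ZM_G0, M.ZM_E1, r5, r6]
    match_scalars <;> ring
  · rw [M.BM_G1, mulVec_add, mulVec_smul, M.Z1M_G1, M.Z1M_E0, mulVec_add, mulVec_add, mulVec_smul, mulVec_smul,
      M.ZM_G1, M.ZM_E1, M.ZM_E0, r7, r8]
    simp only [map_neg, map_mul, M.fix, Subfield.coe_mul, nrm_val]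
    match_scalars <;> ring

theorem we_BM (y : F) : M.AM we * M.BM y * (M.AM we)⁻¹ = M.BM (-σ y) := by
  refine M.ext4 ?_ ?_ ?_ ?_ <;> rw [mat_mul, mat_mul, ← mulVec_mulVec, ← mulVec_mulVec]
  · rw [M.wei_E0, M.BM_E1, M.we_E1, M.BM_E0]
  · rw [M.wei_E1, mulVec_neg, M.BM_E0, mulVec_neg, M.we_E0, M.BM_E1, neg_neg]
  · rw [M.wei_G0, M.BM_G1, mulVec_add, mulVec_smul, M.we_G1, M.we_E0, M.BM_G0]
    match_scalars <;> ring
  · rw [M.wei_G1, mulVec_neg, M.BM_G0, mulVec_neg, mulVec_add, mulVec_smul, M.we_G0, M.we_E1, M.BM_G1,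
      map_neg, frob_frob]
    match_scalars <;> ring

theorem nn_di : M.nn * M.AM (di M.ω) * M.nn⁻¹ = M.hat⁻¹ * M.AM (di M.ω) := by
  have := M.hδ0
  have := M.ρ_ne
  have := M.ω.ne_zero
  have hs : σ (M.ω : F) ≠ 0 := by simp
  have hd : (di M.ω).1 = !![(M.ω : F), 0; 0, (M.ω : F)⁻¹] := rfl
  rw [eq_inv_mul_iff_mul_eq]
  refine M.ext4 ?_ ?_ ?_ ?_ <;> simp only [mat_mul, ← mulVec_mulVec]
  · rw [M.nni_E0, mulVec_smul, M.AM_G0, hd, M.AM_E0, hd]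
    simp [mulVec_add, mulVec_smul, M.nn_G0, M.hat_E0, smul_smul, ρ]
    congr 1
    field_simp
  · rw [M.nni_E1, M.AM_E1, hd]
    simp [mulVec_add, mulVec_smul, M.nn_E1, M.hat_E1]
  · rw [M.nni_G0, mulVec_smul, M.AM_E0, hd, M.AM_G0, hd]
    simp [mulVec_add, mulVec_smul, mulVec_neg, ← mulVec_mulVec, M.nn_E0, M.hat_G0, smul_smul, ρ, M.hδ0]
    congr 1
    field_simp
  · rw [M.nni_G1, M.AM_G1, hd]
    simp [mulVec_add, mulVec_smul, M.nn_G1, M.hat_G1]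

theorem nn_hat : M.nn * M.hat * M.nn⁻¹ = M.hat⁻¹ := by
  have := M.hδ0
  have := M.ρ_ne
  rw [eq_inv_iff_mul_eq_one]
  refine M.ext4 ?_ ?_ ?_ ?_ <;> simp only [mat_mul, ← mulVec_mulVec, mat_one, one_mulVec]
  · rw [M.hat_E0]
    simp only [mulVec_smul, M.nni_E0, M.hat_G0, M.nn_G0, smul_smul]
    match_scalars
    field_simp
  · rw [M.hat_E1, M.nni_E1, M.hat_E1, M.nn_E1]
  · rw [M.hat_G0]
    simp only [mulVec_smul, M.nni_G0, M.hat_E0, M.nn_E0, smul_smul]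
    match_scalars
    field_simp
  · rw [M.hat_G1, M.nni_G1, M.hat_G1, M.nn_G1]

/-- The opposite long root elements. -/
theorem nn_ZM (c : M.K0) (x : Fin 4 → F) :
    mat (M.nn * M.ZM (Multiplicative.ofAdd c) * M.nn⁻¹) *ᵥ x = x + (-((c : F) * M.δ⁻¹) * h₄ x M.G0) • M.G0 := by
  show mat (M.nn * tv M.hF M.E0 M.h00.1 ((c : F) * M.δ) (M.z_cond _) * M.nn⁻¹) *ᵥ x = _
  rw [conj_tv, tv_mulVec, M.nn_E0, h_smul_right M.hF, map_neg, map_inv₀, M.hδ, smul_smul]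
  have := M.hδ0
  match_scalars <;> field_simp

theorem nn_word :
    M.ZM (Multiplicative.ofAdd 1) * (M.nn * M.ZM (Multiplicative.ofAdd 1) * M.nn⁻¹) * M.ZM (Multiplicative.ofAdd 1) =
      M.nn := by
  have e : M.nn * M.ZM (Multiplicative.ofAdd 1) * M.nn⁻¹ =
      tv M.hF M.G0 M.h00.2.2.2.2.1 (-M.δ⁻¹) M.lower_cond := by
    refine su_ext fun x => ?_
    rw [M.nn_ZM, tv_mulVec]
    simp
  rw [e]
  rfl

theorem hat_word :
    M.ZM (Multiplicative.ofAdd M.ρ₀) * (M.nn * M.ZM (Multiplicative.ofAdd M.ρ₀⁻¹) * M.nn⁻¹) *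
      M.ZM (Multiplicative.ofAdd M.ρ₀) = M.hat * M.nn := by
  have := M.hδ0
  have := M.ρ_ne
  obtain ⟨p1, p2, p3, p4, p5, p6, p7, p8⟩ := M.h00
  obtain ⟨r1, r2, r3, r4, r5, r6, r7, r8⟩ := M.h01
  refine M.ext4 ?_ ?_ ?_ ?_ <;> simp only [mat_mul, ← mulVec_mulVec]
  · have e := M.nn_ZM M.ρ₀⁻¹ M.E0
    simp only [mat_mul, ← mulVec_mulVec] at e
    rw [M.ZM_E0, e, r1, M.nn_E0, mulVec_add, mulVec_smul, M.ZM_E0, M.ZM_G0, mulVec_smul, M.hat_G0]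
    simp only [ρ₀_val, Subfield.coe_inv]
    match_scalars <;> field_simp
    ring
  · have e := M.nn_ZM M.ρ₀⁻¹ M.E1
    simp only [mat_mul, ← mulVec_mulVec] at e
    rw [M.ZM_E1, e, r3, M.nn_E1, M.hat_E1]
    simp [M.ZM_E1]
  · have e := M.nn_ZM M.ρ₀⁻¹ (M.G0 + (M.ρ * M.δ) • M.E0)
    simp only [mat_mul, ← mulVec_mulVec] at e
    rw [M.ZM_G0, ρ₀_val, e, h_add_left, h_smul_left, p5, r1, M.nn_G0, mulVec_add, mulVec_add, mulVec_smul,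
      mulVec_smul, M.ZM_E0, M.ZM_G0, mulVec_smul, M.hat_E0]
    simp only [ρ₀_val, Subfield.coe_inv]
    match_scalars <;> field_simp <;> ring
  · have e := M.nn_ZM M.ρ₀⁻¹ M.G1
    simp only [mat_mul, ← mulVec_mulVec] at e
    rw [M.ZM_G1, e, p7, M.nn_G1, M.hat_G1]
    simp [M.ZM_G1]

theorem nn_Z1M (c : M.K0) : Commute M.nn (M.Z1M c) := by
  refine M.ext4 ?_ ?_ ?_ ?_ <;> rw [mat_mul, mat_mul, ← mulVec_mulVec, ← mulVec_mulVec] <;>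
    simp [mulVec_add, mulVec_smul, mulVec_neg, M.nn_E0, M.nn_E1, M.nn_G0, M.nn_G1, M.Z1M_E0, M.Z1M_E1, M.Z1M_G0, M.Z1M_G1]

theorem nn_nn1 : Commute M.nn (M.AM we * M.nn * (M.AM we)⁻¹) := by
  refine M.ext4 ?_ ?_ ?_ ?_ <;> simp only [mat_mul, ← mulVec_mulVec] <;>
    simp [mulVec_add, mulVec_smul, mulVec_neg, M.nn_E0, M.nn_E1, M.nn_G0, M.nn_G1, M.we_E0, M.we_E1, M.we_G0,
      M.we_G1, M.wei_E0, M.wei_E1, M.wei_G0, M.wei_G1]

end Four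

end CfsgLib.SUShort
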