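import Cfsg.Agent.Lib.SUShort.FourModel
import Cfsg.Agent.Lib.ShortPres.Transfer2
import Cfsg.Agent.Lib.SLShort.Counts

/-!
# The relators for `SU₄(q)`
-/

set_option autoImplicit false
set_option linter.unusedSectionVars false

namespace CfsgLib.SUShort

open Matrix Polynomial CfsgLib.UnitaryTransvection CfsgLib.UnitarySimple CfsgLib.TwoGenCl.Unit
open CfsgLib.SL2Pres (cj ev map_cj map_ev ev_eq_hom IsModuleRels exists_moduleRels)
open CfsgLib.ShortPres (Presents exists_word)

variable {F : Type} [Field F] [Fintype F] {q : ℕ}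

/-- A presentation of `SL₂` with few relations, and fewer in characteristic two. -/
theorem exists_sl2_presents (F : Type) [Field F] [Fintype F] :
    ∃ (x : Fin 3 → Matrix.SpecialLinearGroup (Fin 2) F) (rels : Finset (FreeGroup (Fin 3))),
      rels.card ≤ 9 ∧ (CharP F 2 → rels.card ≤ 5) ∧ Presents rels x := by
  classical
  obtain ⟨⟨r1, hc1, ⟨e1⟩⟩, -, h2⟩ := Cfsg.Agent.S2286.result (F := F)
  by_cases hc : CharP F 2
  · obtain ⟨r, hr, ⟨e⟩⟩ := h2 hc
    have htriv : Subgroup.center (Matrix.SpecialLinearGroup (Fin 2) F) = ⊥ := by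
      rw [eq_bot_iff]
      intro g hg
      obtain ⟨c, hc2, hcg⟩ := Matrix.SpecialLinearGroup.mem_center_iff.1 hg
      rw [Fintype.card_fin] at hc2
      have hc1 : c = 1 := by
        have : (c + 1) * (c + 1) = 0 := by
          have h2' : (2 : F) = 0 := CharTwo.two_eq_zero
          linear_combination hc2 + (c + 1) * h2'
        rcases mul_self_eq_zero.1 this with h
        rw [add_eq_zero_iff_eq_neg, CharTwo.neg_eq] at h
        exact h
      rw [Subgroup.mem_bot]
      refine Subtype.ext ?_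
      rw [← hcg, hc1]
      simp
    let e' : Matrix.ProjectiveSpecialLinearGroup (Fin 2) F ≃* Matrix.SpecialLinearGroup (Fin 2) F :=
      (QuotientGroup.quotientMulEquivOfEq htriv).trans QuotientGroup.quotientBot
    exact ⟨_, r, hr.trans (by norm_num), fun _ => hr, Presents.of_iso (e.trans e') fun k => rfl⟩
  · exact ⟨_, r1, hc1, fun h => absurd h hc, Presents.of_iso e1 fun k => rfl⟩

/-- The choices entering the relators. -/
structure FourData (M : Four F q) where
  x2 : Fin 3 → Matrix.SpecialLinearGroup (Fin 2) F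
  rels2 : Finset (FreeGroup (Fin 3))
  hP2 : Presents rels2 x2
  hlen2 : rels2.card ≤ 9 ∧ (CharP F 2 → rels2.card ≤ 5)
  R₀ : List (FreeGroup (Fin 3))
  hlen0 : R₀.length ≤ 5 ∧ (CharP F 2 → R₀.length ≤ 3)
  hR₀ : IsModuleRels M.ρ₀ R₀

theorem exists_fourData (M : Four F q) : Nonempty (FourData M) := by
  classical
  obtain ⟨x, rels, h9, h5, hP⟩ := exists_sl2_presents F
  obtain ⟨p, hpc⟩ := CharP.exists F
  haveI := hpc
  haveI : Fact p.Prime := ⟨CharP.char_is_prime F p⟩
  haveI := Fintype.ofFinite M.K0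
  haveI : CharP M.K0 p := (RingHom.charP_iff ((F0 M.hF).subtype) Subtype.val_injective p).2 hpc
  obtain ⟨f, -, hf⟩ := FiniteField.card M.K0 p
  obtain ⟨R, hR, hR'⟩ := exists_moduleRels p hf M.ρ₀ M.exists_ρ_poly fun a ha => by
    obtain ⟨i, rfl⟩ := M.exists_ρ_pow a ha
    exact ⟨i + i, (pow_add _ _ _).symm⟩
  refine ⟨⟨x, rels, hP, ⟨h9, h5⟩, R, ⟨hR.trans (by split_ifs <;> omega), fun h2 => ?_⟩, hR'⟩⟩
  rw [if_pos (CharP.eq F hpc h2)] at hR
  exact hR

/-- The letters. -/
abbrev L4 : Type := Fin 3 ⊕ Fin 2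

/-- A commutator word. -/
def cmw {G : Type*} [Group G] (a b : G) : G := a * b * a⁻¹ * b⁻¹

theorem cmw_eq_one {G : Type*} [Group G] {a b : G} : cmw a b = 1 ↔ Commute a b := by
  rw [cmw, mul_inv_eq_one, mul_inv_eq_iff_eq_mul]
  exact Iff.rfl

theorem map_cmw {G G' : Type*} [Group G] [Group G'] (f : G →* G') (a b : G) : f (cmw a b) = cmw (f a) (f b) := by
  simp [cmw]

/-- The letter of the long root element. -/
def zL : FreeGroup L4 := FreeGroup.of (Sum.inr 0)
/-- The letter of the reflection. -/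
def nL : FreeGroup L4 := FreeGroup.of (Sum.inr 1)

namespace Four

variable {M : Four F q} (W : FourData M)

local notation "σ" => frob M.hF
local notation "SL2" => Matrix.SpecialLinearGroup (Fin 2) F

/-- Words for the elements of `SL₂`. -/
noncomputable def aw (s : SL2) : FreeGroup L4 :=
  FreeGroup.map Sum.inl (exists_word W.hP2.gen s).choose

/-- The word of the torus element. -/
noncomputable def hw : FreeGroup L4 := aw W (di M.ω)

/-- The word of the Weyl element. -/
noncomputable def tw : FreeGroup L4 := aw W we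

/-- Words for the long root elements. -/
noncomputable def zW (c : M.K0) : FreeGroup L4 := ev (hw W) zL 1 (M.exists_ρ_poly c).choose

/-- Words for the other long root elements. -/
noncomputable def z1W (c : M.K0) : FreeGroup L4 := tw W * zW W c * (tw W)⁻¹

/-- Words for the short root elements. -/
noncomputable def bW (y : F) : FreeGroup L4 := nL * aw W (lo y) * nL⁻¹

/-- The word of the second torus element. -/
noncomputable def thw : FreeGroup L4 :=
  zW W M.ρ₀ * (nL * zW W M.ρ₀⁻¹ * nL⁻¹) * zW W M.ρ₀ * nL⁻¹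

/-- The module relators, in the letters. -/
noncomputable def ι4 : FreeGroup (Fin 3) →* FreeGroup L4 := FreeGroup.lift ![zL, 1, hw W]

/-- The commutator relators between root elements. -/
noncomputable def r3 (x : F) : FreeGroup L4 :=
  aw W (lo x) * zL * (aw W (lo x))⁻¹ * (zL * z1W W (M.nrm x) * bW W (-x))⁻¹

/-- The single relators. -/
noncomputable def single : List (FreeGroup L4) :=
  [cmw zL (aw W (up 1)), cmw zL (tw W * zL * (tw W)⁻¹), r3 W 1, r3 W (M.ω : F),
    tw W * bW W 1 * (tw W)⁻¹ * (bW W (-1))⁻¹,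
    cmw (thw W) (hw W),
    thw W * aw W (we * up 1) * (thw W)⁻¹ * (aw W (M.θ (we * up 1)))⁻¹,
    nL * hw W * nL⁻¹ * ((thw W)⁻¹ * hw W)⁻¹,
    nL * thw W * nL⁻¹ * thw W,
    zL * (nL * zL * nL⁻¹) * zL * nL⁻¹,
    cmw nL (tw W * zL * (tw W)⁻¹),
    cmw nL (tw W * nL * (tw W)⁻¹)]

/-- All relators. -/
noncomputable def rels : List (FreeGroup L4) :=
  W.rels2.toList.map (FreeGroup.map Sum.inl) ++ W.R₀.map (ι4 W) ++ single W

theorem length_rels : (rels W).length ≤ 26 ∧ (CharP F 2 → (rels W).length ≤ 20) := by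
  have h : (rels W).length = W.rels2.card + W.R₀.length + 12 := by simp [rels, single, Nat.add_assoc]
  refine ⟨by have := W.hlen2.1; have := W.hlen0.1; omega, fun h2 => ?_⟩
  have := W.hlen2.2 h2
  have := W.hlen0.2 h2
  omega

/-- The images of the letters. -/
noncomputable def gens : L4 → Cfsg.SU 4 F q :=
  Sum.elim (fun k => M.AM (W.x2 k)) ![M.ZM (Multiplicative.ofAdd 1), M.nn]

/-- The standard map. -/
noncomputable def ev4 : FreeGroup L4 →* Cfsg.SU 4 F q := FreeGroup.lift (gens W)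

theorem ev4_inl : (ev4 W).comp (FreeGroup.map Sum.inl) = M.AM.comp (FreeGroup.lift W.x2) := by
  ext k
  simp [ev4, gens]

theorem ev4_aw (s : SL2) : ev4 W (aw W s) = M.AM s := by
  have h := DFunLike.congr_fun (ev4_inl W) (exists_word W.hP2.gen s).choose
  rw [MonoidHom.comp_apply, MonoidHom.comp_apply, (exists_word W.hP2.gen s).choose_spec] at h
  exact h

theorem ev4_zL : ev4 W zL = M.ZM (Multiplicative.ofAdd 1) := by simp [ev4, gens, zL]

theorem ev4_nL : ev4 W nL = M.nn := by simp [ev4, gens, nL]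

theorem ev4_zW (c : M.K0) : ev4 W (zW W c) = M.ZM (Multiplicative.ofAdd c) := by
  rw [zW, map_ev, hw, ev4_aw, ev4_zL, ev_eq_hom M.ZM M.ρ₀ _ M.ZM_conj, pow_one, (M.exists_ρ_poly c).choose_spec]

theorem ev4_z1W (c : M.K0) : ev4 W (z1W W c) = M.Z1M c := by
  rw [z1W, map_mul, map_mul, map_inv, tw, ev4_aw, ev4_zW]; rfl

theorem ev4_bW (y : F) : ev4 W (bW W y) = M.BM y := by
  rw [bW, map_mul, map_mul, map_inv, ev4_nL, ev4_aw]; rfl

theorem ev4_thw : ev4 W (thw W) = M.hat := by
  rw [thw, map_mul, map_mul, map_mul, map_mul, map_mul, map_inv, ev4_zW, ev4_zW, ev4_nL, M.hat_word,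
    mul_inv_cancel_right]

theorem holds : ∀ r ∈ rels W, ev4 W r = 1 := by
  have hdiag : ∀ r : Fˣ, M.θ (di r) = di r := fun r => by
    refine Subtype.ext ?_
    show !![(r : F), M.ρ * 0; M.ρ⁻¹ * 0, ((r : F))⁻¹] = !![(r : F), 0; 0, ((r : F))⁻¹]
    simp
  intro r hr
  simp only [rels, List.mem_append, List.mem_map, Finset.mem_toList] at hr
  rcases hr with (⟨w, hw', rfl⟩ | ⟨w, hw', rfl⟩) | hr
  · rw [← MonoidHom.comp_apply, ev4_inl, MonoidHom.comp_apply, W.hP2.holds w hw', map_one]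
  · rw [← MonoidHom.comp_apply]
    refine W.hR₀.2 _ _ M.ZM ?_ ?_ w hw'
    · rw [MonoidHom.comp_apply, show ι4 W CfsgLib.SL2Pres.U = zL by simp [ι4, CfsgLib.SL2Pres.U], ev4_zL]
    · intro c
      rw [MonoidHom.comp_apply, show ι4 W CfsgLib.SL2Pres.H = hw W by simp [ι4, CfsgLib.SL2Pres.H], hw, ev4_aw,
        M.ZM_conj]
  · have hz1 : ev4 W (tw W * zL * (tw W)⁻¹) = M.Z1M 1 := by
      rw [map_mul, map_mul, map_inv, tw, ev4_aw, ev4_zL]; rfl
    simp only [single, List.mem_cons, List.not_mem_nil, or_false] at hr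
    rcases hr with rfl | rfl | rfl | rfl | rfl | rfl | rfl | rfl | rfl | rfl | rfl | rfl
    · rw [map_cmw, ev4_aw, ev4_zL, cmw_eq_one]
      exact M.AM_fix_comm (by simp [up, Cfsg.Agent.S2286.coe_xHom]) (by simp [up, Cfsg.Agent.S2286.coe_xHom]) 1
    · rw [map_cmw, hz1, ev4_zL, cmw_eq_one]
      exact M.ZM_Z1M 1 1
    · simp only [r3, map_mul, map_inv, ev4_aw, ev4_zL, ev4_z1W, ev4_bW]
      rw [M.lo_ZM, mul_inv_eq_one, one_mul]
      simp
    · simp only [r3, map_mul, map_inv, ev4_aw, ev4_zL, ev4_z1W, ev4_bW]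
      rw [M.lo_ZM, mul_inv_eq_one, one_mul]
      simp
    · simp only [map_mul, map_inv, tw, ev4_aw, ev4_bW, M.we_BM, map_one]
      exact mul_inv_cancel _
    · rw [map_cmw, ev4_thw, hw, ev4_aw, cmw_eq_one]
      show M.hat * M.AM (di M.ω) = M.AM (di M.ω) * M.hat
      rw [M.hat_AM, hdiag]
    · rw [map_mul, map_mul, map_mul, map_inv, map_inv, ev4_thw, ev4_aw, ev4_aw, M.hat_AM, mul_inv_cancel_right,
        mul_inv_cancel]
    · simp only [map_mul, map_inv, ev4_thw, ev4_nL, hw, ev4_aw]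
      rw [M.nn_di, mul_inv_cancel]
    · simp only [map_mul, map_inv, ev4_thw, ev4_nL]
      rw [M.nn_hat, inv_mul_cancel]
    · simp only [map_mul, map_inv, ev4_zL, ev4_nL]
      rw [M.nn_word, mul_inv_cancel]
    · rw [map_cmw, hz1, ev4_nL, cmw_eq_one]
      exact M.nn_Z1M 1
    · rw [map_cmw, map_mul, map_mul, map_inv, tw, ev4_aw, ev4_nL, cmw_eq_one]
      exact M.nn_nn1

end Four

end CfsgLib.SUShort
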