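import Cfsg.Agent.Lib.SUShort.GlueSets

/-!
# Gluing `SU₄(q)` to the alternating group: the small coordinate sets
-/

set_option autoImplicit false
set_option linter.unusedSectionVars false

namespace CfsgLib.SUShort

open Equiv Equiv.Perm Matrix CfsgLib.UnitaryTransvection CfsgLib.UnitarySimple CfsgLib.SUCover
open CfsgLib.ShortPres (cyc3 altOn permOn mem_altOn)

variable {F : Type*} [Field F] [Fintype F] {q n : ℕ} (hF : Fintype.card F = q ^ 2) (hn : 5 ≤ n)

/-- The embedding of the first four coordinates. -/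
noncomputable def E4 : Cfsg.SU 4 F q →* Cfsg.SU n F q := embS hF (Fin.castLEEmb (show 4 ≤ n by omega))

/-- A group with maps from `SU₄` and from the alternating group, satisfying the gluing relations. -/
structure GlueData (P : Type*) [Group P] where
  φ : Cfsg.SU 4 F q →* P
  ρ : alternatingGroup (Fin n) →* P
  π : P →* Cfsg.SU n F q
  hπφ : ∀ x, π (φ x) = E4 hF hn x
  hπρ : ∀ s, π (ρ s) = pmA hF s
  gen : Subgroup.closure (Set.range φ ∪ Set.range ρ) = ⊤
  hA4 : ∀ s : alternatingGroup (Fin n), (∀ j, j ∉ (Low 4 : Finset (Fin n)) → (s : Perm (Fin n)) j = j) →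
    ρ s ∈ φ.range
  hstab : ∀ s : alternatingGroup (Fin n), (∀ j ∈ (Low 3 : Finset (Fin n)), (s : Perm (Fin n)) j = j) →
    ∀ x, E4 hF hn x ∈ Supp (Low 3) → Commute (ρ s) (φ x)
  hδ : ∀ x y, E4 hF hn x ∈ Supp (Low 3) →
    E4 hF hn y = pmA hF (δA hn) * E4 hF hn x * (pmA hF (δA hn))⁻¹ → ρ (δA hn) * φ x * (ρ (δA hn))⁻¹ = φ y

theorem E4_injective : Function.Injective (E4 hF hn : Cfsg.SU 4 F q →* Cfsg.SU n F q) := embS_injective hF _

theorem E4_mem (x : Cfsg.SU 4 F q) : E4 hF hn x ∈ (Supp (Low 4) : Subgroup (Cfsg.SU n F q)) := by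
  rw [low_eq_map (show 4 ≤ n by omega)]
  exact embS_mem hF _ x

theorem exists_E4 {g : Cfsg.SU n F q} (hg : g ∈ Supp (Low 4)) : ∃ x, E4 hF hn x = g := by
  rw [low_eq_map (show 4 ≤ n by omega)] at hg
  exact exists_embS hF _ hg

theorem img_supp (s : alternatingGroup (Fin n)) {S : Finset (Fin n)} {g : Cfsg.SU n F q} (hg : g ∈ Supp S) :
    pmA hF s * g * (pmA hF s)⁻¹ ∈ Supp (img s S) := pmA_supp hF s hg

namespace GlueData

variable {hF hn} {P : Type*} [Group P] (D : GlueData hF hn P)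

local notation "E" => E4 hF hn

/-- A conjugate of an element of the image of `SU₄`. -/
noncomputable def cj (s : alternatingGroup (Fin n)) (x : Cfsg.SU 4 F q) : P := D.ρ s * D.φ x * (D.ρ s)⁻¹

theorem π_cj (s : alternatingGroup (Fin n)) (x : Cfsg.SU 4 F q) :
    D.π (D.cj s x) = pmA hF s * E x * (pmA hF s)⁻¹ := by
  rw [cj, map_mul, map_mul, map_inv, D.hπρ, D.hπφ]

theorem cj_mul (s t : alternatingGroup (Fin n)) (x : Cfsg.SU 4 F q) :
    D.cj (s * t) x = D.ρ s * D.cj t x * (D.ρ s)⁻¹ := by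
  rw [cj, cj, map_mul]; group

/-- The conjugation rule on a set of coordinates. -/
def Good (s : alternatingGroup (Fin n)) (A : Finset (Fin n)) : Prop :=
  ∀ x, E x ∈ Supp A → ∀ y, E y = pmA hF s * E x * (pmA hF s)⁻¹ → D.cj s x = D.φ y

theorem good_mono {s : alternatingGroup (Fin n)} {A B : Finset (Fin n)} (h : D.Good s B) (hAB : A ⊆ B) :
    D.Good s A := fun x hx => h x (supp_mono hAB hx)

theorem good_comp {s t : alternatingGroup (Fin n)} {A : Finset (Fin n)} (ht : D.Good t A)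
    (h4 : img t A ⊆ Low 4) (hs : D.Good s (img t A)) : D.Good (s * t) A := by
  intro x hx y hy
  obtain ⟨z, hz⟩ := exists_E4 hF hn (supp_mono h4 (img_supp hF t hx))
  rw [cj_mul, ht x hx z hz]
  refine hs z (by rw [hz]; exact img_supp hF t hx) y ?_
  rw [hy, hz, map_mul]; group

theorem good_of_fix4 {s : alternatingGroup (Fin n)}
    (hs : ∀ j, j ∉ (Low 4 : Finset (Fin n)) → (s : Perm (Fin n)) j = j) (A : Finset (Fin n)) : D.Good s A := by
  intro x _ y hy
  obtain ⟨z, hz⟩ := D.hA4 s hs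
  have e : pmA hF s = E z := by rw [← D.hπρ, ← hz, D.hπφ]
  rw [e, ← map_inv, ← map_mul, ← map_mul] at hy
  rw [E4_injective hF hn hy, map_mul, map_mul, map_inv, cj, hz]

theorem good_δ : D.Good (δA hn) (Low 3) := fun x hx y hy => D.hδ x y hx hy

theorem good_stab {s : alternatingGroup (Fin n)}
    (hs : ∀ j ∈ (Low 3 : Finset (Fin n)), (s : Perm (Fin n)) j = j) : D.Good s (Low 3) := by
  intro x hx y hy
  have hd : Disjoint ((Low 3 : Finset (Fin n))ᶜ) (Low 3) := disjoint_compl_left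
  have hp : pmA hF s ∈ Supp ((Low 3 : Finset (Fin n))ᶜ) :=
    pmA_mem_supp hF s fun j hj => hs j (by simpa using hj)
  rw [(supp_commute hd hF hp hx).eq, mul_inv_cancel_right] at hy
  rw [← E4_injective hF hn hy.symm, cj, (D.hstab s hs x hx).eq, mul_inv_cancel_right]

/-- The even permutations fixing the first two coordinates centralize their subgroup. -/
theorem commute_fix2 {s : alternatingGroup (Fin n)}
    (hs : ∀ j ∈ (Low 2 : Finset (Fin n)), (s : Perm (Fin n)) j = j) {x : Cfsg.SU 4 F q}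
    (hx : E x ∈ Supp (Low 2)) : Commute (D.ρ s) (D.φ x) := by
  let C : Subgroup (alternatingGroup (Fin n)) := (Subgroup.centralizer {D.φ x}).comap D.ρ
  have hC : ∀ {t}, t ∈ C ↔ Commute (D.ρ t) (D.φ x) := fun {t} => by
    simp only [C, Subgroup.mem_comap, Subgroup.mem_centralizer_singleton_iff]
    exact Iff.rfl
  have hsub : altOn ((↑(Low 2 : Finset (Fin n)) : Set (Fin n))ᶜ) ≤ C.map (alternatingGroup (Fin n)).subtype := by
    refine (CfsgLib.ShortPres.altOn_le_closure (a := p5 hn 3) (b := p5 hn 4) (by simp [mem_Low, p5_val])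
      (by simp [mem_Low, p5_val]) (p5_ne hn (by decide))).trans ((Subgroup.closure_le _).2 ?_)
    rintro _ ⟨j, hj, hj3, hj4, rfl⟩
    have hj2 : 2 ≤ (j : ℕ) := by simp [mem_Low] at hj; omega
    have hsign : cyc3 (p5 hn 3) (p5 hn 4) j ∈ alternatingGroup (Fin n) :=
      mem_alternatingGroup.2 (CfsgLib.ShortPres.sign_cyc3 (p5_ne hn (by decide)) hj3.symm)
    refine ⟨⟨_, hsign⟩, hC.2 ?_, rfl⟩
    rcases eq_or_lt_of_le hj2 with h2 | h2
    · obtain rfl : j = p5 hn 2 := Fin.ext (by rw [← h2]; rfl)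
      have e : (⟨_, hsign⟩ : alternatingGroup (Fin n)) = τA hn * δA hn := Subtype.ext (by
        simp only [Subgroup.coe_mul, τA, δA, cyc3]
        have hc : swap (p5 hn 2) (p5 hn 3) * swap (p5 hn 0) (p5 hn 1) =
            swap (p5 hn 0) (p5 hn 1) * swap (p5 hn 2) (p5 hn 3) := by
          refine (Perm.Disjoint.commute fun c => ?_).eq
          by_cases h0 : c = p5 hn 0
          · exact Or.inl (swap_apply_of_ne_of_ne (h0 ▸ p5_ne hn (by decide)) (h0 ▸ p5_ne hn (by decide)))
          by_cases h1 : c = p5 hn 1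
          · exact Or.inl (swap_apply_of_ne_of_ne (h1 ▸ p5_ne hn (by decide)) (h1 ▸ p5_ne hn (by decide)))
          exact Or.inr (swap_apply_of_ne_of_ne h0 h1)
        rw [← hc, Equiv.swap_comm (p5 hn 3) (p5 hn 2)]
        simp [mul_assoc])
      rw [e]
      have hg : D.Good (τA hn * δA hn) (Low 2) :=
        D.good_comp (D.good_mono (D.good_δ) (low_mono (by norm_num)))
          (by rw [(img_δA hn).2]; exact low_mono (by norm_num)) (D.good_of_fix4 (fun j hj => τA_fix hn hj) _)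
      have hfix : ∀ i ∈ (Low 2 : Finset (Fin n)), ((τA hn * δA hn : alternatingGroup (Fin n)) : Perm (Fin n)) i = i := by
        intro i hi
        rw [← e]
        exact CfsgLib.ShortPres.cyc3_of_ne (fun h => by simp [h, mem_Low, p5_val] at hi)
          (fun h => by simp [h, mem_Low, p5_val] at hi) (fun h => by simp [h, mem_Low, p5_val] at hi)
      have hd : Disjoint ((Low 2 : Finset (Fin n))ᶜ) (Low 2) := disjoint_compl_left
      have hp : pmA hF (τA hn * δA hn) ∈ Supp ((Low 2 : Finset (Fin n))ᶜ) :=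
        pmA_mem_supp hF _ fun i hi => hfix i (by simpa using hi)
      have := hg x hx x (by rw [(supp_commute hd hF hp hx).eq, mul_inv_cancel_right])
      rw [cj] at this
      exact mul_inv_eq_iff_eq_mul.1 this
    · refine D.hstab _ (fun i hi => ?_) x (supp_mono (low_mono (by norm_num)) hx)
      rw [mem_Low] at hi
      exact CfsgLib.ShortPres.cyc3_of_ne (fun h => by simp [h, p5_val] at hi)
        (fun h => by simp [h, p5_val] at hi) (fun h => by rw [h] at hi; omega)
  obtain ⟨t, ht, hts⟩ := hsub (mem_altOn.2 ⟨fun c hc => hs c (by simpa using hc), mem_alternatingGroup.1 s.2⟩)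
  obtain rfl : t = s := Subtype.ext hts
  exact hC.1 ht

theorem good_fix2 {s : alternatingGroup (Fin n)}
    (hs : ∀ j ∈ (Low 2 : Finset (Fin n)), (s : Perm (Fin n)) j = j) : D.Good s (Low 2) := by
  intro x hx y hy
  have hd : Disjoint ((Low 2 : Finset (Fin n))ᶜ) (Low 2) := disjoint_compl_left
  have hp : pmA hF s ∈ Supp ((Low 2 : Finset (Fin n))ᶜ) :=
    pmA_mem_supp hF s fun j hj => hs j (by simpa using hj)
  rw [(supp_commute hd hF hp hx).eq, mul_inv_cancel_right] at hy
  rw [← E4_injective hF hn hy.symm, cj, (D.commute_fix2 hs hx).eq, mul_inv_cancel_right]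

/-- The conjugation rule inside the first four coordinates. -/
theorem good_small (s : alternatingGroup (Fin n)) {k : ℕ} (hk : k = 2 ∨ k = 3) (h4 : img s (Low k) ⊆ Low 4) :
    D.Good s (Low k) := by
  set X : Finset (Fin n) := Low 4 with hX
  have hp : ∀ i : Fin 5, (i : ℕ) < 4 → p5 hn i ∈ X := fun i hi => by rw [hX, mem_Low, p5_val]; exact hi
  have hs4 : ∀ i : Fin 5, (i : ℕ) < k → (s : Perm (Fin n)) (p5 hn i) ∈ X := fun i hi =>
    h4 (apply_mem_img.2 (by rw [mem_Low, p5_val]; exact hi))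
  obtain ⟨π₁, hπ₁, h10, -⟩ := perm_extend (X := X) (π := 1) (one_mem _) (hp 0 (by decide)) (hs4 0 (by rcases hk with rfl | rfl <;> decide))
  obtain ⟨π₂, hπ₂, h21, h2k⟩ := perm_extend hπ₁ (hp 1 (by decide)) (hs4 1 (by rcases hk with rfl | rfl <;> decide))
  have h20 : π₂ (p5 hn 0) = (s : Perm (Fin n)) (p5 hn 0) := by
    rw [h2k _ (p5_ne hn (by decide)) (by rw [h10]; exact (s : Perm (Fin n)).injective.ne (p5_ne hn (by decide))), h10]
  -- a permutation inside the first four coordinates agreeing with the given one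
  have conv : ∀ π : Perm (Fin n), π ∈ permOn (X : Set (Fin n)) → sign π = 1 →
      ∃ α : alternatingGroup (Fin n), (α : Perm (Fin n)) = π ∧ D.Good α (Low k) ∧
        ∀ A, D.Good α A := fun π hπ hs1 =>
    ⟨⟨π, mem_alternatingGroup.2 hs1⟩, rfl, D.good_of_fix4 (fun j hj => hπ j (by simpa using hj)) _,
      fun A => D.good_of_fix4 (fun j hj => hπ j (by simpa using hj)) A⟩
  have hswap : ∀ a b : Fin 5, (a : ℕ) < 4 → (b : ℕ) < 4 → swap (p5 hn a) (p5 hn b) ∈ permOn (X : Set (Fin n)) :=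
    fun a b ha hb c hc => swap_apply_of_ne_of_ne (fun e => hc (by rw [e]; exact hp a ha))
      (fun e => hc (by rw [e]; exact hp b hb))
  have hsub : (Low 3 : Finset (Fin n)) ⊆ X := low_mono (by norm_num)
  have hlow : ∀ {m : ℕ}, m ≤ 5 → ∀ j ∈ (Low m : Finset (Fin n)), ∃ i : Fin 5, (i : ℕ) < m ∧ j = p5 hn i :=
    fun {m} hm j hj => ⟨⟨j, by rw [mem_Low] at hj; omega⟩, by rw [mem_Low] at hj; exact hj, Fin.ext rfl⟩
  rcases hk with rfl | rfl
  · -- two coordinates
    obtain ⟨π, hπ, hs1, h0, h1⟩ : ∃ π ∈ permOn (X : Set (Fin n)), sign π = 1 ∧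
        π (p5 hn 0) = (s : Perm (Fin n)) (p5 hn 0) ∧ π (p5 hn 1) = (s : Perm (Fin n)) (p5 hn 1) := by
      rcases Int.units_eq_one_or (sign π₂) with h | h
      · exact ⟨π₂, hπ₂, h, h20, h21⟩
      · refine ⟨π₂ * swap (p5 hn 2) (p5 hn 3), mul_mem hπ₂ (hswap 2 3 (by decide) (by decide)),
          by rw [map_mul, h, sign_swap (p5_ne hn (by decide))]; rfl, ?_, ?_⟩
        · rw [Perm.mul_apply, swap_apply_of_ne_of_ne (p5_ne hn (by decide)) (p5_ne hn (by decide)), h20]
        · rw [Perm.mul_apply, swap_apply_of_ne_of_ne (p5_ne hn (by decide)) (p5_ne hn (by decide)), h21]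
    obtain ⟨α, hα, -, hgα⟩ := conv π hπ hs1
    have hfix : ∀ j ∈ (Low 2 : Finset (Fin n)), ((α⁻¹ * s : alternatingGroup (Fin n)) : Perm (Fin n)) j = j := by
      intro j hj
      obtain ⟨i, hi, rfl⟩ := hlow (by norm_num) j hj
      rw [Subgroup.coe_mul, Subgroup.coe_inv, hα, Perm.mul_apply, Perm.inv_eq_iff_eq]
      have : i = 0 ∨ i = 1 := (show ∀ i : Fin 5, (i : ℕ) < 2 → i = 0 ∨ i = 1 by decide) i hi
      rcases this with rfl | rfl
      · exact h0.symm
      · exact h1.symm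
    have := D.good_comp (s := α) (D.good_fix2 hfix) (by rw [img_of_fix hfix]; exact low_mono (by norm_num)) (hgα _)
    rwa [mul_inv_cancel_left] at this
  · -- three coordinates
    obtain ⟨π₃, hπ₃, h32, h3k⟩ := perm_extend hπ₂ (hp 2 (by decide)) (hs4 2 (by decide))
    have h30 : π₃ (p5 hn 0) = (s : Perm (Fin n)) (p5 hn 0) := by
      rw [h3k _ (p5_ne hn (by decide)) (by rw [h20]; exact (s : Perm (Fin n)).injective.ne (p5_ne hn (by decide))), h20]
    have h31 : π₃ (p5 hn 1) = (s : Perm (Fin n)) (p5 hn 1) := by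
      rw [h3k _ (p5_ne hn (by decide)) (by rw [h21]; exact (s : Perm (Fin n)).injective.ne (p5_ne hn (by decide))), h21]
    rcases Int.units_eq_one_or (sign π₃) with h | h
    · obtain ⟨α, hα, -, hgα⟩ := conv π₃ hπ₃ h
      have hfix : ∀ j ∈ (Low 3 : Finset (Fin n)), ((α⁻¹ * s : alternatingGroup (Fin n)) : Perm (Fin n)) j = j := by
        intro j hj
        obtain ⟨i, hi, rfl⟩ := hlow (by norm_num) j hj
        rw [Subgroup.coe_mul, Subgroup.coe_inv, hα, Perm.mul_apply, Perm.inv_eq_iff_eq]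
        have : i = 0 ∨ i = 1 ∨ i = 2 := (show ∀ i : Fin 5, (i : ℕ) < 3 → i = 0 ∨ i = 1 ∨ i = 2 by decide) i hi
        rcases this with rfl | rfl | rfl
        · exact h30.symm
        · exact h31.symm
        · exact h32.symm
      have := D.good_comp (s := α) (D.good_stab hfix) (by rw [img_of_fix hfix]; exact hsub) (hgα _)
      rwa [mul_inv_cancel_left] at this
    · obtain ⟨α, hα, -, hgα⟩ := conv (π₃ * swap (p5 hn 0) (p5 hn 1)) (mul_mem hπ₃ (hswap 0 1 (by decide) (by decide)))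
        (by rw [map_mul, h, sign_swap (p5_ne hn (by decide))]; rfl)
      set β : alternatingGroup (Fin n) := (δA hn)⁻¹ * (α⁻¹ * s) with hβ
      have hfix : ∀ j ∈ (Low 3 : Finset (Fin n)), (β : Perm (Fin n)) j = j := by
        intro j hj
        obtain ⟨i, hi, rfl⟩ := hlow (by norm_num) j hj
        rw [hβ, Subgroup.coe_mul, Subgroup.coe_inv, Perm.mul_apply, Perm.inv_eq_iff_eq, Subgroup.coe_mul,
          Subgroup.coe_inv, hα, Perm.mul_apply, Perm.inv_eq_iff_eq, δA_apply, Perm.mul_apply]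
        have : i = 0 ∨ i = 1 ∨ i = 2 := (show ∀ i : Fin 5, (i : ℕ) < 3 → i = 0 ∨ i = 1 ∨ i = 2 by decide) i hi
        rcases this with rfl | rfl | rfl
        · rw [show (swap 0 1 * swap 3 4 : Perm (Fin 5)) 0 = 1 from by decide, swap_apply_right, h30]
        · rw [show (swap 0 1 * swap 3 4 : Perm (Fin 5)) 1 = 0 from by decide, swap_apply_left, h31]
        · rw [show (swap 0 1 * swap 3 4 : Perm (Fin 5)) 2 = 2 from by decide,
            swap_apply_of_ne_of_ne (p5_ne hn (by decide)) (p5_ne hn (by decide)), h32]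
      have h1 : D.Good (δA hn * β) (Low 3) :=
        D.good_comp (D.good_stab hfix) (by rw [img_of_fix hfix]; exact hsub)
          (by rw [img_of_fix hfix]; exact D.good_δ)
      have := D.good_comp (s := α) h1 (by rw [img_mul, img_of_fix hfix, (img_δA hn).1]; exact hsub) (hgα _)
      rwa [hβ, mul_inv_cancel_left, mul_inv_cancel_left] at this

/-! ### The subgroups of the coordinate sets -/

/-- The subgroup attached to a set of coordinates. -/
noncomputable def K (S : Finset (Fin n)) : Subgroup P :=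
  Subgroup.closure {g | ∃ (s : alternatingGroup (Fin n)) (k : ℕ) (x : Cfsg.SU 4 F q),
    (k = 2 ∨ k = 3) ∧ img s (Low k) ⊆ S ∧ E x ∈ Supp (Low k) ∧ g = D.cj s x}

theorem cj_mem {S : Finset (Fin n)} {s : alternatingGroup (Fin n)} {k : ℕ} {x : Cfsg.SU 4 F q}
    (hk : k = 2 ∨ k = 3) (hS : img s (Low k) ⊆ S) (hx : E x ∈ Supp (Low k)) : D.cj s x ∈ D.K S :=
  Subgroup.subset_closure ⟨s, k, x, hk, hS, hx, rfl⟩

theorem K_mono {S T : Finset (Fin n)} (h : S ⊆ T) : D.K S ≤ D.K T :=
  Subgroup.closure_mono fun _ ⟨s, k, x, hk, hS, hx, e⟩ => ⟨s, k, x, hk, hS.trans h, hx, e⟩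

theorem π_mem {S : Finset (Fin n)} {g : P} (hg : g ∈ D.K S) : D.π g ∈ Supp S := by
  refine (Subgroup.closure_le ((Supp S).comap D.π)).2 ?_ hg
  rintro _ ⟨s, k, x, -, hS, hx, rfl⟩
  show D.π (D.cj s x) ∈ Supp S
  rw [π_cj]
  exact supp_mono hS (img_supp hF s hx)

theorem K_conj (ω : alternatingGroup (Fin n)) {S : Finset (Fin n)} {g : P} (hg : g ∈ D.K S) :
    D.ρ ω * g * (D.ρ ω)⁻¹ ∈ D.K (img ω S) := by
  refine (Subgroup.closure_le ((D.K (img ω S)).comap (MulAut.conj (D.ρ ω)).toMonoidHom)).2 ?_ hg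
  rintro _ ⟨s, k, x, hk, hS, hx, rfl⟩
  show D.ρ ω * D.cj s x * (D.ρ ω)⁻¹ ∈ D.K (img ω S)
  rw [← cj_mul]
  exact D.cj_mem hk (by rw [img_mul]; exact img_mono ω hS) hx

theorem K_low4_le {g : P} (hg : g ∈ D.K (Low 4)) : g ∈ D.φ.range := by
  refine (Subgroup.closure_le _).2 ?_ hg
  rintro _ ⟨s, k, x, hk, hS, hx, rfl⟩
  obtain ⟨y, hy⟩ := exists_E4 hF hn (supp_mono hS (img_supp hF s hx))
  exact ⟨y, (D.good_small s hk hS x hx y hy).symm⟩

/-- The map to `SU_n` is injective on the small subgroups. -/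
theorem small_inj {S : Finset (Fin n)} (hS : S.card ≤ 4) {g : P} (hg : g ∈ D.K S) (h1 : D.π g = 1) : g = 1 := by
  obtain ⟨T, hST, hT⟩ := Finset.exists_superset_card_eq hS (by simp; omega)
  obtain ⟨ω, hω⟩ := exists_even_map (A := Low 4) (S := T) (by rw [card_low (by omega), hT]) (by rw [card_low (by omega)]; norm_num)
  have h2 := D.K_conj ω⁻¹ (D.K_mono hST hg)
  rw [← hω, img_inv_self] at h2
  obtain ⟨x, hx⟩ := D.K_low4_le h2
  have h3 : x = 1 := E4_injective hF hn (by rw [← D.hπφ, hx, map_mul, map_mul, h1, map_one]; simp)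
  rw [h3, map_one, map_inv, inv_inv, eq_comm, mul_eq_one_iff_eq_inv, mul_eq_left] at hx
  exact hx

theorem small_uniq {S : Finset (Fin n)} (hS : S.card ≤ 4) {g g' : P} (hg : g ∈ D.K S) (hg' : g' ∈ D.K S)
    (h : D.π g = D.π g') : g = g' := by
  have := D.small_inj hS (mul_mem hg (inv_mem hg')) (by rw [map_mul, map_inv, h, mul_inv_cancel])
  exact mul_inv_eq_one.1 this

/-! ### Surjectivity -/

theorem surj_small {S : Finset (Fin n)} (hS : S.card = 2 ∨ S.card = 3) :
    (Supp S : Subgroup (Cfsg.SU n F q)) ≤ (D.K S).map D.π := by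
  intro g hg
  obtain ⟨ω, hω⟩ := exists_even_map (A := Low S.card) (S := S) (card_low (by omega)) (by rw [card_low (by omega)]; omega)
  have h1 := img_supp hF ω⁻¹ hg
  nth_rw 1 [← hω] at h1
  rw [img_inv_self] at h1
  obtain ⟨x, hx⟩ := exists_E4 hF hn (supp_mono (low_mono (by omega)) h1)
  refine ⟨D.cj ω x, D.cj_mem hS hω.le (by rw [hx]; exact h1), ?_⟩
  rw [π_cj, hx, map_inv]; group

theorem surj_insert {S : Finset (Fin n)} {b l : Fin n} (hb : b ∈ S) (hl : l ∉ S) (h3 : 3 ≤ S.card)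
    (hS : (Supp S : Subgroup (Cfsg.SU n F q)) ≤ (D.K S).map D.π) :
    (Supp (insert l S) : Subgroup (Cfsg.SU n F q)) ≤ (D.K (insert l S)).map D.π := by
  refine (supp_gen hF hb hl h3).trans (sup_le (hS.trans (Subgroup.map_mono (D.K_mono (Finset.subset_insert _ _)))) ?_)
  refine (D.surj_small (Or.inl ?_)).trans (Subgroup.map_mono (D.K_mono ?_))
  · exact Finset.card_pair (fun e => hl (e ▸ hb))
  · intro j hj
    simp only [Finset.mem_insert, Finset.mem_singleton] at hj ⊢
    rcases hj with rfl | rfl <;> simp [*]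

theorem surj_low {k : ℕ} (h3 : 3 ≤ k) (hk : k ≤ n) :
    (Supp (Low k) : Subgroup (Cfsg.SU n F q)) ≤ (D.K (Low k)).map D.π := by
  induction k with
  | zero => omega
  | succ k ih =>
    rcases eq_or_lt_of_le h3 with h | h
    · exact D.surj_small (Or.inr (by rw [card_low hk, h]))
    · rw [low_succ (show k < n by omega)]
      exact D.surj_insert (b := ⟨k - 1, by omega⟩) (by simp [mem_Low]; omega) (by simp [mem_Low])
        (by rw [card_low (by omega)]; omega) (ih (by omega) (by omega))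

include D in
theorem π_surjective : Function.Surjective D.π := by
  intro g
  obtain ⟨x, -, hx⟩ := D.surj_low (show 3 ≤ n by omega) le_rfl (show g ∈ Supp (Low n) from fun j hj => absurd (by rw [low_top]; exact Finset.mem_univ j) hj)
  exact ⟨x, hx⟩

end GlueData

end CfsgLib.SUShort
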