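import Cfsg.Agent.Lib.SUShort.GlueSpace
import Cfsg.Agent.Lib.ShortPres.AltOn

/-!
# Sets of coordinates and even permutations for the gluing of `SU_n(q)`
-/

set_option autoImplicit false
set_option linter.unusedSectionVars false

namespace CfsgLib.SUShort

open Equiv Equiv.Perm

variable {n : ℕ}

/-- The first `k` coordinates. -/
def Low (k : ℕ) : Finset (Fin n) := Finset.univ.filter fun j => (j : ℕ) < k

theorem mem_Low {k : ℕ} {j : Fin n} : j ∈ (Low k : Finset (Fin n)) ↔ (j : ℕ) < k := by simp [Low]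

theorem low_mono {i k : ℕ} (h : i ≤ k) : (Low i : Finset (Fin n)) ⊆ Low k := fun j hj => by
  rw [mem_Low] at hj ⊢; omega

theorem low_top : (Low n : Finset (Fin n)) = Finset.univ := by ext j; simp [mem_Low]

theorem low_succ {k : ℕ} (hk : k < n) : (Low (k + 1) : Finset (Fin n)) = insert ⟨k, hk⟩ (Low k) := by
  ext j; simp only [mem_Low, Finset.mem_insert, Fin.ext_iff]; omega

theorem low_eq_map {k : ℕ} (hk : k ≤ n) : (Low k : Finset (Fin n)) = Finset.univ.map (Fin.castLEEmb hk) := by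
  ext j
  simp only [mem_Low, Finset.mem_map, Finset.mem_univ, true_and]
  exact ⟨fun hj => ⟨⟨j, hj⟩, Fin.ext rfl⟩, fun ⟨i, hi⟩ => by rw [← hi]; exact i.2⟩

theorem card_low {k : ℕ} (hk : k ≤ n) : (Low k : Finset (Fin n)).card = k := by
  rw [low_eq_map hk, Finset.card_map, Finset.card_univ, Fintype.card_fin]

/-- The image of a set of coordinates. -/
def img (s : alternatingGroup (Fin n)) (S : Finset (Fin n)) : Finset (Fin n) :=
  S.map (s : Perm (Fin n)).toEmbedding

theorem mem_img {s : alternatingGroup (Fin n)} {S : Finset (Fin n)} {j : Fin n} :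
    j ∈ img s S ↔ (s : Perm (Fin n))⁻¹ j ∈ S := by
  simp only [img, Finset.mem_map_equiv]
  rfl

theorem apply_mem_img {s : alternatingGroup (Fin n)} {S : Finset (Fin n)} {j : Fin n} :
    (s : Perm (Fin n)) j ∈ img s S ↔ j ∈ S := by rw [mem_img]; simp

theorem img_mul (s t : alternatingGroup (Fin n)) (S : Finset (Fin n)) : img (s * t) S = img s (img t S) := by
  ext j; simp [mem_img]

theorem img_one (S : Finset (Fin n)) : img 1 S = S := by ext j; simp [mem_img]

theorem img_mono (s : alternatingGroup (Fin n)) {S T : Finset (Fin n)} (h : S ⊆ T) : img s S ⊆ img s T :=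
  fun _ hj => mem_img.2 (h (mem_img.1 hj))

theorem card_img (s : alternatingGroup (Fin n)) (S : Finset (Fin n)) : (img s S).card = S.card := Finset.card_map _

theorem img_inv_self (s : alternatingGroup (Fin n)) (S : Finset (Fin n)) : img s⁻¹ (img s S) = S := by
  rw [← img_mul, inv_mul_cancel, img_one]

theorem img_self_inv (s : alternatingGroup (Fin n)) (S : Finset (Fin n)) : img s (img s⁻¹ S) = S := by
  rw [← img_mul, mul_inv_cancel, img_one]

theorem img_of_fix {s : alternatingGroup (Fin n)} {S : Finset (Fin n)} (h : ∀ j ∈ S, (s : Perm (Fin n)) j = j) :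
    img s S = S := by
  refine Finset.eq_of_subset_of_card_le (fun j hj => ?_) (card_img s S).ge
  have h1 := mem_img.1 hj
  have h2 := h _ h1
  rw [← Perm.mul_apply, mul_inv_cancel, Perm.one_apply] at h2
  rwa [← h2] at h1

/-- An even permutation carrying two disjoint sets onto two others of the same sizes. -/
theorem exists_even_map2 {A B S T : Finset (Fin n)} (hAB : Disjoint A B) (hST : Disjoint S T)
    (hA : A.card = S.card) (hB : B.card = T.card) (h2 : 2 ≤ A.card) :
    ∃ s : alternatingGroup (Fin n), img s A = S ∧ img s B = T := by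
  classical
  let f : (A ∪ B : Finset (Fin n)) ≃ (S ∪ T : Finset (Fin n)) :=
    (Equiv.Finset.union A B hAB).symm.trans
      (((Finset.equivOfCardEq hA).sumCongr (Finset.equivOfCardEq hB)).trans (Equiv.Finset.union S T hST))
  let π : Perm (Fin n) := f.extendSubtype
  have hπA : ∀ x ∈ A, π x ∈ S := fun x hx => by
    show f.extendSubtype x ∈ S
    rw [Equiv.extendSubtype_apply_of_mem (e := f) x (Finset.mem_union_left _ hx)]
    have e : (Equiv.Finset.union A B hAB).symm ⟨x, Finset.mem_union_left _ hx⟩ = Sum.inl ⟨x, hx⟩ := by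
      rw [Equiv.symm_apply_eq]; rfl
    simp only [f, Equiv.trans_apply, e, Equiv.sumCongr_apply, Sum.map_inl]
    exact ((Finset.equivOfCardEq hA) ⟨x, hx⟩).2
  have hπB : ∀ x ∈ B, π x ∈ T := fun x hx => by
    show f.extendSubtype x ∈ T
    rw [Equiv.extendSubtype_apply_of_mem (e := f) x (Finset.mem_union_right _ hx)]
    have e : (Equiv.Finset.union A B hAB).symm ⟨x, Finset.mem_union_right _ hx⟩ = Sum.inr ⟨x, hx⟩ := by
      rw [Equiv.symm_apply_eq]; rfl
    simp only [f, Equiv.trans_apply, e, Equiv.sumCongr_apply, Sum.map_inr]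
    exact ((Finset.equivOfCardEq hB) ⟨x, hx⟩).2
  have key : ∀ ρ : Perm (Fin n), sign ρ = 1 → (∀ x ∈ A, ρ x ∈ S) → (∀ x ∈ B, ρ x ∈ T) →
      ∃ s : alternatingGroup (Fin n), img s A = S ∧ img s B = T := by
    intro ρ hρ h1 h2
    refine ⟨⟨ρ, mem_alternatingGroup.2 hρ⟩, Finset.eq_of_subset_of_card_le ?_ ?_,
      Finset.eq_of_subset_of_card_le ?_ ?_⟩
    · intro j hj
      have := h1 _ (mem_img.1 hj)
      simpa using this
    · rw [card_img, hA]
    · intro j hj
      have := h2 _ (mem_img.1 hj)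
      simpa using this
    · rw [card_img, hB]
  rcases Int.units_eq_one_or (sign π) with h | h
  · exact key π h hπA hπB
  · obtain ⟨a, ha, b, hb, hab⟩ := Finset.one_lt_card.1 (show 1 < A.card by omega)
    refine key (π * swap a b) (by rw [map_mul, h, sign_swap hab]; rfl) (fun x hx => ?_) fun x hx => ?_
    · rw [Perm.mul_apply]
      refine hπA _ ?_
      rcases eq_or_ne x a with rfl | h1
      · rwa [swap_apply_left]
      rcases eq_or_ne x b with rfl | h2
      · rwa [swap_apply_right]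
      rwa [swap_apply_of_ne_of_ne h1 h2]
    · rw [Perm.mul_apply, swap_apply_of_ne_of_ne]
      · exact hπB x hx
      · exact fun e => Finset.disjoint_left.1 hAB ha (e ▸ hx)
      · exact fun e => Finset.disjoint_left.1 hAB hb (e ▸ hx)

theorem exists_even_map {A S : Finset (Fin n)} (hA : A.card = S.card) (h2 : 2 ≤ A.card) :
    ∃ s : alternatingGroup (Fin n), img s A = S := by
  obtain ⟨s, hs, -⟩ := exists_even_map2 (A := A) (B := ∅) (S := S) (T := ∅) (by simp) (by simp) hA rfl h2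
  exact ⟨s, hs⟩

/-- A permutation of a set moving one more point. -/
theorem perm_extend {X : Finset (Fin n)} {π : Perm (Fin n)} (hπ : π ∈ CfsgLib.ShortPres.permOn (X : Set (Fin n)))
    {a w : Fin n} (ha : a ∈ X) (hw : w ∈ X) :
    ∃ π' ∈ CfsgLib.ShortPres.permOn (X : Set (Fin n)), π' a = w ∧ ∀ x, x ≠ a → π x ≠ w → π' x = π x := by
  have hπa : π a ∈ X := by
    by_contra h
    have h' : π (π a) = π a := hπ _ (by simpa using h)
    exact h (by rw [π.injective h']; exact ha)
  refine ⟨swap (π a) w * π, fun c hc => ?_, by simp, fun x hx hxw => ?_⟩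
  · have hc' : c ∉ X := by simpa using hc
    rw [Perm.mul_apply, show π c = c from hπ c hc, swap_apply_of_ne_of_ne]
    · exact fun e => hc' (e ▸ hπa)
    · exact fun e => hc' (e ▸ hw)
  · rw [Perm.mul_apply, swap_apply_of_ne_of_ne (fun e => hx (π.injective e)) hxw]

variable (hn : 5 ≤ n)

/-- A coordinate among the first five. -/
def p5 (i : Fin 5) : Fin n := Fin.castLE hn i

theorem p5_val (i : Fin 5) : (p5 hn i : ℕ) = i := rfl

theorem p5_ne {i j : Fin 5} (h : i ≠ j) : p5 hn i ≠ p5 hn j := fun e => h (Fin.castLE_injective hn e)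

/-- The three-cycle on the first three coordinates. -/
def cA : alternatingGroup (Fin n) :=
  ⟨CfsgLib.ShortPres.cyc3 (p5 hn 0) (p5 hn 1) (p5 hn 2),
    mem_alternatingGroup.2 (CfsgLib.ShortPres.sign_cyc3 (p5_ne hn (by decide)) (p5_ne hn (by decide)))⟩

/-- The double transposition inside the first four coordinates. -/
def τA : alternatingGroup (Fin n) :=
  ⟨swap (p5 hn 0) (p5 hn 1) * swap (p5 hn 2) (p5 hn 3), mem_alternatingGroup.2 (by
    rw [map_mul, sign_swap (p5_ne hn (by decide)), sign_swap (p5_ne hn (by decide))]; rfl)⟩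

/-- The double transposition reaching the fifth coordinate. -/
def δA : alternatingGroup (Fin n) :=
  ⟨swap (p5 hn 0) (p5 hn 1) * swap (p5 hn 3) (p5 hn 4), mem_alternatingGroup.2 (by
    rw [map_mul, sign_swap (p5_ne hn (by decide)), sign_swap (p5_ne hn (by decide))]; rfl)⟩

/-- An involution moving the first pair to the fourth and fifth coordinates. -/
def σ1A : alternatingGroup (Fin n) :=
  ⟨swap (p5 hn 0) (p5 hn 3) * swap (p5 hn 1) (p5 hn 4), mem_alternatingGroup.2 (by
    rw [map_mul, sign_swap (p5_ne hn (by decide)), sign_swap (p5_ne hn (by decide))]; rfl)⟩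

theorem τA_fix {j : Fin n} (hj : j ∉ (Low 4 : Finset (Fin n))) : (τA hn : Perm (Fin n)) j = j := by
  rw [mem_Low] at hj
  have h : ∀ i : Fin 5, (i : ℕ) < 4 → j ≠ p5 hn i := fun i hi e => hj (by rw [e, p5_val]; exact hi)
  simp only [τA, Perm.mul_apply, swap_apply_of_ne_of_ne (h 2 (by decide)) (h 3 (by decide)),
    swap_apply_of_ne_of_ne (h 0 (by decide)) (h 1 (by decide))]

theorem cA_fix {j : Fin n} (hj : j ∉ (Low 4 : Finset (Fin n))) : (cA hn : Perm (Fin n)) j = j := by
  rw [mem_Low] at hj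
  have h : ∀ i : Fin 5, (i : ℕ) < 4 → j ≠ p5 hn i := fun i hi e => hj (by rw [e, p5_val]; exact hi)
  exact CfsgLib.ShortPres.cyc3_of_ne (h 0 (by decide)) (h 1 (by decide)) (h 2 (by decide))

theorem δA_apply (i : Fin 5) : (δA hn : Perm (Fin n)) (p5 hn i) = p5 hn ((swap 0 1 * swap 3 4 : Perm (Fin 5)) i) := by
  simp only [δA, p5, Perm.mul_apply]
  rw [(Fin.castLE_injective hn).swap_apply, (Fin.castLE_injective hn).swap_apply]

theorem σ1A_apply (i : Fin 5) : (σ1A hn : Perm (Fin n)) (p5 hn i) = p5 hn ((swap 0 3 * swap 1 4 : Perm (Fin 5)) i) := by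
  simp only [σ1A, p5, Perm.mul_apply]
  rw [(Fin.castLE_injective hn).swap_apply, (Fin.castLE_injective hn).swap_apply]

theorem img_δA : img (δA hn) (Low 3) = Low 3 ∧ img (δA hn) (Low 2) = Low 2 := by
  have h : ∀ k ≤ 3, 2 ≤ k → img (δA hn) (Low k) = Low k := by
    intro k hk hk2
    refine Finset.eq_of_subset_of_card_le (fun j hj => ?_) (card_img _ _).ge
    obtain ⟨i, hi, rfl⟩ := Finset.mem_map.1 hj
    rw [mem_Low] at hi ⊢
    have hi5 : i = p5 hn ⟨i, by omega⟩ := rfl
    show ((δA hn : Perm (Fin n)) i : ℕ) < k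
    rw [hi5, δA_apply, p5_val]
    have : ∀ m : Fin 5, ∀ k : Fin 4, 2 ≤ (k : ℕ) → (m : ℕ) < k → (((swap 0 1 * swap 3 4 : Perm (Fin 5)) m : Fin 5) : ℕ) < k := by
      decide
    exact this ⟨i, by omega⟩ ⟨k, by omega⟩ hk2 hi
  exact ⟨h 3 le_rfl (by norm_num), h 2 (by norm_num) le_rfl⟩

theorem img_σ1A : img (σ1A hn) (Low 2) = {p5 hn 3, p5 hn 4} := by
  ext j
  simp only [img, Finset.mem_map, mem_Low, Finset.mem_insert, Finset.mem_singleton, Equiv.coe_toEmbedding]
  constructor
  · rintro ⟨i, hi, rfl⟩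
    have hi5 : i = p5 hn ⟨i, by omega⟩ := rfl
    rw [hi5, σ1A_apply]
    have : ∀ m : Fin 5, (m : ℕ) < 2 → (swap 0 3 * swap 1 4 : Perm (Fin 5)) m = 3 ∨
        (swap 0 3 * swap 1 4 : Perm (Fin 5)) m = 4 := by decide
    rcases this ⟨i, by omega⟩ hi with h | h
    · exact Or.inl (by rw [h])
    · exact Or.inr (by rw [h])
  · rintro (rfl | rfl)
    · exact ⟨p5 hn 0, by simp [p5_val], by rw [σ1A_apply]; rfl⟩
    · exact ⟨p5 hn 1, by simp [p5_val], by rw [σ1A_apply]; rfl⟩

/-- An involution, up to the sign, moving the first triple to the next three coordinates. -/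
def σ2A (hn6 : 6 ≤ n) : alternatingGroup (Fin n) :=
  ⟨swap (⟨0, by omega⟩ : Fin n) ⟨3, by omega⟩ * swap (⟨1, by omega⟩ : Fin n) ⟨4, by omega⟩ *
    swap (⟨2, by omega⟩ : Fin n) ⟨5, by omega⟩ * swap (⟨0, by omega⟩ : Fin n) ⟨1, by omega⟩,
    mem_alternatingGroup.2 (by
      simp only [map_mul]
      rw [sign_swap (by simp [Fin.ext_iff]), sign_swap (by simp [Fin.ext_iff]), sign_swap (by simp [Fin.ext_iff]),
        sign_swap (by simp [Fin.ext_iff])]
      rfl)⟩

theorem σ2A_apply (hn6 : 6 ≤ n) (i : Fin 6) : (σ2A hn6 : Perm (Fin n)) (Fin.castLE hn6 i) =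
    Fin.castLE hn6 ((swap 0 3 * swap 1 4 * swap 2 5 * swap 0 1 : Perm (Fin 6)) i) := by
  have e0 : (⟨0, by omega⟩ : Fin n) = Fin.castLE hn6 0 := rfl
  have e1 : (⟨1, by omega⟩ : Fin n) = Fin.castLE hn6 1 := rfl
  have e2 : (⟨2, by omega⟩ : Fin n) = Fin.castLE hn6 2 := rfl
  have e3 : (⟨3, by omega⟩ : Fin n) = Fin.castLE hn6 3 := rfl
  have e4 : (⟨4, by omega⟩ : Fin n) = Fin.castLE hn6 4 := rfl
  have e5 : (⟨5, by omega⟩ : Fin n) = Fin.castLE hn6 5 := rfl
  simp only [σ2A, Perm.mul_apply, e0, e1, e2, e3, e4, e5]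
  rw [(Fin.castLE_injective hn6).swap_apply, (Fin.castLE_injective hn6).swap_apply,
    (Fin.castLE_injective hn6).swap_apply, (Fin.castLE_injective hn6).swap_apply]

theorem img_σ2A (hn6 : 6 ≤ n) : img (σ2A hn6) (Low 3) = (Low 6).filter fun j : Fin n => 3 ≤ (j : ℕ) := by
  refine Finset.eq_of_subset_of_card_le (fun j hj => ?_) ?_
  · obtain ⟨i, hi, rfl⟩ := Finset.mem_map.1 hj
    rw [mem_Low] at hi
    have hi6 : i = Fin.castLE hn6 ⟨i, by omega⟩ := rfl
    rw [Finset.mem_filter, mem_Low, Equiv.coe_toEmbedding, hi6, σ2A_apply]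
    have : ∀ m : Fin 6, (m : ℕ) < 3 → 3 ≤ (((swap 0 3 * swap 1 4 * swap 2 5 * swap 0 1 : Perm (Fin 6)) m : Fin 6) : ℕ) := by
      decide
    rw [Fin.val_castLE]
    exact ⟨Fin.is_lt _, this ⟨i, by omega⟩ hi⟩
  · rw [card_img, card_low (by omega)]
    refine (Finset.card_le_card (t := ({⟨3, by omega⟩, ⟨4, by omega⟩, ⟨5, by omega⟩} : Finset (Fin n))) fun j hj => ?_).trans
      Finset.card_le_three
    rw [Finset.mem_filter, mem_Low] at hj
    simp only [Finset.mem_insert, Finset.mem_singleton, Fin.ext_iff]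
    omega

end CfsgLib.SUShort
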