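import Cfsg.Agent.Lib.SUCover.Basic
import Cfsg.Agent.Lib.SUCover.Herm

/-!
# The subgroups of `SU_n(q)` attached to sets of orthonormal coordinates
-/

set_option autoImplicit false
set_option linter.unusedSectionVars false

namespace CfsgLib.SUShort

open Matrix CfsgLib.UnitaryTransvection CfsgLib.UnitarySimple CfsgLib.SUCover

variable {F : Type*} [Field F] [Fintype F] {q n : ℕ} (hF : Fintype.card F = q ^ 2)

local notation "σ" => frob hF
local notation "h" => Cfsg.hermForm n F q

/-- The standard basis vector. -/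
def ev1 (j : Fin n) : Fin n → F := Pi.single j 1

include hF in
theorem h_ev1 (v : Fin n → F) (j : Fin n) : h v (ev1 j) = v j := UnitaryOrder.herm_single_right hF v j

include hF in
theorem h_ev1_left (v : Fin n → F) (j : Fin n) : h (ev1 j) v = σ (v j) := by
  rw [← h_swap hF v (ev1 j), h_ev1 hF]

include hF in
theorem h_ev1_self (j : Fin n) : h (ev1 j : Fin n → F) (ev1 j) = 1 := by
  rw [h_ev1 hF]; simp [ev1]

/-- Vanishing outside a set. -/
def Vs (S : Finset (Fin n)) (v : Fin n → F) : Prop := ∀ j, j ∉ S → v j = 0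

theorem vs_ev1 {S : Finset (Fin n)} {j : Fin n} (hj : j ∈ S) : Vs S (ev1 j : Fin n → F) := fun i hi => by
  simp [ev1, show i ≠ j from fun e => hi (e ▸ hj)]

/-- The elements fixing the basis vectors outside a set. -/
def Supp (S : Finset (Fin n)) : Subgroup (Cfsg.SU n F q) where
  carrier := {g | ∀ j, j ∉ S → mat g *ᵥ ev1 j = ev1 j}
  one_mem' j _ := by rw [mat_one, one_mulVec]
  mul_mem' {a b} ha hb j hj := by rw [mat_mul, ← mulVec_mulVec, hb j hj, ha j hj]
  inv_mem' {a} ha j hj := by conv_lhs => rw [← ha j hj]; rw [mat_inv_mulVec']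

theorem mem_Supp {S : Finset (Fin n)} {g : Cfsg.SU n F q} :
    g ∈ Supp S ↔ ∀ j, j ∉ S → mat g *ᵥ ev1 j = ev1 j := Iff.rfl

theorem supp_mono {S T : Finset (Fin n)} (hST : S ⊆ T) : (Supp S : Subgroup (Cfsg.SU n F q)) ≤ Supp T :=
  fun _ hg j hj => hg j fun e => hj (hST e)

include hF in
/-- The coordinates outside are kept. -/
theorem supp_coord {S : Finset (Fin n)} {g : Cfsg.SU n F q} (hg : g ∈ Supp S) (v : Fin n → F) {j : Fin n}
    (hj : j ∉ S) : (mat g *ᵥ v) j = v j := by
  conv_lhs => rw [← h_ev1 hF (mat g *ᵥ v) j, ← hg j hj, su_h, h_ev1 hF]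

include hF in
theorem supp_vs {S : Finset (Fin n)} {g : Cfsg.SU n F q} (hg : g ∈ Supp S) {v : Fin n → F} (hv : Vs S v) :
    Vs S (mat g *ᵥ v) := fun j hj => by rw [supp_coord hF hg v hj, hv j hj]

theorem sum_ev1 (v : Fin n → F) : v = ∑ j, v j • ev1 j := by
  funext i
  simp [ev1, Pi.single_apply, Finset.sum_apply]

theorem supp_fix {S : Finset (Fin n)} {g : Cfsg.SU n F q} (hg : g ∈ Supp S) {v : Fin n → F}
    (hv : ∀ j ∈ S, v j = 0) : mat g *ᵥ v = v := by
  conv_lhs => rw [sum_ev1 v]
  conv_rhs => rw [sum_ev1 v]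
  simp only [mulVec_sum, mulVec_smul]
  refine Finset.sum_congr rfl fun j _ => ?_
  by_cases hj : j ∈ S
  · rw [hv j hj, zero_smul, zero_smul]
  · rw [hg j hj]

theorem supp_shrink {S : Finset (Fin n)} {l : Fin n} {g : Cfsg.SU n F q} (hg : g ∈ Supp (insert l S))
    (hl : mat g *ᵥ ev1 l = ev1 l) : g ∈ Supp S := fun j hj => by
  by_cases e : j = l
  · rw [e, hl]
  · exact hg j (by simp [e, hj])

theorem supp_commute {S T : Finset (Fin n)} (hST : Disjoint S T) (hF : Fintype.card F = q ^ 2)
    {a b : Cfsg.SU n F q} (ha : a ∈ Supp S) (hb : b ∈ Supp T) : Commute a b := by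
  refine su_ext fun x => ?_
  rw [sum_ev1 x]
  simp only [mulVec_sum, mulVec_smul]
  refine Finset.sum_congr rfl fun j _ => ?_
  congr 1
  rw [mat_mul, mat_mul, ← mulVec_mulVec, ← mulVec_mulVec]
  by_cases hj : j ∈ S
  · have hjT : j ∉ T := Finset.disjoint_left.1 hST hj
    rw [hb j hjT]
    refine (supp_fix hb ?_).symm
    intro i hi
    exact supp_vs hF ha (vs_ev1 hj) i (fun e => Finset.disjoint_left.1 hST e hi)
  · rw [ha j hj]
    refine supp_fix ha ?_
    intro i hi
    by_cases hjT : j ∈ T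
    · exact supp_vs hF hb (vs_ev1 hjT) i (Finset.disjoint_left.1 hST hi)
    · rw [hb j hjT]; simp [ev1, show i ≠ j from fun e => hj (e ▸ hi)]

/-! ### Coordinates -/

section Coords

variable {k : ℕ} (f : Fin k ↪ Fin n)

include hF in
theorem h_restrict {u v : Fin n → F} (hu : Vs (Finset.univ.map f) u) :
    h u v = Cfsg.hermForm k F q (u ∘ f) (v ∘ f) := by
  show ∑ j, u j * v j ^ q = ∑ i, u (f i) * v (f i) ^ q
  rw [← Finset.sum_map Finset.univ f (fun j => u j * v j ^ q)]
  exact (Finset.sum_subset (Finset.subset_univ _) fun j _ hj => by rw [hu j hj, zero_mul]).symm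

theorem not_range {j : Fin n} (hj : j ∉ (Finset.univ : Finset (Fin k)).map f) : j ∉ Set.range f := fun ⟨i, hi⟩ =>
  hj (Finset.mem_map.2 ⟨i, Finset.mem_univ _, hi⟩)

theorem embS_mem (A : Cfsg.SU k F q) : embS hF f A ∈ Supp (Finset.univ.map f) := fun j hj => by
  funext x
  rw [mat_embS, ev1, Matrix.mulVec_single_one, Matrix.col_apply, embM_apply_col f (not_range f hj)]
  simp [Matrix.one_apply, Pi.single_apply]

theorem embS_mulVec (A : Cfsg.SU k F q) (i : Fin k) (v : Fin n → F) :
    (mat (embS hF f A) *ᵥ v) (f i) = (mat A *ᵥ (v ∘ f)) i := by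
  rw [mat_embS]
  simp only [Matrix.mulVec, dotProduct, Function.comp]
  rw [← Finset.sum_subset (Finset.subset_univ ((Finset.univ : Finset (Fin k)).map f))
    (fun x _ hx => by
      rw [embM_apply_col f (not_range f hx), Matrix.one_apply_ne (fun e => not_range f hx ⟨i, e⟩), zero_mul]),
    Finset.sum_map]
  exact Finset.sum_congr rfl fun j _ => by rw [embM_apply]

include hF in
theorem exists_embS {g : Cfsg.SU n F q} (hg : g ∈ Supp (Finset.univ.map f)) : ∃ A, embS hF f A = g := by
  have hrow : ∀ x, x ∉ Set.range f → ∀ y, mat g x y = (1 : Matrix (Fin n) (Fin n) F) x y := fun x hx y => by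
    have := supp_coord hF hg (ev1 y) (j := x) (fun e => hx (by
      obtain ⟨i, -, hi⟩ := Finset.mem_map.1 e; exact ⟨i, hi⟩))
    simpa [ev1, Matrix.one_apply, Pi.single_apply] using this
  have hcol : ∀ y, y ∉ Set.range f → ∀ x, mat g x y = (1 : Matrix (Fin n) (Fin n) F) x y := fun y hy x => by
    have := congrFun (hg y (fun e => hy (by
      obtain ⟨i, -, hi⟩ := Finset.mem_map.1 e; exact ⟨i, hi⟩))) x
    simpa [ev1, Matrix.one_apply, Pi.single_apply] using this
  set A := (mat g).submatrix f f with hA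
  have he : embM f A = mat g := by
    ext x y
    by_cases hx : x ∈ Set.range f
    · by_cases hy : y ∈ Set.range f
      · obtain ⟨i, rfl⟩ := hx; obtain ⟨j, rfl⟩ := hy; rw [embM_apply]; rfl
      · rw [embM_apply_col f hy, hcol y hy]
    · rw [embM_apply_row f hx, hrow x hx]
  have hd : A.det = 1 := by rw [← det_embM f A, he]; exact g.1.2
  have hU : UMat hF A := by
    unfold UMat
    ext i j
    have := congrFun (congrFun (umat_su hF g) (f i)) (f j)
    rw [Matrix.mul_apply, Matrix.one_apply] at this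
    rw [Matrix.mul_apply, Matrix.one_apply]
    simp only [Matrix.transpose_apply, Matrix.map_apply, hA, Matrix.submatrix_apply] at this ⊢
    rw [← Finset.sum_subset (Finset.subset_univ ((Finset.univ : Finset (Fin k)).map f)) (fun x _ hx => by
        rw [hrow x (not_range f hx) (f i), Matrix.one_apply_ne (fun e => not_range f hx ⟨i, e.symm⟩), zero_mul]),
      Finset.sum_map] at this
    rw [this]
    simp
  exact ⟨toSU hF A hU hd, su_eq_of_mat (by rw [mat_embS, mat_toSU, he])⟩

end Coords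

/-- An embedding of coordinates with a given image. -/
noncomputable def coordEmb (S : Finset (Fin n)) : Fin S.card ↪ Fin n := (S.orderEmbOfFin rfl).toEmbedding

theorem coordEmb_map (S : Finset (Fin n)) : Finset.univ.map (coordEmb S) = S := S.map_orderEmbOfFin_univ rfl

/-! ### Transitivity -/

section Move

variable {d : ℕ}

local notation "hd" => Cfsg.hermForm d F q

include hF in
theorem gu_move {u v : Fin d → F} (hu0 : u ≠ 0) (hv0 : v ≠ 0) (huv : hd u u = hd v v) :
    ∃ g ∈ Cfsg.GU d F q, g.1 *ᵥ u = v := by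
  classical
  let B : (Fin d → F) →ₛₗ[σ] (Fin d → F) →ₗ[F] F :=
    LinearMap.mk₂'ₛₗ σ (RingHom.id F) (fun x y => Cfsg.hermForm d F q y x)
      (fun a b c => h_add_right hF c a b)
      (fun r a b => h_smul_right hF r b a)
      (fun a b c => h_add_left b c a)
      (fun r a b => h_smul_left r b a)
  have hB : ∀ x y, B x y = Cfsg.hermForm d F q y x := fun x y => rfl
  have hS : B.IsSymm := ⟨fun x y => by rw [hB, hB, h_swap hF]⟩
  have hleft : ∀ x, (∀ y, B x y = 0) → x = 0 := fun x hx => h_nondeg hF fun y => by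
    rw [← h_swap hF y x, ← hB x y, hx y, map_zero]
  have hnd : B.Nondegenerate :=
    ⟨hleft, fun y hy => hleft y fun x => by rw [← hS.eq, hy x, map_zero]⟩
  let φ : (F ∙ u) →ₗ[F] (Fin d → F) :=
    (LinearMap.toSpanSingleton F (Fin d → F) v).comp
      (LinearEquiv.toSpanNonzeroSingleton F (Fin d → F) u hu0).symm.toLinearMap
  have hφ : ∀ x : F ∙ u, ∃ c : F, (x : Fin d → F) = c • u ∧ φ x = c • v := fun x => by
    refine ⟨(LinearEquiv.toSpanNonzeroSingleton F (Fin d → F) u hu0).symm x, ?_, rfl⟩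
    conv_lhs => rw [← (LinearEquiv.toSpanNonzeroSingleton F (Fin d → F) u hu0).apply_symm_apply x]
    rfl
  obtain ⟨g, hg, hgX⟩ := CfsgLib.WittExtension.sesq_extend (frob_ne_id hF) (frob_frob hF) B hS hnd (F ∙ u) φ
    ((injective_iff_map_eq_zero φ).mpr fun x hx => by
      obtain ⟨c, hc, hc'⟩ := hφ x
      rw [hc', smul_eq_zero] at hx
      rcases hx with rfl | e
      · exact Subtype.ext (by simpa using hc)
      · exact absurd e hv0)
    (fun x x' => by
      obtain ⟨c, hc, hc'⟩ := hφ x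
      obtain ⟨e, he, he'⟩ := hφ x'
      rw [hc, he, hc', he']
      simp [hB u u, hB v v, huv])
  refine ⟨GeneralLinearGroup.mkOfDetNeZero (LinearMap.toMatrix' (g : (Fin d → F) →ₗ[F] (Fin d → F)))
    (by rw [LinearMap.det_toMatrix']; exact g.isUnit_det'.ne_zero), fun x y => ?_, ?_⟩
  · show Cfsg.hermForm d F q (LinearMap.toMatrix' _ *ᵥ x) (LinearMap.toMatrix' _ *ᵥ y) = _
    rw [LinearMap.toMatrix'_mulVec, LinearMap.toMatrix'_mulVec]
    exact hg y x
  · show LinearMap.toMatrix' _ *ᵥ u = v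
    rw [LinearMap.toMatrix'_mulVec]
    obtain ⟨c, hc, hc'⟩ := hφ ⟨u, Submodule.mem_span_singleton_self u⟩
    have hc1 : c = 1 := smul_left_injective F hu0 (by simpa using hc.symm)
    have := hgX ⟨u, Submodule.mem_span_singleton_self u⟩
    rw [hc', hc1, one_smul] at this
    exact this

include hF in
/-- To a vector vanishing at one coordinate. -/
theorem su_to_free {u v : Fin d → F} (hu0 : u ≠ 0) (hv0 : v ≠ 0) (huv : hd u u = hd v v) (z : Fin d)
    (hz : v z = 0) : ∃ g : Cfsg.SU d F q, mat g *ᵥ u = v := by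
  classical
  obtain ⟨g₀, hg₀, hgu⟩ := gu_move hF hu0 hv0 huv
  set μ : Fˣ := GeneralLinearGroup.det g₀ with hμ
  have hμq : μ⁻¹ ^ (q + 1) = 1 := by rw [inv_pow, UnitaryBasic.det_pow hF hg₀, inv_one]
  have hDm : UnitaryBasic.dgl (Function.update (1 : Fin d → Fˣ) z μ⁻¹) ∈ Cfsg.GU d F q :=
    UnitaryBasic.dgl_mem _ fun i => by
      rcases eq_or_ne i z with rfl | hi
      · rw [Function.update_self, hμq]
      · rw [Function.update_of_ne hi, Pi.one_apply, one_pow]
  have hprod := mul_mem hDm hg₀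
  have hdet : ((UnitaryBasic.dgl (Function.update (1 : Fin d → Fˣ) z μ⁻¹) * g₀ : GL (Fin d) F)).1.det = 1 := by
    rw [Units.val_mul, Matrix.det_mul]
    show (diagonal fun i => ((Function.update (1 : Fin d → Fˣ) z μ⁻¹ i : Fˣ) : F)).det * _ = 1
    rw [det_diagonal, ← Units.coe_prod, Finset.prod_update_of_mem (Finset.mem_univ _)]
    simp only [Pi.one_apply, Finset.prod_const_one, mul_one]
    rw [show g₀.1.det = (μ : F) from rfl]
    exact μ.inv_mul
  refine ⟨mkSU _ (fun x y => hprod x y) hdet, ?_⟩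
  show ((UnitaryBasic.dgl (Function.update (1 : Fin d → Fˣ) z μ⁻¹)).1 * g₀.1) *ᵥ u = v
  rw [← mulVec_mulVec, hgu]
  funext i
  show (diagonal _ *ᵥ v) i = v i
  rw [mulVec_diagonal]
  rcases eq_or_ne i z with rfl | hi
  · rw [hz, mul_zero]
  · rw [Function.update_of_ne hi, Pi.one_apply, Units.val_one, one_mul]

include hF in
theorem su_move {u v : Fin d → F} (hu0 : u ≠ 0) (hv0 : v ≠ 0) (huv : hd u u = hd v v)
    (hdim : (hd u u ≠ 0 ∧ 2 ≤ d) ∨ 3 ≤ d) : ∃ g : Cfsg.SU d F q, mat g *ᵥ u = v := by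
  classical
  have hq : q ≠ 0 := by have := (UnitaryBasic.frob_exists hF).1; omega
  suffices ∃ (c : Fin d → F) (z : Fin d), c ≠ 0 ∧ hd c c = hd u u ∧ c z = 0 by
    obtain ⟨c, z, hc0, hc, hz⟩ := this
    obtain ⟨g, hg⟩ := su_to_free hF hu0 hc0 hc.symm z hz
    obtain ⟨g', hg'⟩ := su_to_free hF hv0 hc0 (huv.symm.trans hc.symm) z hz
    exact ⟨g'⁻¹ * g, by rw [mat_mul, ← mulVec_mulVec, hg, ← hg', mat_inv_mulVec']⟩
  by_cases hN : hd u u = 0
  · have h3 : 3 ≤ d := hdim.resolve_left fun e => e.1 hN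
    obtain ⟨t, ht⟩ := exists_norm_eq hF (c := (-1 : F)) (by rw [map_neg, map_one])
    refine ⟨Pi.single ⟨0, by omega⟩ 1 + Pi.single ⟨1, by omega⟩ t, ⟨2, by omega⟩, fun e => ?_, ?_, ?_⟩
    · have := congrFun e ⟨0, by omega⟩
      simp [Pi.single_apply] at this
    · rw [hN]
      show ∑ i, _ * _ ^ q = 0
      rw [Finset.sum_eq_add (⟨0, by omega⟩ : Fin d) ⟨1, by omega⟩ (by simp)
        (fun j _ hj => by simp [hj.1, hj.2, zero_pow hq]) (by simp) (by simp)]
      rw [frob_apply] at ht
      simp [ht]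
    · simp [Pi.single_apply]
  · have h2 : 2 ≤ d := by rcases hdim with e | e <;> omega
    obtain ⟨t, ht⟩ := exists_norm_eq hF (c := hd u u) (h_swap hF u u)
    refine ⟨Pi.single ⟨0, by omega⟩ t, ⟨1, by omega⟩, fun e => ?_, ?_, ?_⟩
    · have := congrFun e ⟨0, by omega⟩
      simp only [Pi.single_eq_same, Pi.zero_apply] at this
      exact hN (by rw [← ht, this, zero_mul])
    · show ∑ i, _ * _ ^ q = _
      rw [Finset.sum_eq_single (⟨0, by omega⟩ : Fin d) (fun j _ hj => by simp [hj, zero_pow hq]) (by simp)]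
      rw [frob_apply] at ht
      simpa using ht
    · simp [Pi.single_apply]

end Move

include hF in
/-- Transitivity inside a set of coordinates. -/
theorem supp_move (S : Finset (Fin n)) {u v : Fin n → F} (hu : Vs S u) (hv : Vs S v) (hu0 : u ≠ 0)
    (hv0 : v ≠ 0) (huv : h u u = h v v) (hdim : (h u u ≠ 0 ∧ 2 ≤ S.card) ∨ 3 ≤ S.card) :
    ∃ g ∈ (Supp S : Subgroup (Cfsg.SU n F q)), mat g *ᵥ u = v := by
  have hu' : Vs (Finset.univ.map (coordEmb S)) u := by rwa [coordEmb_map]
  have hv' : Vs (Finset.univ.map (coordEmb S)) v := by rwa [coordEmb_map]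
  have nz : ∀ w : Fin n → F, Vs (Finset.univ.map (coordEmb S)) w → w ≠ 0 → w ∘ coordEmb S ≠ 0 := by
    intro w hw hw0 e
    refine hw0 (funext fun j => ?_)
    by_cases hj : j ∈ Finset.univ.map (coordEmb S)
    · obtain ⟨i, -, rfl⟩ := Finset.mem_map.1 hj
      exact congrFun e i
    · exact hw j hj
  rw [h_restrict hF _ hu', h_restrict hF _ hv'] at huv
  rw [h_restrict hF _ hu'] at hdim
  obtain ⟨g, hg⟩ := su_move hF (nz u hu' hu0) (nz v hv' hv0) huv hdim
  have hm : embS hF (coordEmb S) g ∈ Supp S := by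
    have := embS_mem hF (coordEmb S) g
    rwa [coordEmb_map] at this
  refine ⟨_, hm, funext fun j => ?_⟩
  by_cases hj : j ∈ Finset.univ.map (coordEmb S)
  · obtain ⟨i, -, rfl⟩ := Finset.mem_map.1 hj
    rw [embS_mulVec, hg]; rfl
  · rw [supp_coord hF (embS_mem hF (coordEmb S) g) u hj, hu' j hj, hv' j hj]

/-! ### Parts of vectors -/

/-- The part of a vector on a set. -/
def part (S : Finset (Fin n)) (v : Fin n → F) : Fin n → F := fun j => if j ∈ S then v j else 0

theorem vs_part (S : Finset (Fin n)) (v : Fin n → F) : Vs S (part S v) := fun j hj => by simp [part, hj]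

include hF in
theorem h_split (S : Finset (Fin n)) (v : Fin n → F) :
    h v v = h (part S v) (part S v) + ∑ j ∈ Sᶜ, v j * v j ^ q := by
  show ∑ j, v j * v j ^ q = ∑ j, part S v j * part S v j ^ q + _
  rw [← Finset.sum_add_sum_compl S (fun j => v j * v j ^ q), ← Finset.sum_add_sum_compl S
    (fun j => part S v j * part S v j ^ q), Finset.sum_eq_zero (s := Sᶜ) (f := fun j => part S v j * part S v j ^ q)
    (fun j hj => by simp [part, Finset.mem_compl.1 hj]), add_zero]
  congr 1
  exact Finset.sum_congr rfl fun j hj => by simp [part, hj]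

include hF in
theorem h_two {a b : Fin n} (hab : a ≠ b) (x y : F) :
    h (x • ev1 a + y • ev1 b) (x • ev1 a + y • ev1 b) = x * σ x + y * σ y := by
  simp only [h_add_left, h_add_right hF, h_smul_left, h_smul_right hF, h_ev1 hF]
  simp [ev1, hab, hab.symm]
  ring

include hF in
/-- Moving a part of a vector into two given coordinates. -/
theorem move_part {S : Finset (Fin n)} {a b : Fin n} (ha : a ∈ S) (hb : b ∈ S) (hab : a ≠ b) (h3 : 3 ≤ S.card)
    (v : Fin n → F) : ∃ g ∈ (Supp S : Subgroup (Cfsg.SU n F q)), ∀ j ∈ S, j ≠ a → j ≠ b → (mat g *ᵥ v) j = 0 := by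
  by_cases hp0 : part S v = 0
  · refine ⟨1, one_mem _, fun j hj _ _ => ?_⟩
    rw [mat_one, one_mulVec]
    simpa [part, hj] using congrFun hp0 j
  obtain ⟨t, ht0, hvt, hN⟩ : ∃ t : Fin n → F, t ≠ 0 ∧ Vs {a, b} t ∧ h t t = h (part S v) (part S v) := by
    by_cases hN : h (part S v) (part S v) = 0
    · obtain ⟨i, hi⟩ := exists_norm_eq hF (c := (-1 : F)) (by rw [map_neg, map_one])
      refine ⟨(1 : F) • ev1 a + i • ev1 b, fun e => ?_, fun j hj => ?_, ?_⟩
      · simpa [ev1, hab] using congrFun e a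
      · simp only [Finset.mem_insert, Finset.mem_singleton, not_or] at hj
        simp [ev1, hj.1, hj.2]
      · rw [h_two hF hab, hN, map_one, hi]; ring
    · obtain ⟨i, hi⟩ := exists_norm_eq hF (c := h (part S v) (part S v)) (h_swap hF _ _)
      refine ⟨(0 : F) • ev1 a + i • ev1 b, fun e => ?_, fun j hj => ?_, ?_⟩
      · have h1 : i = 0 := by simpa [ev1] using congrFun e b
        exact hN (by rw [← hi, h1, zero_mul])
      · simp only [Finset.mem_insert, Finset.mem_singleton, not_or] at hj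
        simp [ev1, hj.2]
      · rw [h_two hF hab, hi, zero_mul, zero_add]
  obtain ⟨g, hg, hgv⟩ := supp_move hF S (vs_part S v) (fun j hj => hvt j (by
    simp only [Finset.mem_insert, Finset.mem_singleton]
    rintro (rfl | rfl) <;> contradiction)) hp0 ht0 hN.symm (Or.inr h3)
  refine ⟨g, hg, fun j hj hja hjb => ?_⟩
  have e : mat g *ᵥ v = t + (v - part S v) := by
    conv_lhs => rw [show v = part S v + (v - part S v) by abel, mulVec_add, hgv,
      supp_fix hg (fun i hi => by simp [part, hi])]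
  rw [e, Pi.add_apply, hvt j (by simp [hja, hjb]), Pi.sub_apply, part, if_pos hj, sub_self, add_zero]

include hF in
theorem norm_one_ne_zero {v : Fin n → F} (hv : h v v = 1) : v ≠ 0 := fun e => by
  rw [e] at hv
  simp [Cfsg.hermForm] at hv

include hF in
/-- A double coset decomposition. -/
theorem supp_decomp {S : Finset (Fin n)} {a b l : Fin n} (ha : a ∈ S) (hb : b ∈ S) (hab : a ≠ b) (hl : l ∉ S)
    (h3 : 3 ≤ S.card) {g : Cfsg.SU n F q} (hg : g ∈ Supp (insert l S)) :
    ∃ x ∈ (Supp S : Subgroup (Cfsg.SU n F q)), ∃ k ∈ (Supp {a, b, l} : Subgroup (Cfsg.SU n F q)),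
      ∃ y ∈ (Supp S : Subgroup (Cfsg.SU n F q)), g = x * k * y := by
  obtain ⟨x, hx, hxv⟩ := move_part hF ha hb hab h3 (mat g *ᵥ ev1 l)
  set w := mat x *ᵥ (mat g *ᵥ ev1 l) with hw
  have hxg : x * g ∈ Supp (insert l S) := mul_mem (supp_mono (Finset.subset_insert _ _) hx) hg
  have hwv : Vs (insert l S) w := by
    rw [hw, mulVec_mulVec, ← mat_mul]
    exact supp_vs hF hxg (vs_ev1 (Finset.mem_insert_self _ _))
  have hwT : Vs {a, b, l} w := fun j hj => by
    simp only [Finset.mem_insert, Finset.mem_singleton, not_or] at hj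
    by_cases hjS : j ∈ S
    · exact hxv j hjS hj.1 hj.2.1
    · exact hwv j (by simp [hjS, hj.2.2])
  have hw1 : h w w = 1 := by rw [hw, su_h, su_h, h_ev1_self hF]
  have hla : a ≠ l := fun e => hl (e ▸ ha)
  have hlb : b ≠ l := fun e => hl (e ▸ hb)
  obtain ⟨k, hk, hkv⟩ := supp_move hF {a, b, l} (vs_ev1 (by simp)) hwT
    (norm_one_ne_zero hF (h_ev1_self hF l)) (norm_one_ne_zero hF hw1) (by rw [h_ev1_self hF, hw1])
    (Or.inr (by simp [hab, hla, hlb]))
  refine ⟨x⁻¹, inv_mem hx, k, hk, k⁻¹ * (x * g), ?_, by group⟩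
  refine supp_shrink (l := l) (mul_mem (inv_mem (supp_mono ?_ hk)) hxg) ?_
  · intro j hj
    simp only [Finset.mem_insert, Finset.mem_singleton] at hj ⊢
    rcases hj with rfl | rfl | rfl <;> simp [*]
  · rw [mat_mul, mat_mul, ← mulVec_mulVec, ← mulVec_mulVec, ← hw, ← hkv, mat_inv_mulVec']

include hF in
/-- Adding one coordinate to a set of at least three. -/
theorem supp_gen {S : Finset (Fin n)} {b l : Fin n} (hb : b ∈ S) (hl : l ∉ S) (h3 : 3 ≤ S.card) :
    (Supp (insert l S) : Subgroup (Cfsg.SU n F q)) ≤ Supp S ⊔ Supp {b, l} := by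
  intro g hg
  set G := (Supp S : Subgroup (Cfsg.SU n F q)) ⊔ Supp {b, l}
  have hlb : b ≠ l := fun e => hl (e ▸ hb)
  obtain ⟨a, c, hac, ha, hc, hab, hcb⟩ : ∃ a c, a ≠ c ∧ a ∈ S ∧ c ∈ S ∧ a ≠ b ∧ c ≠ b := by
    have h2 : 1 < (S.erase b).card := by rw [Finset.card_erase_of_mem hb]; omega
    obtain ⟨a, ha, c, hc, hac⟩ := Finset.one_lt_card.1 h2
    simp only [Finset.mem_erase] at ha hc
    exact ⟨a, c, hac, ha.2, hc.2, ha.1, hc.1⟩
  have memS : ∀ x ∈ (Supp S : Subgroup (Cfsg.SU n F q)), x ∈ G := fun x hx => Subgroup.mem_sup_left hx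
  have memP : ∀ x ∈ (Supp {b, l} : Subgroup (Cfsg.SU n F q)), x ∈ G := fun x hx => Subgroup.mem_sup_right hx
  have hsubS : S ⊆ insert l S := Finset.subset_insert _ _
  have hsubP : ({b, l} : Finset (Fin n)) ⊆ insert l S := by
    intro j hj
    simp only [Finset.mem_insert, Finset.mem_singleton] at hj ⊢
    rcases hj with rfl | rfl <;> simp [*]
  -- the vector with last coordinate zero
  suffices key : ∃ g' ∈ G, g' ∈ (Supp (insert l S) : Subgroup (Cfsg.SU n F q)) ∧
      (mat g' *ᵥ (mat g *ᵥ ev1 l)) l = 0 by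
    obtain ⟨g', hg', hg'm, h0⟩ := key
    set w := mat g' *ᵥ (mat g *ᵥ ev1 l) with hw
    have hw1 : h w w = 1 := by rw [hw, su_h, su_h, h_ev1_self hF]
    have hwv : Vs S w := fun j hj => by
      rcases eq_or_ne j l with rfl | hjl
      · exact h0
      · rw [hw, mulVec_mulVec, ← mat_mul]
        exact supp_vs hF (mul_mem hg'm hg) (vs_ev1 (Finset.mem_insert_self _ _)) j (by simp [hj, hjl])
    obtain ⟨x, hx, hxw⟩ := supp_move hF S hwv (vs_ev1 hb) (norm_one_ne_zero hF hw1)
      (norm_one_ne_zero hF (h_ev1_self hF b)) (by rw [hw1, h_ev1_self hF]) (Or.inr h3)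
    obtain ⟨p, hp, hpb⟩ := supp_move hF {b, l} (vs_ev1 (j := b) (by simp)) (vs_ev1 (j := l) (by simp))
      (norm_one_ne_zero hF (h_ev1_self hF b)) (norm_one_ne_zero hF (h_ev1_self hF l))
      (by rw [h_ev1_self hF, h_ev1_self hF]) (Or.inl ⟨by rw [h_ev1_self hF]; exact one_ne_zero, by simp [hlb]⟩)
    have hin : p * x * g' * g ∈ Supp (insert l S) :=
      mul_mem (mul_mem (mul_mem (supp_mono hsubP hp) (supp_mono hsubS hx)) hg'm) hg
    have hfix : p * x * g' * g ∈ Supp S := supp_shrink hin (by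
      rw [mat_mul, mat_mul, mat_mul, ← mulVec_mulVec, ← mulVec_mulVec, ← mulVec_mulVec, ← hw, hxw, hpb])
    have := mul_mem (inv_mem (mul_mem (mul_mem (memP p hp) (memS x hx)) hg')) (memS _ hfix)
    rwa [show (p * x * g')⁻¹ * (p * x * g' * g) = g by group] at this
  -- empty the pair, then clear the last coordinate
  obtain ⟨x, hx, hxv⟩ := move_part hF ha hc hac h3 (mat g *ᵥ ev1 l)
  set u := mat x *ᵥ (mat g *ᵥ ev1 l) with hu
  by_cases hul : u l = 0
  · exact ⟨x, memS x hx, supp_mono hsubS hx, hul⟩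
  have hub : u b = 0 := hxv b hb hab.symm hcb.symm
  obtain ⟨p, hp, hpv⟩ := supp_move hF {b, l} (u := u l • ev1 l) (v := u l • ev1 b)
    (fun j hj => by simp only [Finset.mem_insert, Finset.mem_singleton, not_or] at hj; simp [ev1, hj.2])
    (fun j hj => by simp only [Finset.mem_insert, Finset.mem_singleton, not_or] at hj; simp [ev1, hj.1])
    (fun e => hul (by simpa [ev1] using congrFun e l)) (fun e => hul (by simpa [ev1] using congrFun e b))
    (by simp only [h_smul_left, h_smul_right hF, h_ev1_self hF])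
    (Or.inl ⟨by
      rw [h_smul_left, h_smul_right hF, h_ev1_self hF, mul_one]
      exact mul_ne_zero hul (by simpa using hul), by simp [hlb]⟩)
  refine ⟨p * x, mul_mem (memP p hp) (memS x hx), mul_mem (supp_mono hsubP hp) (supp_mono hsubS hx), ?_⟩
  rw [mat_mul, ← mulVec_mulVec, ← hu]
  conv_lhs => rw [show u = (u - u l • ev1 l) + u l • ev1 l by abel, mulVec_add, hpv,
    supp_fix hp (v := u - u l • ev1 l) (fun j hj => by
      simp only [Finset.mem_insert, Finset.mem_singleton] at hj
      rcases hj with rfl | rfl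
      · simp [ev1, hub, hlb]
      · simp [ev1])]
  simp [ev1, hlb.symm]

include hF in
/-- The three-coordinate case. -/
theorem supp_gen_two {a b l : Fin n} (hab : a ≠ b) (hal : a ≠ l) (hbl : b ≠ l) (hq : 3 ≤ q) :
    (Supp {a, b, l} : Subgroup (Cfsg.SU n F q)) ≤ Supp {a, b} ⊔ Supp {b, l} := by
  intro g hg
  set G := (Supp {a, b} : Subgroup (Cfsg.SU n F q)) ⊔ Supp {b, l}
  have hA : ({a, b} : Finset (Fin n)) ⊆ {a, b, l} := by intro j; simp; tauto
  have hP : ({b, l} : Finset (Fin n)) ⊆ {a, b, l} := by intro j; simp; tauto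
  have hset : ({a, b, l} : Finset (Fin n)) = insert l {a, b} := by ext j; simp; tauto
  -- clearing the last coordinate by an element of the pair
  have clear : ∀ w : Fin n → F, w b * σ (w b) + w l * σ (w l) ≠ 0 →
      ∃ p ∈ (Supp {b, l} : Subgroup (Cfsg.SU n F q)), (mat p *ᵥ w) l = 0 := by
    intro w hN
    obtain ⟨t, ht⟩ := exists_norm_eq hF (c := w b * σ (w b) + w l * σ (w l)) (by
      rw [map_add, map_mul, map_mul, frob_frob, frob_frob, mul_comm, mul_comm (σ (w l))])
    obtain ⟨p, hp, hpv⟩ := supp_move hF {b, l} (u := w b • ev1 b + w l • ev1 l) (v := t • ev1 b)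
      (fun j hj => by simp only [Finset.mem_insert, Finset.mem_singleton, not_or] at hj; simp [ev1, hj.1, hj.2])
      (fun j hj => by simp only [Finset.mem_insert, Finset.mem_singleton, not_or] at hj; simp [ev1, hj.1])
      (fun e => hN (by
        have e1 : w b = 0 := by simpa [ev1, hbl] using congrFun e b
        have e2 : w l = 0 := by simpa [ev1, hbl.symm] using congrFun e l
        rw [e1, e2]; simp))
      (fun e => hN (by
        have e1 : t = 0 := by simpa [ev1] using congrFun e b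
        rw [← ht, e1, zero_mul]))
      (by rw [h_two hF hbl, h_smul_left, h_smul_right hF, h_ev1_self hF, mul_one, ht])
      (Or.inl ⟨by rwa [h_two hF hbl], by simp [hbl]⟩)
    refine ⟨p, hp, ?_⟩
    have e : w = (w - (w b • ev1 b + w l • ev1 l)) + (w b • ev1 b + w l • ev1 l) := by abel
    rw [e, mulVec_add, hpv, supp_fix hp (v := w - (w b • ev1 b + w l • ev1 l)) (fun j hj => by
      simp only [Finset.mem_insert, Finset.mem_singleton] at hj
      rcases hj with rfl | rfl
      · simp [ev1, hbl]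
      · simp [ev1, hbl.symm])]
    simp [ev1, hbl.symm]
  set w := mat g *ᵥ ev1 l with hwdef
  have hw1 : h w w = 1 := by rw [hwdef, su_h, h_ev1_self hF]
  have hwv : Vs {a, b, l} w := supp_vs hF hg (vs_ev1 (by simp))
  have hsum : ∀ v : Fin n → F, Vs {a, b, l} v → h v v = v a * σ (v a) + v b * σ (v b) + v l * σ (v l) := by
    intro v hv
    show ∑ j, v j * v j ^ q = _
    rw [← Finset.sum_subset (Finset.subset_univ ({a, b, l} : Finset (Fin n))) (fun j _ hj => by
      rw [hv j hj, zero_mul]), Finset.sum_insert (by simp [hab, hal]), Finset.sum_insert (by simp [hbl]),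
      Finset.sum_singleton]
    simp only [frob_apply]
    ring
  -- some element of the group clears the last coordinate
  suffices key : ∃ g' ∈ G, g' ∈ (Supp {a, b, l} : Subgroup (Cfsg.SU n F q)) ∧ (mat g' *ᵥ w) l = 0 by
    obtain ⟨g', hg', hg'm, h0⟩ := key
    have hw' : Vs {a, b} (mat g' *ᵥ w) := fun j hj => by
      rcases eq_or_ne j l with rfl | hjl
      · exact h0
      · exact supp_vs hF hg'm hwv j (by simp only [Finset.mem_insert, Finset.mem_singleton, not_or] at hj ⊢
                                        exact ⟨hj.1, hj.2, hjl⟩)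
    obtain ⟨x, hx, hxw⟩ := supp_move hF {a, b} hw' (vs_ev1 (j := b) (by simp))
      (norm_one_ne_zero hF (by rw [su_h, hw1])) (norm_one_ne_zero hF (h_ev1_self hF b))
      (by rw [su_h, hw1, h_ev1_self hF]) (Or.inl ⟨by rw [su_h, hw1]; exact one_ne_zero, by simp [hab]⟩)
    obtain ⟨p, hp, hpb⟩ := supp_move hF {b, l} (vs_ev1 (j := b) (by simp)) (vs_ev1 (j := l) (by simp))
      (norm_one_ne_zero hF (h_ev1_self hF b)) (norm_one_ne_zero hF (h_ev1_self hF l))
      (by rw [h_ev1_self hF, h_ev1_self hF]) (Or.inl ⟨by rw [h_ev1_self hF]; exact one_ne_zero, by simp [hbl]⟩)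
    have hin : p * x * g' * g ∈ Supp (insert l ({a, b} : Finset (Fin n))) := by
      rw [← hset]
      exact mul_mem (mul_mem (mul_mem (supp_mono hP hp) (supp_mono hA hx)) hg'm) hg
    have hfix : p * x * g' * g ∈ Supp ({a, b} : Finset (Fin n)) := supp_shrink hin (by
      rw [mat_mul, mat_mul, mat_mul, ← mulVec_mulVec, ← mulVec_mulVec, ← mulVec_mulVec, ← hwdef, hxw, hpb])
    have := mul_mem (inv_mem (mul_mem (mul_mem (Subgroup.mem_sup_right hp) (Subgroup.mem_sup_left hx)) hg'))
      (Subgroup.mem_sup_left (T := Supp {b, l}) hfix)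
    rwa [show (p * x * g')⁻¹ * (p * x * g' * g) = g by group] at this
  by_cases hN : w b * σ (w b) + w l * σ (w l) = 0
  swap
  · obtain ⟨p, hp, hp0⟩ := clear w hN
    exact ⟨p, Subgroup.mem_sup_right hp, supp_mono hP hp, hp0⟩
  have hN1 := hsum w hwv
  rw [hw1] at hN1
  have hNa : w a * σ (w a) = 1 := by linear_combination -hN1 - hN
  by_cases hp0 : w a * σ (w a) + w b * σ (w b) = 0
  swap
  · -- move the part in the first pair into one coordinate
    obtain ⟨t, ht⟩ := exists_norm_eq hF (c := w a * σ (w a) + w b * σ (w b)) (by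
      rw [map_add, map_mul, map_mul, frob_frob, frob_frob, mul_comm, mul_comm (σ (w b))])
    obtain ⟨x, hx, hxw⟩ := supp_move hF {a, b} (u := w a • ev1 a + w b • ev1 b) (v := t • ev1 a)
      (fun j hj => by simp only [Finset.mem_insert, Finset.mem_singleton, not_or] at hj; simp [ev1, hj.1, hj.2])
      (fun j hj => by simp only [Finset.mem_insert, Finset.mem_singleton, not_or] at hj; simp [ev1, hj.1])
      (fun e => hp0 (by
        have e1 : w a = 0 := by simpa [ev1, hab] using congrFun e a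
        have e2 : w b = 0 := by simpa [ev1, hab.symm] using congrFun e b
        rw [e1, e2]; simp))
      (fun e => hp0 (by
        have e1 : t = 0 := by simpa [ev1] using congrFun e a
        rw [← ht, e1, zero_mul]))
      (by rw [h_two hF hab, h_smul_left, h_smul_right hF, h_ev1_self hF, mul_one, ht])
      (Or.inl ⟨by rwa [h_two hF hab], by simp [hab]⟩)
    have e : mat x *ᵥ w = (w - (w a • ev1 a + w b • ev1 b)) + t • ev1 a := by
      conv_lhs => rw [show w = (w - (w a • ev1 a + w b • ev1 b)) + (w a • ev1 a + w b • ev1 b) by abel,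
        mulVec_add, hxw, supp_fix hx (v := w - (w a • ev1 a + w b • ev1 b)) (fun j hj => by
          simp only [Finset.mem_insert, Finset.mem_singleton] at hj
          rcases hj with rfl | rfl
          · simp [ev1, hab]
          · simp [ev1, hab.symm])]
    by_cases hl0 : w l = 0
    · exact ⟨1, one_mem _, one_mem _, by rw [mat_one, one_mulVec]; exact hl0⟩
    obtain ⟨p, hp, hp0'⟩ := clear (mat x *ᵥ w) (by
      rw [e]
      simp [ev1, hab.symm, hal.symm, hbl.symm]
      exact hl0)
    exact ⟨p * x, mul_mem (Subgroup.mem_sup_right hp) (Subgroup.mem_sup_left hx),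
      mul_mem (supp_mono hP hp) (supp_mono hA hx), by rw [mat_mul, ← mulVec_mulVec, hp0']⟩
  -- an isotropic part: change the norm of its first coordinate by a transvection
  obtain ⟨ω, hω1, hω⟩ := exists_omega hF
  set z : Fin n → F := w a • ev1 a + (ω * w b) • ev1 b with hz
  have hzz : h z z = 0 := by
    rw [hz, h_two hF hab, map_mul]
    linear_combination hp0 + (w b * σ (w b)) * hω
  have hzm : Vs {a, b} z := fun j hj => by
    simp only [Finset.mem_insert, Finset.mem_singleton, not_or] at hj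
    simp [hz, ev1, hj.1, hj.2]
  have hwz : h w z = 1 - σ ω := by
    rw [hz, h_add_right hF, h_smul_right hF, h_smul_right hF, h_ev1 hF, h_ev1 hF, map_mul]
    linear_combination (1 - σ ω) * hNa + σ ω * hp0
  obtain ⟨δ, hδ0, hδ⟩ := exists_skew hF
  obtain ⟨c, hc, hc1⟩ : ∃ c : F, c + σ c = 0 ∧
      (1 + c * (1 - σ ω)) * σ (1 + c * (1 - σ ω)) ≠ 1 := by
    by_contra hcon
    push Not at hcon
    obtain ⟨r, hr0, hr1, hr⟩ : ∃ r : F, r ≠ 0 ∧ r ≠ 1 ∧ σ r = r := by
      obtain ⟨ω', hω'⟩ := IsCyclic.exists_generator (α := Fˣ)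
      refine ⟨(ω' : F) * σ (ω' : F), mul_ne_zero ω'.ne_zero (by simp), fun e => ?_,
        by rw [map_mul, frob_frob, mul_comm]⟩
      have h1 : ω' ^ (q + 1) = 1 := Units.ext (by
        rw [Units.val_pow_eq_pow_val, pow_succ', ← frob_apply hF, e, Units.val_one])
      have h2 := Nat.le_of_dvd (by omega) (orderOf_dvd_of_pow_eq_one h1)
      rw [orderOf_eq_card_of_forall_mem_zpowers hω', Nat.card_units, Nat.card_eq_fintype_card, hF] at h2
      have : 3 * q ≤ q * q := Nat.mul_le_mul_right q hq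
      rw [sq] at h2
      omega
    have e1 := hcon δ hδ
    have e2 := hcon (r * δ) (by rw [map_mul, hr]; linear_combination r * hδ)
    rw [map_add, map_one, map_mul, map_sub, map_one, frob_frob] at e1
    rw [map_add, map_one, map_mul, map_mul, map_sub, map_one, frob_frob, hr] at e2
    set A := δ * (1 - σ ω) + σ δ * (1 - ω)
    set B := δ * (1 - σ ω) * (σ δ * (1 - ω))
    have hA1 : A + B = 0 := by simp only [A, B]; linear_combination e1
    have hA2 : r * A + r * r * B = 0 := by simp only [A, B]; linear_combination e2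
    have hB0 : B = 0 := by
      have : (r * r - r) * B = 0 := by linear_combination hA2 - r * hA1
      exact (mul_eq_zero.1 this).resolve_left (fun h0 => hr1 (mul_left_cancel₀ hr0 (by linear_combination h0)))
    simp only [B, mul_eq_zero] at hB0
    rcases hB0 with (h0 | h0) | h0 | h0
    · exact hδ0 h0
    · have h1 : σ ω = 1 := by linear_combination -h0
      exact hω1 (by rw [← frob_frob hF ω, h1, map_one])
    · exact hδ0 (by simpa using h0)
    · exact hω1 (by linear_combination -h0)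
  have hT : tv hF z hzz c hc ∈ Supp {a, b} := fun j hj => by
    simp only [Finset.mem_insert, Finset.mem_singleton, not_or] at hj
    rw [tv_mulVec, h_ev1_left hF]
    simp [hz, ev1, hj.1, hj.2]
  set w' := mat (tv hF z hzz c hc) *ᵥ w with hw'
  have hw'a : w' a = w a * (1 + c * (1 - σ ω)) := by
    rw [hw', tv_mulVec, hwz]
    simp [hz, ev1, hab]
    ring
  have hN' : w' b * σ (w' b) + w' l * σ (w' l) ≠ 0 := fun e => by
    have h1 := hsum w' (supp_vs hF (supp_mono hA hT) hwv)
    rw [hw', su_h, hw1, ← hw', hw'a, map_mul] at h1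
    exact hc1 (by linear_combination -h1 - e - ((1 + c * (1 - σ ω)) * σ (1 + c * (1 - σ ω))) * hNa)
  obtain ⟨p, hp, hp0'⟩ := clear w' hN'
  exact ⟨p * tv hF z hzz c hc, mul_mem (Subgroup.mem_sup_right hp) (Subgroup.mem_sup_left hT),
    mul_mem (supp_mono hP hp) (supp_mono hA hT), by rw [mat_mul, ← mulVec_mulVec, hp0']⟩

/-! ### Permutation matrices -/

/-- The permutation matrices of even permutations. -/
noncomputable def pmA : alternatingGroup (Fin n) →* Cfsg.SU n F q :=
  MonoidHom.mk' (fun s => permSU hF (s : Equiv.Perm (Fin n))⁻¹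
    (by rw [map_inv, Equiv.Perm.mem_alternatingGroup.1 s.2]; simp)) fun s t => by
    rw [permSU_mul]
    exact su_eq_of_mat (by rw [mat_permSU, mat_permSU]; simp [_root_.mul_inv_rev])

theorem pmA_ev1 (s : alternatingGroup (Fin n)) (j : Fin n) :
    mat (pmA hF s) *ᵥ (ev1 j : Fin n → F) = ev1 ((s : Equiv.Perm (Fin n)) j) := by
  funext i
  show ((1 : Matrix (Fin n) (Fin n) F).submatrix ⇑((s : Equiv.Perm (Fin n))⁻¹) id *ᵥ Pi.single j 1) i = _
  rw [Matrix.mulVec_single_one, Matrix.col_apply, Matrix.submatrix_apply, id_eq, Matrix.one_apply, ev1,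
    Pi.single_apply]
  simp [Equiv.Perm.inv_eq_iff_eq, Equiv.symm_apply_eq]

theorem pmA_supp (s : alternatingGroup (Fin n)) {S : Finset (Fin n)} {g : Cfsg.SU n F q} (hg : g ∈ Supp S) :
    pmA hF s * g * (pmA hF s)⁻¹ ∈ Supp (S.map (s : Equiv.Perm (Fin n)).toEmbedding) := by
  intro j hj
  have hj' : (s : Equiv.Perm (Fin n))⁻¹ j ∉ S := fun e => hj (Finset.mem_map.2 ⟨_, e, by simp⟩)
  rw [← map_inv, mat_mul, mat_mul, ← mulVec_mulVec, ← mulVec_mulVec, pmA_ev1, Subgroup.coe_inv, hg _ hj', pmA_ev1]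
  simp

theorem pmA_mem_supp (s : alternatingGroup (Fin n)) {S : Finset (Fin n)}
    (hs : ∀ j, j ∉ S → (s : Equiv.Perm (Fin n)) j = j) : pmA hF s ∈ Supp S := fun j hj => by
  rw [pmA_ev1, hs j hj]

end CfsgLib.SUShort
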