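import Cfsg.Agent.Lib.SUShort.Model

/-!
# The generators of `SU₃(q)` and the list of relators
-/

set_option autoImplicit false
set_option linter.unusedSectionVars false

namespace CfsgLib.SUShort

open Matrix Polynomial CfsgLib.UnitaryTransvection CfsgLib.UnitarySimple CfsgLib.TwoGenCl.Unit
open CfsgLib.SL2Pres (cj ev cj_zero cj_conj map_cj map_ev ev_mem ev_eq_hom U T H IsModuleRels exists_moduleRels
  exists_monic_lift ker_le_span)

variable {F : Type} [Field F] [Fintype F] {q : ℕ}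

namespace Three

variable (M : Three F q)

local notation "σ" => frob M.hF
local notation "h₃" => Cfsg.hermForm 3 F q

theorem ω_moved : σ (M.ω : F) ≠ M.ω := fun h => M.ν_moved (by
  show σ ((M.ω : F) ^ (2 * q - 1)) = _
  rw [map_pow, h]; rfl)

/-- The scale of the centre. -/
noncomputable def δ : F := σ M.ν - M.ν

theorem δ_ne : M.δ ≠ 0 := sub_ne_zero.2 M.ν_moved

theorem δ_skew : σ M.δ = -M.δ := by rw [δ, map_sub, frob_frob]; ring

/-- The second coordinate of the generator. -/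
noncomputable def β : F := (M.ω : F) / (σ (M.ω : F) - M.ω)

theorem β_trace : M.β + σ M.β = -1 := by
  have h1 : σ (M.ω : F) - M.ω ≠ 0 := sub_ne_zero.2 M.ω_moved
  have h2 : (M.ω : F) - σ (M.ω : F) ≠ 0 := sub_ne_zero.2 M.ω_moved.symm
  rw [β, map_div₀, map_sub, frob_frob]
  field_simp
  ring

theorem β_cond : (1 : F) * σ 1 + M.β + σ M.β = 0 := by rw [map_one]; linear_combination M.β_trace

/-- The generator of the unipotent group. -/
noncomputable def gu : Cfsg.SU 3 F q := M.X 1 M.β M.β_cond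

/-- The generator of the torus. -/
noncomputable def gh : Cfsg.SU 3 F q := M.tor M.ω

/-- The generators. -/
noncomputable def gens : Fin 3 → Cfsg.SU 3 F q := ![M.gu, M.nn, M.gh]

theorem lift_U : FreeGroup.lift M.gens U = M.gu := by simp [U, gens]

theorem lift_T : FreeGroup.lift M.gens T = M.nn := by simp [T, gens]

theorem lift_H : FreeGroup.lift M.gens H = M.gh := by simp [H, gens]

theorem σω_mul : σ (M.ω : F) * (σ (M.ω : F) / (M.ω : F)) = M.ν := by
  have h0 := M.ω.ne_zero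
  show _ = (M.ω : F) ^ (2 * q - 1)
  rw [← mul_div_assoc, div_eq_iff h0, ← pow_succ, frob_apply, ← pow_add]
  congr 1
  have := M.hq
  omega

theorem conj_cond {a s : F} (hs : a * σ a + s + σ s = 0) (i : ℕ) :
    (M.ν ^ i * a) * σ (M.ν ^ i * a) + M.ρ ^ i * s + σ (M.ρ ^ i * s) = 0 := by
  have h1 : M.ν * σ M.ν = M.ρ := M.ν_norm
  have h2 : σ M.ρ = M.ρ := M.ρ_fix
  simp only [map_mul, map_pow, h2]
  rw [show M.ν ^ i * a * (σ M.ν ^ i * σ a) = (M.ν * σ M.ν) ^ i * (a * σ a) by ring, h1]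
  linear_combination (M.ρ ^ i) * hs

theorem conj_pow {a s : F} (hs : a * σ a + s + σ s = 0) (i : ℕ) :
    M.gh ^ i * M.X a s hs * (M.gh ^ i)⁻¹ = M.X (M.ν ^ i * a) (M.ρ ^ i * s) (M.conj_cond hs i) := by
  induction i with
  | zero =>
    rw [pow_zero, one_mul, inv_one, mul_one]
    exact M.X_congr _ (by simp) (by simp) _
  | succ i ih =>
    rw [show M.gh ^ (i + 1) * M.X a s hs * (M.gh ^ (i + 1))⁻¹ =
      M.gh * (M.gh ^ i * M.X a s hs * (M.gh ^ i)⁻¹) * M.gh⁻¹ by group, ih, gh, M.tor_conj]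
    exact M.X_congr _ (by rw [M.σω_mul, pow_succ']; ring) (by rw [M.ω_fix_mul, pow_succ']; ring) _

theorem cj_gu (i : ℕ) : ∃ hs, cj M.gh M.gu i = M.X (M.ν ^ i) (M.ρ ^ i * M.β) hs := by
  refine ⟨by simpa using M.conj_cond M.β_cond i, ?_⟩
  rw [cj, gu, M.conj_pow]
  exact M.X_congr _ (mul_one _) rfl _

theorem gh_pow_N : M.gh ^ (q ^ 2 - 1) = 1 := by
  have h1 : M.ω ^ (q ^ 2 - 1) = 1 := Units.ext (by
    rw [Units.val_pow_eq_pow_val, Units.val_one]
    exact (M.pow_eq_one_iff _).2 dvd_rfl)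
  rw [gh, M.tor_pow, h1, M.tor_one]

theorem tor_eq (x : Fˣ) : ∃ j : ℕ, M.tor x = M.gh ^ j := by
  obtain ⟨j, rfl⟩ := M.hω x
  exact ⟨j, (M.tor_pow _ j).symm⟩

theorem conj_UU {g : Cfsg.SU 3 F q} (hg : g ∈ M.UU) (i : ℕ) : M.gh ^ i * g * (M.gh ^ i)⁻¹ ∈ M.UU := by
  obtain ⟨a, s, hs, rfl⟩ := hg
  exact ⟨_, _, _, M.conj_pow hs i⟩

theorem gu_mem : M.gu ∈ M.UU := ⟨_, _, _, rfl⟩

/-- The first coordinate. -/
def α (g : Cfsg.SU 3 F q) : F := h₃ (mat g *ᵥ M.f) M.w

theorem α_X {a s : F} (hs : a * σ a + s + σ s = 0) : M.α (M.X a s hs) = a := by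
  rw [α, M.X_f]
  simp only [h_add_left, h_smul_left, f, w, e, M.fr.fu, M.fr.uu, M.fr.eu]
  simp

/-- The first coordinate as a homomorphism. -/
noncomputable def αH : M.UU →* Multiplicative F :=
  MonoidHom.mk' (fun g => Multiplicative.ofAdd (M.α g)) (by
    rintro ⟨_, a, s, hs, rfl⟩ ⟨_, b, t, ht, rfl⟩
    show Multiplicative.ofAdd (M.α (M.X a s hs * M.X b t ht)) = _
    rw [M.X_mul hs ht, M.α_X, M.α_X, M.α_X, ofAdd_add])

theorem α_mul {g g' : Cfsg.SU 3 F q} (hg : g ∈ M.UU) (hg' : g' ∈ M.UU) : M.α (g * g') = M.α g + M.α g' := by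
  have := map_mul M.αH ⟨g, hg⟩ ⟨g', hg'⟩
  exact Multiplicative.ofAdd.injective this

theorem α_one : M.α 1 = 0 := by
  rw [← M.X_zero, M.α_X]

theorem α_inv {g : Cfsg.SU 3 F q} (hg : g ∈ M.UU) : M.α g⁻¹ = -M.α g := by
  have := M.α_mul (inv_mem hg) hg
  rw [inv_mul_cancel, M.α_one] at this
  linear_combination -this

theorem α_zpow {g : Cfsg.SU 3 F q} (hg : g ∈ M.UU) (c : ℤ) : M.α (g ^ c) = c * M.α g := by
  have := map_zpow M.αH ⟨g, hg⟩ c
  have h1 := congrArg Multiplicative.toAdd this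
  rw [toAdd_zpow, zsmul_eq_mul] at h1
  exact h1

theorem α_conj {g : Cfsg.SU 3 F q} (hg : g ∈ M.UU) (i : ℕ) :
    M.α (M.gh ^ i * g * (M.gh ^ i)⁻¹) = M.ν ^ i * M.α g := by
  obtain ⟨a, s, hs, rfl⟩ := hg
  rw [M.conj_pow, M.α_X, M.α_X]

theorem ev_spec {g : Cfsg.SU 3 F q} (hg : g ∈ M.UU) (k : ℕ) (P : ℤ[X]) :
    ev M.gh g k P ∈ M.UU ∧ M.α (ev M.gh g k P) = M.α g * aeval (M.ν ^ k) P := by
  have hl : ∀ l : List ℕ, (l.map fun i => cj M.gh g (k * i) ^ P.coeff i).prod ∈ M.UU ∧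
      M.α (l.map fun i => cj M.gh g (k * i) ^ P.coeff i).prod =
        M.α g * (l.map fun i => (P.coeff i : F) * (M.ν ^ k) ^ i).sum := by
    intro l
    induction l with
    | nil => exact ⟨by simp, by simp [M.α_one]⟩
    | cons i l ih =>
      simp only [List.map_cons, List.prod_cons, List.sum_cons]
      have h1 : cj M.gh g (k * i) ∈ M.UU := M.conj_UU hg _
      refine ⟨mul_mem (zpow_mem h1 _) ih.1, ?_⟩
      rw [M.α_mul (zpow_mem h1 _) ih.1, M.α_zpow h1, ih.2, cj, M.α_conj hg, pow_mul]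
      ring
  obtain ⟨h1, h2⟩ := hl (List.range (P.natDegree + 1))
  refine ⟨h1, ?_⟩
  rw [ev, h2, aeval_eq_sum_range]
  congr 1
  rw [← List.sum_toFinset _ (List.nodup_range)]
  refine Finset.sum_congr (by ext i; simp) fun i _ => ?_
  rw [zsmul_eq_mul]

theorem card_F0 : Nat.card (F0 M.hF) = q := by
  classical
  have hq := M.hq
  haveI := Fintype.ofFinite (F0 M.hF)
  rw [Nat.card_eq_fintype_card]
  refine le_antisymm ?_ ?_
  · let Φ : Option (Fin (q - 1)) → F0 M.hF := fun o => o.elim 0 fun i =>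
      ⟨M.ρ ^ i.val, by
        have h1 : σ M.ρ = M.ρ := M.ρ_fix
        rw [mem_F0, map_pow, h1]⟩
    have hs : Function.Surjective Φ := by
      rintro ⟨x, hx⟩
      rcases eq_or_ne x 0 with rfl | h0
      · exact ⟨none, rfl⟩
      · obtain ⟨i, rfl⟩ := M.exists_fix x hx h0
        refine ⟨some ⟨i % (q - 1), Nat.mod_lt _ (by omega)⟩, Subtype.ext ?_⟩
        have h1 : M.ρ ^ (q - 1) = 1 := by
          show ((M.ω : F) ^ (q + 1)) ^ (q - 1) = 1
          rw [← pow_mul, ← M.sq_sub]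
          exact (M.pow_eq_one_iff _).2 dvd_rfl
        show M.ρ ^ (i % (q - 1)) = M.ρ ^ i
        conv_rhs => rw [← Nat.div_add_mod i (q - 1), pow_add, pow_mul, h1, one_pow, one_mul]
    refine (Fintype.card_le_of_surjective Φ hs).trans ?_
    rw [Fintype.card_option, Fintype.card_fin]
    omega
  · let Φ : F0 M.hF × F0 M.hF → F := fun x => (x.1 : F) + M.ν * x.2
    have hs : Function.Surjective Φ := fun a => by
      obtain ⟨c, d, hc, hd, rfl⟩ := M.span_two a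
      exact ⟨(⟨c, hc⟩, ⟨d, hd⟩), rfl⟩
    have := Fintype.card_le_of_surjective Φ hs
    rw [M.hF, Fintype.card_prod, sq] at this
    exact Nat.mul_self_le_mul_self_iff.1 this

theorem zcond {c : F} (hc : c ∈ F0 M.hF) : (0 : F) * σ 0 + c * M.δ + σ (c * M.δ) = 0 := by
  rw [mem_F0] at hc
  rw [map_mul, hc, M.δ_skew]
  simp

/-- The centre of the unipotent group. -/
noncomputable def ψT : Multiplicative (F0 M.hF) →* Cfsg.SU 3 F q :=
  MonoidHom.mk' (fun c => M.X 0 ((Multiplicative.toAdd c : F0 M.hF) * M.δ) (M.zcond (Multiplicative.toAdd c).2))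
    (fun c d => by
      rw [M.X_mul]
      exact M.X_congr _ (by simp) (by simp [add_mul]) _)

theorem ψT_apply (c : F0 M.hF) :
    M.ψT (Multiplicative.ofAdd c) = M.X 0 ((c : F) * M.δ) (M.zcond c.2) := rfl

/-- The multiplier on the centre, in the fixed field. -/
noncomputable def ρ₀ : F0 M.hF := ⟨M.ρ, M.ρ_fix⟩

theorem ψT_conj (c : F0 M.hF) :
    M.gh * M.ψT (Multiplicative.ofAdd c) * M.gh⁻¹ = M.ψT (Multiplicative.ofAdd (M.ρ₀ * c)) := by
  have := M.conj_pow (M.zcond c.2) 1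
  rw [pow_one] at this
  rw [M.ψT_apply, this, M.ψT_apply]
  exact M.X_congr _ (by simp) (by show M.ρ ^ 1 * _ = M.ρ * _ * _; ring) _

/-- The word whose value generates the centre. -/
def zw : FreeGroup (Fin 3) := U * cj H U 1 * U⁻¹ * (cj H U 1)⁻¹

theorem lift_zw : FreeGroup.lift M.gens zw = M.ψT (Multiplicative.ofAdd 1) := by
  obtain ⟨hs, h1⟩ := M.cj_gu 1
  rw [zw, map_mul, map_mul, map_mul, map_inv, map_inv, map_cj, M.lift_U, M.lift_H, mul_inv_eq_iff_eq_mul,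
    mul_inv_eq_iff_eq_mul, h1, M.ψT_apply, gu, M.X_mul, M.X_mul, M.X_mul]
  refine M.X_congr _ (by ring) ?_ _
  simp [δ]
  ring

theorem exists_zpoly (c : F0 M.hF) : ∃ P : ℤ[X], aeval M.ρ₀ P = c := by
  rcases eq_or_ne c 0 with rfl | h0
  · exact ⟨0, map_zero _⟩
  · obtain ⟨i, hi⟩ := M.exists_fix c c.2 (fun e => h0 (Subtype.ext e))
    exact ⟨Polynomial.X ^ i, Subtype.ext (by rw [map_pow, aeval_X, hi]; rfl)⟩

/-- A word for an element of the centre. -/
noncomputable def zW (c : F0 M.hF) : FreeGroup (Fin 3) := ev H zw 1 (M.exists_zpoly c).choose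

theorem lift_zW (c : F0 M.hF) : FreeGroup.lift M.gens (M.zW c) = M.ψT (Multiplicative.ofAdd c) := by
  rw [zW, map_ev, M.lift_H, M.lift_zw, ev_eq_hom M.ψT M.ρ₀ M.gh M.ψT_conj, pow_one,
    (M.exists_zpoly c).choose_spec]

theorem of_α_zero {g : Cfsg.SU 3 F q} (hg : g ∈ M.UU) (h0 : M.α g = 0) :
    ∃ c : F0 M.hF, g = M.ψT (Multiplicative.ofAdd c) := by
  obtain ⟨a, s, hs, rfl⟩ := hg
  rw [M.α_X] at h0
  subst h0
  have hs' : σ s = -s := by simp at hs; linear_combination hs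
  refine ⟨⟨s / M.δ, by rw [mem_F0, map_div₀, hs', M.δ_skew, neg_div_neg_eq]⟩, ?_⟩
  rw [M.ψT_apply]
  exact M.X_congr _ rfl (div_mul_cancel₀ _ M.δ_ne).symm _

/-- The value of a word is central in the unipotent group. -/
def IsZ (w : FreeGroup (Fin 3)) : Prop := FreeGroup.lift M.gens w ∈ M.UU ∧ M.α (FreeGroup.lift M.gens w) = 0

open Classical in
/-- The word corrected by a central element. -/
noncomputable def modZ (w : FreeGroup (Fin 3)) : FreeGroup (Fin 3) :=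
  if h : M.IsZ w then w * (M.zW (M.of_α_zero h.1 h.2).choose)⁻¹ else 1

theorem lift_modZ (w : FreeGroup (Fin 3)) : FreeGroup.lift M.gens (M.modZ w) = 1 := by
  rw [modZ]
  split_ifs with h
  · rw [map_mul, map_inv, M.lift_zW, mul_inv_eq_one]
    exact (M.of_α_zero h.1 h.2).choose_spec
  · exact map_one _

theorem z_mem_closure (c : F0 M.hF) :
    M.ψT (Multiplicative.ofAdd c) ∈ Subgroup.closure (Set.range fun i => cj M.gh (FreeGroup.lift M.gens zw) i) := by
  rw [← M.lift_zW c, zW, map_ev, M.lift_H]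
  exact ev_mem _ _ _ _ _ fun i _ => Subgroup.subset_closure ⟨i, by simp⟩

/-- A word for an element spanned by progressions. -/
theorem exists_span_word {g : Cfsg.SU 3 F q} (hg : g ∈ M.UU) {d e : ℕ} (he : e ≤ 3) (P : Fin e → ℤ[X])
    (h : M.α g = ∑ i : Fin e, M.ν ^ (i : ℕ) * aeval (M.ν ^ d) (P i)) :
    ∃ w ∈ Subgroup.closure (progs H U d e ∪ Set.range fun i => cj H zw i),
      FreeGroup.lift M.gens w = g := by
  have hp : ∀ l : List (Fin e), ∃ w ∈ Subgroup.closure (progs H U d e ∪ Set.range fun i => cj H zw i),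
      FreeGroup.lift M.gens w ∈ M.UU ∧
        M.α (FreeGroup.lift M.gens w) = (l.map fun i : Fin e => M.ν ^ (i : ℕ) * aeval (M.ν ^ d) (P i)).sum := by
    intro l
    induction l with
    | nil => exact ⟨1, one_mem _, by simp, by simp [M.α_one]⟩
    | cons i l ih =>
      obtain ⟨w, hw, h1, h2⟩ := ih
      obtain ⟨h3, h4⟩ := M.ev_spec (M.conj_UU M.gu_mem i) d (P i)
      refine ⟨ev H (cj H U i) d (P i) * w, mul_mem (ev_mem _ _ _ _ _ fun m _ => ?_) hw, ?_, ?_⟩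
      · exact Subgroup.subset_closure (Or.inl ⟨m, i, i.2, by rw [cj, cj_conj]⟩)
      · rw [map_mul, map_ev, map_cj, M.lift_H, M.lift_U]
        exact mul_mem h3 h1
      · rw [map_mul, map_ev, map_cj, M.lift_H, M.lift_U, cj, M.α_mul h3 h1]
        rw [h4, M.α_conj M.gu_mem, gu, M.α_X, h2, List.map_cons, List.sum_cons]
        ring
  obtain ⟨w, hw, h1, h2⟩ := hp (List.finRange e)
  rw [← List.sum_toFinset _ (List.nodup_finRange e)] at h2
  have h5 : M.α ((FreeGroup.lift M.gens w)⁻¹ * g) = 0 := by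
    rw [M.α_mul (inv_mem h1) hg, M.α_inv h1, h2, h, List.toFinset_finRange, neg_add_cancel]
  obtain ⟨c, hc⟩ := M.of_α_zero (mul_mem (inv_mem h1) hg) h5
  refine ⟨w * M.zW c, mul_mem hw (ev_mem _ _ _ _ _ fun m _ => Subgroup.subset_closure (Or.inr ⟨1 * m, rfl⟩)), ?_⟩
  rw [map_mul, M.lift_zW, ← hc, mul_inv_cancel_left]

/-- Every element of the unipotent group is the value of a word in the conjugates. -/
theorem exists_word_UU {g : Cfsg.SU 3 F q} (hg : g ∈ M.UU) :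
    ∃ w ∈ Subgroup.closure ((Set.range fun i => cj H U i) ∪ Set.range fun i => cj H zw i),
      FreeGroup.lift M.gens w = g := by
  obtain ⟨A, B, D, h⟩ := M.span_powers (M.α g)
  obtain ⟨w, hw, e⟩ := M.exists_span_word hg (d := q - 1) le_rfl ![A, B, D] (by
    rw [h, Fin.sum_univ_three]; simp)
  refine ⟨w, Subgroup.closure_mono (Set.union_subset_union_left _ ?_) hw, e⟩
  rintro x ⟨n, i, -, rfl⟩
  exact ⟨_, rfl⟩

/-- The representatives of the suborbits of the first class. -/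
def μs (i : Fin 3) : F := M.μ ^ (i : ℕ)

theorem rep_cond (i : Fin 3) : M.μs i * σ (M.μs i) + M.β + σ M.β = 0 := by
  have h1 : M.μ * σ M.μ = 1 := M.μ_norm
  rw [μs, map_pow, ← mul_pow, h1, one_pow]
  linear_combination M.β_trace

/-- The constants entering the relators. -/
structure Choice where
  j : ℕ
  l : ℕ
  hj : 0 < j
  hgen : ∀ a : F, M.τ a = a → ∃ P : ℤ[X], aeval (M.ρ ^ j) P = a
  hl : M.ν ^ l = 1 + M.ρ ^ j
  mm : ℤ[X]
  hmm : aeval M.ν mm = 0
  hker : ∀ P : ℤ[X], aeval M.ν P = 0 → P ∈ Ideal.span ({Polynomial.C (M.p : ℤ), mm} : Set ℤ[X])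
  R₀ : List (FreeGroup (Fin 3))
  hR₀ : R₀.length ≤ 5 ∧ IsModuleRels M.ρ₀ R₀
  w₂ : FreeGroup (Fin 3)
  hw₂ : w₂ ∈ Subgroup.closure (progs H U (j * (q + 1)) 2 ∪ Set.range fun i => cj H zw i) ∧
    FreeGroup.lift M.gens w₂ = cj M.gh M.gu 2
  w₃ : FreeGroup (Fin 3)
  hw₃ : w₃ ∈ Subgroup.closure (progs H U (q - 1) 3 ∪ Set.range fun i => cj H zw i) ∧
    FreeGroup.lift M.gens w₃ = cj M.gh M.gu 3
  cell : Fin 4 → FreeGroup (Fin 3) × FreeGroup (Fin 3) × ℕ × FreeGroup (Fin 3)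
  hcell : ∀ i, FreeGroup.lift M.gens (T * (cell i).1 * T *
      ((cell i).2.1 * H ^ (cell i).2.2.1 * T * (cell i).2.2.2)⁻¹) = 1 ∧
    (∀ w ∈ [(cell i).1, (cell i).2.1, (cell i).2.2.2],
      w ∈ Subgroup.closure ((Set.range fun i => cj H U i) ∪ Set.range fun i => cj H zw i)) ∧
    FreeGroup.lift M.gens (cell i).1 = Fin.cases (M.ψT (Multiplicative.ofAdd 1))
      (fun s => M.X (M.μs s) M.β (M.rep_cond s)) i

theorem exists_choice : Nonempty M.Choice := by
  classical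
  haveI := M.hc
  haveI : Fact M.p.Prime := ⟨M.hp⟩
  let _ : Algebra (ZMod M.p) F := ZMod.algebra F M.p
  haveI : Module.Finite (ZMod M.p) F := Module.Finite.of_finite
  obtain ⟨j, hj, hne, hgen⟩ := M.exists_step
  obtain ⟨i, hi⟩ := M.exists_fix (1 + M.ρ ^ j) (by
    show σ (1 + M.ρ ^ j) = _
    have h1 : σ M.ρ = M.ρ := M.ρ_fix
    rw [map_add, map_one, map_pow, h1]) (by rwa [add_comm] at hne)
  obtain ⟨mm, hm, -, -⟩ := exists_monic_lift M.p (minpoly.monic (Algebra.IsIntegral.isIntegral M.ν (R := ZMod M.p)))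
  have hm0 : aeval M.ν mm = 0 := by
    rw [← aeval_map_algebraMap (ZMod M.p) M.ν mm, algebraMap_int_eq, hm, minpoly.aeval]
  have hker : ∀ P : ℤ[X], aeval M.ν P = 0 → P ∈ Ideal.span ({Polynomial.C (M.p : ℤ), mm} : Set ℤ[X]) := fun P hP => by
    have := ker_le_span M.p M.ν M.ν 1 (pow_one _).symm Polynomial.X (aeval_X _) mm hm P hP
    refine Ideal.span_le.2 ?_ this
    rintro Q (rfl | rfl | rfl)
    · exact Ideal.subset_span (Or.inl rfl)
    · rw [pow_one, comp_X]; exact Ideal.subset_span (Or.inr rfl)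
    · rw [pow_one, comp_X, sub_self]; exact zero_mem _
  obtain ⟨R₀, hR₀l, hR₀⟩ : ∃ R : List (FreeGroup (Fin 3)), R.length ≤ 5 ∧ IsModuleRels M.ρ₀ R := by
    haveI := Fintype.ofFinite (F0 M.hF)
    haveI : CharP (F0 M.hF) M.p :=
      (RingHom.charP_iff ((F0 M.hF).subtype) Subtype.val_injective M.p).2 M.hc
    obtain ⟨f, -, hf⟩ := FiniteField.card (F0 M.hF) M.p
    obtain ⟨R, h1, h2⟩ := exists_moduleRels M.p hf M.ρ₀ M.exists_zpoly fun a ha => by
      obtain ⟨i, hi⟩ := M.exists_fix a a.2 (fun e => ha (Subtype.ext e))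
      exact ⟨i + i, Subtype.ext (by
        show (a : F) * a = M.ρ ^ (i + i)
        rw [pow_add, hi])⟩
    exact ⟨R, h1.trans (by split_ifs <;> omega), h2⟩
  have key2 : ∀ g ∈ M.UU, ∃ w ∈ Subgroup.closure (progs H U (j * (q + 1)) 2 ∪ Set.range fun i => cj H zw i),
      FreeGroup.lift M.gens w = g := by
    intro g hg
    obtain ⟨c, d, hc, hd, e⟩ := M.span_two (M.α g)
    obtain ⟨A, hA⟩ := hgen c hc
    obtain ⟨B, hB⟩ := hgen d hd
    refine M.exists_span_word hg (by omega) ![A, B] ?_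
    have h4 : M.ν ^ (j * (q + 1)) = M.ρ ^ j := by
      rw [mul_comm, pow_mul, show M.ν ^ (q + 1) = M.ρ from M.ν_pow_succ]
    rw [Fin.sum_univ_two, e]
    simp [h4, hA, hB]
  have key3 : ∀ g ∈ M.UU, ∃ w ∈ Subgroup.closure (progs H U (q - 1) 3 ∪ Set.range fun i => cj H zw i),
      FreeGroup.lift M.gens w = g := by
    intro g hg
    obtain ⟨A, B, D, e⟩ := M.span_powers (M.α g)
    exact M.exists_span_word hg le_rfl ![A, B, D] (by rw [e, Fin.sum_univ_three]; simp)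
  have hcell : ∀ (a s : F) (hs : a * σ a + s + σ s = 0), s ≠ 0 →
      ∃ c : FreeGroup (Fin 3) × FreeGroup (Fin 3) × ℕ × FreeGroup (Fin 3),
        FreeGroup.lift M.gens (T * c.1 * T * (c.2.1 * H ^ c.2.2.1 * T * c.2.2.2)⁻¹) = 1 ∧
        (∀ w ∈ [c.1, c.2.1, c.2.2.2],
          w ∈ Subgroup.closure ((Set.range fun i => cj H U i) ∪ Set.range fun i => cj H zw i)) ∧
        FreeGroup.lift M.gens c.1 = M.X a s hs := by
    intro a s hs hs0
    obtain ⟨w, hw, ew⟩ := M.exists_word_UU (g := M.X a s hs) ⟨_, _, _, rfl⟩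
    obtain ⟨w1, hw1, ew1⟩ := M.exists_word_UU (g := M.X _ _ (M.swap_cond hs hs0 s (Or.inl rfl))) ⟨_, _, _, rfl⟩
    obtain ⟨w2, hw2, ew2⟩ := M.exists_word_UU (g := M.X _ _ (M.swap_cond hs hs0 (σ s) (Or.inr rfl))) ⟨_, _, _, rfl⟩
    have hσ : σ s ≠ 0 := by simpa using hs0
    obtain ⟨jj, hjj⟩ := M.tor_eq (Units.mk0 (σ s)⁻¹ (inv_ne_zero hσ))
    refine ⟨(w, w1, jj, w2), ?_, ?_, ew⟩
    · simp only [map_mul, map_inv, map_pow, M.lift_T, M.lift_H, ew, ew1, ew2]
      rw [mul_inv_eq_one, M.bruhat hs hs0 (Units.mk0 (σ s)⁻¹ (inv_ne_zero hσ)) rfl, hjj]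
    · simp only [List.mem_cons, List.not_mem_nil, or_false]
      rintro x (rfl | rfl | rfl) <;> assumption
  have hβ : M.β ≠ 0 := fun e => by
    have := M.β_trace
    rw [e, map_zero, add_zero] at this
    norm_num at this
  have hcell' : ∀ i : Fin 4, ∃ c : FreeGroup (Fin 3) × FreeGroup (Fin 3) × ℕ × FreeGroup (Fin 3),
      FreeGroup.lift M.gens (T * c.1 * T * (c.2.1 * H ^ c.2.2.1 * T * c.2.2.2)⁻¹) = 1 ∧
        (∀ w ∈ [c.1, c.2.1, c.2.2.2],
          w ∈ Subgroup.closure ((Set.range fun i => cj H U i) ∪ Set.range fun i => cj H zw i)) ∧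
        FreeGroup.lift M.gens c.1 = Fin.cases (M.ψT (Multiplicative.ofAdd 1))
          (fun s => M.X (M.μs s) M.β (M.rep_cond s)) i := by
    intro i
    refine Fin.cases ?_ (fun s => ?_) i
    · obtain ⟨c, h1, h2, h3⟩ := hcell 0 (((1 : F0 M.hF) : F) * M.δ) (M.zcond (1 : F0 M.hF).2) (by simp [M.δ_ne])
      exact ⟨c, h1, h2, h3.trans (M.ψT_apply 1).symm⟩
    · obtain ⟨c, h1, h2, h3⟩ := hcell (M.μs s) M.β (M.rep_cond s) hβ
      exact ⟨c, h1, h2, h3⟩
  choose cell hcell'' using hcell'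
  obtain ⟨w₂, h₂⟩ := key2 _ (M.conj_UU M.gu_mem 2)
  obtain ⟨w₃, h₃'⟩ := key3 _ (M.conj_UU M.gu_mem 3)
  exact ⟨⟨j, (q + 1) * i, hj, hgen, by
      rw [pow_mul, show M.ν ^ (q + 1) = M.ρ from M.ν_pow_succ]; exact hi.symm, mm, hm0, hker, R₀, ⟨hR₀l, hR₀⟩,
    w₂, h₂, w₃, h₃', cell, hcell''⟩⟩

namespace Choice

variable {M} (W : M.Choice)

/-- The embedding of the words of the module presentation. -/
def ι : FreeGroup (Fin 3) →* FreeGroup (Fin 3) := FreeGroup.lift ![zw, 1, H]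

/-- Basic relators. -/
def basic (_ : M.Choice) : List (FreeGroup (Fin 3)) := [H ^ (q ^ 2 - 1), T * T, T * H * T * H ^ q]

/-- Relators making the centre central. -/
def cent : List (FreeGroup (Fin 3)) :=
  [zw * U * zw⁻¹ * U⁻¹, zw * cj H U 1 * zw⁻¹ * (cj H U 1)⁻¹, zw * cj H U 2 * zw⁻¹ * (cj H U 2)⁻¹,
    cj H U 3 * W.w₃⁻¹]

/-- Relators for the quotient by the centre. -/
noncomputable def quo : List (FreeGroup (Fin 3)) :=
  [M.modZ (U ^ (M.p : ℤ)), M.modZ (ev H U 1 W.mm),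
    M.modZ (cj H U W.l * (U * cj H U (W.j * (q + 1)))⁻¹),
    M.modZ (U * cj H U (W.j * (q + 1)) * U⁻¹ * (cj H U (W.j * (q + 1)))⁻¹),
    M.modZ (U * cj H U (W.j * (q + 1) + 1) * U⁻¹ * (cj H U (W.j * (q + 1) + 1))⁻¹),
    cj H U 2 * W.w₂⁻¹]

/-- Relators for the cells. -/
def cells : List (FreeGroup (Fin 3)) :=
  List.ofFn fun i => T * (W.cell i).1 * T * ((W.cell i).2.1 * H ^ (W.cell i).2.2.1 * T * (W.cell i).2.2.2)⁻¹

/-- The relators. -/
noncomputable def rels : List (FreeGroup (Fin 3)) := W.basic ++ W.R₀.map ι ++ W.cent ++ W.quo ++ W.cells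

theorem length_rels : W.rels.length ≤ 22 := by
  have := W.hR₀.1
  simp only [rels, basic, cent, quo, cells, List.length_append, List.length_map, List.length_cons, List.length_nil,
    List.length_ofFn]
  omega

theorem ι_U : ι U = zw := by simp [ι, U]

theorem ι_H : ι H = H := by simp [ι, H]

theorem holds : ∀ r ∈ W.rels, FreeGroup.lift M.gens r = 1 := by
  simp only [rels, basic, cent, quo, cells, List.forall_mem_append, List.forall_mem_cons, List.forall_mem_map,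
    List.forall_mem_ofFn_iff]
  have hz : ∀ i, Commute (FreeGroup.lift M.gens zw) (cj M.gh M.gu i) := fun i => by
    obtain ⟨hs, h1⟩ := M.cj_gu i
    rw [M.lift_zw, M.ψT_apply, h1, commute_iff_eq, M.X_mul, M.X_mul]
    exact M.X_congr _ (add_comm _ _) (by simp [add_comm]) _
  have hcomm : ∀ i, FreeGroup.lift M.gens (zw * cj H U i * zw⁻¹ * (cj H U i)⁻¹) = 1 := fun i => by
    simp only [map_mul, map_inv, map_cj, M.lift_H, M.lift_U]
    rw [(hz i).eq, mul_inv_cancel_right, mul_inv_cancel]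
  have hZ0 := hcomm 0
  rw [cj_zero] at hZ0
  refine ⟨⟨⟨⟨⟨?_, ?_, ?_, fun _ h => by simp at h⟩, ?_⟩, hZ0, hcomm 1, hcomm 2, ?_, fun _ h => by simp at h⟩,
    M.lift_modZ _, M.lift_modZ _, M.lift_modZ _, M.lift_modZ _, M.lift_modZ _, ?_, fun _ h => by simp at h⟩,
    fun i => (W.hcell i).1⟩
  · rw [map_pow, M.lift_H, M.gh_pow_N]
  · rw [map_mul, M.lift_T, M.nn_sq]
  · rw [map_mul, map_mul, map_mul, map_pow, M.lift_T, M.lift_H, gh, M.nn_tor, M.tor_pow, M.tor_mul,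
      show (Units.map (σ : F →* F) M.ω)⁻¹ * M.ω ^ q = 1 from Units.ext (by
        simp only [Units.val_mul, Units.val_inv_eq_inv_val, Units.coe_map, Units.val_pow_eq_pow_val, Units.val_one,
          MonoidHom.coe_coe, frob_apply]
        exact inv_mul_cancel₀ (pow_ne_zero _ M.ω.ne_zero)), M.tor_one]
  · intro r hr
    exact W.hR₀.2.2 (Cfsg.SU 3 F q) ((FreeGroup.lift M.gens).comp ι) M.ψT
      (by rw [MonoidHom.comp_apply, ι_U, M.lift_zw])
      (fun a => by rw [MonoidHom.comp_apply, ι_H, M.lift_H, M.ψT_conj]) r hr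
  · rw [map_mul, map_inv, W.hw₃.2, map_cj, M.lift_H, M.lift_U, mul_inv_cancel]
  · rw [map_mul, map_inv, W.hw₂.2, map_cj, M.lift_H, M.lift_U, mul_inv_cancel]

end Choice

end Three

end CfsgLib.SUShort
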